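import Cfsg.Agent.H62.MaxClAut
import Cfsg.Agent.H62.MaxCl4
import Cfsg.Agent.H42.Fusion
import Cfsg.Agent.H49.Core

/-! Fusion of uniform elements of a Sylow subgroup of maximal class. -/

set_option autoImplicit false

namespace Cfsg.Agent.H59.MF

open Subgroup Cfsg Cfsg.Agent.H62 Cfsg.Agent.H49
open scoped commutatorElement

section PGroup

variable {H : Type*} [Group H] [Finite H] {p n : ℕ} [hp : Fact p.Prime] (h : MC H p n)
include h

theorem mem_of_pow {K : Subgroup H} {s : H} {i : ℕ} (hi : ¬ p ∣ i) (hs : s ^ i ∈ K) : s ∈ K := by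
  obtain ⟨k, hk⟩ := (IsPGroup.iff_orderOf.1 h.isPGroup) s
  obtain ⟨m, hm⟩ := exists_pow_eq_self_of_coprime (x := s) (n := i)
    (hk ▸ ((Nat.Prime.coprime_iff_not_dvd hp.out).2 hi).symm.pow_right k)
  exact hm ▸ pow_mem hs m

theorem sup_ne_top {X : Subgroup H} (hX : X ≠ ⊤) : X ⊔ LL H 1 ≠ ⊤ := fun e =>
  hX (frattini_nongenerating (eq_top_iff.2
    (e.ge.trans (sup_le_sup_left (H3.commutator_le_frattini h.isPGroup) _))))

/-- A uniform element outside a given proper subgroup. -/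
theorem exists_unif_not_mem {R : Subgroup H} (hR : R ≠ ⊤) : ∃ s, Unif s (n - 1) ∧ s ∉ R := by
  obtain ⟨s, hs⟩ := h.exists_unif
  by_cases hsR : s ∈ R
  swap
  · exact ⟨s, hs, hsR⟩
  obtain ⟨t, -, ht⟩ := SetLike.exists_of_lt (lt_top_iff_ne_top.2 (sup_ne_top h hR))
  have h0 : ∀ i : ℕ, s ^ i * t ∉ R ⊔ LL H 1 := fun i e =>
    ht ((mul_mem_cancel_left (mem_sup_left (pow_mem hsR i))).1 e)
  have h1 : ∃ i, Unif (s ^ i * t) (min (p + 1) (n - 1)) := by
    by_contra hc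
    simp only [Unif, not_exists, not_forall, not_not] at hc
    choose f hf hf' using hc
    have key : ∀ i j, i < j → j < p → f i ≠ f j := fun i j hij hj e => by
      have h2 := mul_mem (hf' j) (inv_mem (e ▸ hf' i))
      rw [mul_inv_rev, mul_assoc, mul_inv_cancel_left, ← pow_sub _ hij.le] at h2
      exact hs _ ((hf j).trans (min_le_right _ _))
        (mem_of_pow h (Nat.not_dvd_of_pos_of_lt (by omega) (by omega)) h2)
    obtain ⟨i, hi, j, hj, hij, e⟩ := Finset.exists_ne_map_eq_of_card_lt_of_maps_to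
      (s := Finset.range p) (t := Finset.Icc 1 (p - 1)) (f := f)
      (by rw [Nat.card_Icc, Finset.card_range]; have := hp.out.pos; omega) fun i _ => by
        have h2 := (hf i).trans (min_le_left _ _)
        have h3 : f i ≠ 0 := fun e => h0 i (mem_sup_right (by
          have := hf' i
          rwa [e, h.KK_zero] at this))
        simp only [Finset.coe_Icc, Set.mem_Icc]
        omega
    rw [Finset.mem_range] at hi hj
    rcases lt_or_gt_of_ne hij with k | k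
    exacts [key i j k hj e, key j i k hi e.symm]
  obtain ⟨i, hi⟩ := h1
  refine ⟨s ^ i * t, ?_, fun e => h0 i (mem_sup_left e)⟩
  have : ∀ m, m + 1 ≤ n → Unif (s ^ i * t) m := by
    intro m
    induction m with
    | zero => exact fun _ => hi.mono (Nat.zero_le _)
    | succ m ih =>
      intro hn
      rcases le_or_gt (m + 1) (p + 1) with e | e
      · exact hi.mono (by omega)
      · exact h.unif_succ (ih (by omega)) (by omega) hn
  have h3 := h.three_le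
  exact this (n - 1) (by omega)

theorem unif_or {X : Subgroup H} (hX : X ≠ ⊤) {a b : H} (ha : a ∈ X) (hb : b ∈ X)
    (hu : Unif a (n - 1)) : Unif b (n - 1) ∨ b ∈ LL H 1 := by
  have h3 := h.three_le
  have h1 := h.card_le_mul_inf (sup_ne_top h hX)
  rw [inf_eq_right.2 le_sup_right] at h1
  obtain ⟨i, hi⟩ := MC.exists_pow_of_card h.isPGroup le_sup_right h1 (mem_sup_left ha)
    (h.KK_zero ▸ hu 0 (by omega)) (mem_sup_left hb)
  by_cases hd : p ∣ i
  · obtain ⟨j, rfl⟩ := hd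
    refine Or.inr ((mul_mem_cancel_left (inv_mem ?_)).1 hi)
    rw [pow_mul]
    exact pow_mem (h.pow_mem_one a) j
  · refine Or.inl fun k hk e => hu k hk (mem_of_pow h hd ?_)
    exact inv_mem_iff.1 ((mul_mem_cancel_right e).1 (LL_one_le_KK k hi))

theorem normal_cases (R : Subgroup H) [R.Normal] (hR : p ^ 2 ≤ Nat.card R) :
    LL H 1 ≤ R ∨ ∃ k, 1 ≤ k ∧ k + 3 ≤ n ∧ R = LL H k := by
  have h3 := h.three_le
  obtain ⟨r, hr⟩ := h.isPGroup.index R
  rcases le_or_gt 2 r with e | e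
  · have hc : Group.nilpotencyClass H = n - 1 := by
      haveI := h.isPGroup.isNilpotent
      have h1 := h.ne_bot
      have h2 := h.LL_eq_bot (k := n - 1) le_rfl
      rw [Ne, Subgroup.lowerCentralSeries_eq_bot_iff_nilpotencyClass_le] at h1
      rw [Subgroup.lowerCentralSeries_eq_bot_iff_nilpotencyClass_le] at h2
      omega
    refine Or.inr ⟨r - 1, by omega, ?_, (S0662.result n h.card hc h3).1 R r e hr⟩
    have h1 := R.card_mul_index
    rw [hr, h.card] at h1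
    have h2 : p ^ (2 + r) ≤ p ^ n := by
      rw [pow_add, ← h1]
      exact Nat.mul_le_mul_right _ hR
    have := (Nat.pow_le_pow_iff_right hp.out.one_lt).1 h2
    omega
  · haveI : IsCyclic (H ⧸ R) := isCyclic_of_card_dvd_prime (p := p) (by
      rw [← index_eq_card, hr]
      exact (pow_dvd_pow p (by omega : r ≤ 1)).trans (pow_one p).dvd)
    exact Or.inl (Normal.quotient_commutative_iff_commutator_le.1 inferInstance)

theorem exists_deep {X : Subgroup H} {a b : H} (ha : a ∈ X) (hu : Unif a (n - 1)) (hb : b ∈ X)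
    (hb1 : b ∈ LL H 1) {k : ℕ} (hk : k + 3 ≤ n) (hb2 : b ∉ LL H k) :
    ∃ w ∈ X, w ∈ LL H k ∧ w ∉ LL H (n - 2) ∧ w * b = b * w := by
  classical
  have hex : ∃ j, b ∉ LL H (j + 1) := ⟨k, fun e => hb2 (LL_anti (Nat.le_succ k) e)⟩
  set j := Nat.find hex
  have j0 : j ≠ 0 := fun e => Nat.find_spec hex (by rw [show Nat.find hex = 0 from e]; exact hb1)
  have j1 : b ∈ LL H j := by
    have := Nat.find_min hex (m := j - 1) (by omega)
    rwa [not_not, Nat.sub_add_cancel (by omega)] at this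
  have j2 : j < k := lt_of_not_ge fun e => hb2 (LL_anti e j1)
  have w1 := tOp_mem a j1 (n - 3 - j)
  have w2 := h.tOp_not_mem hu (by omega) j1 (Nat.find_spec hex) (n - 3 - j) (by omega)
  rw [show j + (n - 3 - j) = n - 3 by omega] at w1 w2
  refine ⟨_, ?_, LL_anti (by omega) w1, by rwa [show n - 2 = n - 3 + 1 by omega], ?_⟩
  · generalize n - 3 - j = r
    induction r with
    | zero => exact hb
    | succ r ih =>
      rw [Function.iterate_succ_apply', tOp, commutatorElement_def]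
      exact mul_mem (mul_mem (mul_mem (inv_mem ha) ih) (inv_mem (inv_mem ha))) (inv_mem ih)
  · have := LL_comm w1 hb1
    rwa [h.LL_eq_bot (by omega), mem_bot, commutatorElement_eq_one_iff_mul_comm] at this

theorem small_normal (R : Subgroup H) [R.Normal] (hR : Nat.card R = p) :
    R ≤ center H ∧ ∃ y w : H, y⁻¹ * w * y * w⁻¹ ∈ R ∧ y⁻¹ * w * y * w⁻¹ ≠ 1 := by
  have h3 := h.three_le
  have h0 : R ⊓ 𝒞((⊤ : Subgroup H)) ≠ ⊥ := inf_center_ne_bot_of_nilpotent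
    (nilpotent_of_le (K := ⊤) (h.isPGroup.to_subgroup ⊤).isNilpotent le_rfl) le_top
    (normal_iff_top_le_norm.1 inferInstance) (ne_bot_of_prime_card (hR ▸ hp.out))
  have h1 : R ≤ center H := by
    have := (inf_eq_bot_or_le_of_prime_card (hR ▸ hp.out) _).resolve_left h0
    rwa [coe_top, centralizer_univ] at this
  have h2 := eq_of_le_of_card_eq (h1.trans h.center_le) (hR.trans h.card_center_LL.symm)
  refine ⟨h1, ?_⟩
  by_contra hc
  push Not at hc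
  refine h.ne_bot ?_
  rw [show n - 2 = n - 3 + 1 by omega]
  refine eq_bot_iff.2 (commutator_le.2 fun y hy w _ => ?_)
  have := hc y⁻¹ w (by
    rw [h2, show n - 2 = n - 3 + 1 by omega, inv_inv]
    exact LL_comm' hy w)
  rwa [inv_inv] at this

end PGroup

variable {G : Type*} [Group G] [Finite G] {p n : ℕ}

/-- Burnside's transfer theorem in a subgroup -/
theorem burnside (hp : p.Prime) {P M : Subgroup G} (hP : IsSylowOf p P M)
    (h : M ⊓ 𝒩(P) ≤ 𝒞(P)) : IsSdp (piCoreOf {p}ᶜ M) P M := by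
  haveI := Fact.mk hp
  obtain ⟨Q, rfl⟩ := exists_sylow_of hp hP
  have hN : normalizer ((Q : Subgroup M) : Set M) ≤ centralizer ((Q : Subgroup M) : Set M) :=
    fun g hg => by
      have h1 : (g : G) ∈ 𝒩((Q : Subgroup M).map M.subtype) := by
        rw [mem_norm_iff_cj, ← map_subtype_cj, cj_eq_of_mem_norm hg]
      refine mem_centralizer_iff.2 fun x hx => Subtype.ext ?_
      exact mem_centralizer_iff.1 (h ⟨g.2, h1⟩) x (mem_map_of_mem _ hx)
  have hc := MonoidHom.ker_transferSylow_isComplement' Q hN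
  set K := (MonoidHom.transferSylow Q hN).ker
  have hK : IsPiHallOf {p}ᶜ K ⊤ := hall_mk le_top
    ((isPi_compl_singleton hp).2 (MonoidHom.not_dvd_card_ker_transferSylow Q hN)) (by
      rw [relIndex_top_right, hc.symm.index_eq_card]
      exact (isPi_of_isPGroup hp Q.isPGroup').compl_compl)
  have hK' := hall_map_subtype_top.2 hK
  rw [hK'.piCoreOf_eq (norm_map_subtype K)]
  exact hK'.isSdp (norm_map_subtype K) hP.compl_compl

variable [hp : Fact p.Prime] (P : Sylow p G)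

theorem sylow_inf (E : Subgroup G) [hE : E.Normal] : IsSylowOf p (E ⊓ P) E :=
  inf_comm E _ ▸ (sylowOf_top hp.out P).inf_normal le_top (normal_iff_top_le_norm.1 hE)

variable (h : MC (P : Subgroup G) p n)
include h

/-- Uniform elements outside a normal subgroup of order divisible by `p ^ 2` stay uniform. -/
theorem unif_conj (E : Subgroup G) [hE : E.Normal] (hR : p ^ 2 ≤ Nat.card ↥(E ⊓ P)) {a g : G}
    (ha : a ∈ (P : Subgroup G)) (hg : g * a * g⁻¹ ∈ (P : Subgroup G)) (hu : Unif (⟨a, ha⟩ : P) (n - 1))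
    (haE : a ∉ E) : Unif (⟨g * a * g⁻¹, hg⟩ : P) (n - 1) := by
  let U : G → Prop := fun x => x ∉ E ∧ ∃ hx : x ∈ (P : Subgroup G), Unif (⟨x, hx⟩ : P) (n - 1)
  have nE : ∀ {x : G} (m : G), x ∉ E → m * x * m⁻¹ ∉ E := fun m hx e => hx (by
    simpa [mul_assoc] using hE.conj_mem _ e m⁻¹)
  have k1 : ∀ m ∈ 𝒩((P : Subgroup G)), ∀ x, U x → U (m * x * m⁻¹) := by
    rintro m hm x ⟨h1, hx, h2⟩
    refine ⟨nE m h1, conj_mem_of_norm le_rfl hm hx, fun k hk e => h2 k hk ?_⟩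
    have := aut_mem_KK (normalizerMonoidHom (P : Subgroup G) ⟨m, hm⟩⁻¹) e
    have e2 : (normalizerMonoidHom (P : Subgroup G) ⟨m, hm⟩⁻¹) ⟨_, conj_mem_of_norm le_rfl hm hx⟩ =
        ⟨x, hx⟩ := Subtype.ext (show m⁻¹ * (m * x * m⁻¹) * m⁻¹⁻¹ = x by group)
    rwa [e2] at this
  have k2 : ∀ X : Subgroup G, X ≤ P → (P : Subgroup G) ⊓ 𝒞(X) ≤ X → ∀ m ∈ 𝒩(X), ∀ x ∈ X, U x →
      U (m * x * m⁻¹) := by
    rintro X hX hc m hm x hx hU
    rcases hX.eq_or_lt with rfl | hlt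
    · exact k1 m hm x hU
    obtain ⟨h1, hxP, h2⟩ := hU
    have hb := conj_mem_of_norm le_rfl hm hx
    have hX' : X.subgroupOf P ≠ ⊤ := fun e => hlt.not_ge (subgroupOf_eq_top.1 e)
    refine ⟨nE m h1, hX hb, (unif_or h hX' (a := ⟨x, hxP⟩) (b := ⟨_, hX hb⟩) hx hb h2).resolve_right
      fun hb1 => ?_⟩
    rcases normal_cases h (E.subgroupOf P) (by rwa [card_subgroupOf]) with e | ⟨k, k1, k3, e⟩
    · exact nE m h1 (e hb1)
    obtain ⟨w, w1, w2, w3, w4⟩ := exists_deep h (X := X.subgroupOf P) (a := ⟨x, hxP⟩) hx h2 hb hb1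
      k3 (e ▸ nE m h1)
    have z1 : X ⊓ E ⊓ 𝒞[x] ≤ (LL P (n - 2)).map (P : Subgroup G).subtype := fun y hy => by
      refine ⟨⟨y, hX hy.1.1⟩, ?_, rfl⟩
      refine h.mem_of_comm h2 (LL_anti k1 (e ▸ hy.1.2)) ?_
      rw [commutatorElement_eq_one_iff_mul_comm.2 (Subtype.ext (mem_cent1.1 hy.2))]
      exact one_mem _
    have z2 : (LL P (n - 2)).map (P : Subgroup G).subtype ≤ X ⊓ E ⊓ 𝒞[m * x * m⁻¹] := by
      rintro _ ⟨y, hy, rfl⟩
      have hz : ∀ v ∈ (P : Subgroup G), v * y = y * v := fun v hv =>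
        congrArg Subtype.val (mem_center_iff.1 (h.le_center hy) ⟨v, hv⟩)
      exact ⟨⟨hc ⟨y.2, fun v hv => hz v (hX hv)⟩, e.ge (LL_anti (by omega) hy)⟩,
        mem_cent1.2 (hz _ (hX hb)).symm⟩
    have z3 := card_le_of_le z1
    rw [← card_cj m, cj_inf, cj_inf, cj_cent1, cj_eq_of_mem_norm hm,
      cj_eq_of_mem_norm (normal_iff_top_le_norm.1 hE trivial)] at z3
    obtain ⟨y, hy, e'⟩ := (eq_of_le_of_card_ge z2 z3).ge
      (show (w : G) ∈ X ⊓ E ⊓ 𝒞[m * x * m⁻¹] from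
        ⟨⟨w1, e.ge w2⟩, mem_cent1.2 (congrArg Subtype.val w4)⟩)
    exact w3 (Subtype.ext e' ▸ hy)
  have back : ∀ m x : G, m⁻¹ * (m * x * m⁻¹) * m⁻¹⁻¹ = x := fun m x => by group
  have := H42.alperin P (fun x y => U x ↔ U y) (fun _ _ => Iff.symm) (fun _ _ _ => Iff.trans)
    (fun x _ s hs => ⟨k1 s (le_normalizer hs) x, fun e =>
      back s x ▸ k1 s⁻¹ (le_normalizer (inv_mem hs)) _ e⟩)
    (fun X hX _ hc _ m hm x hx => ⟨k2 X hX hc m hm x hx, fun e =>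
      back m x ▸ k2 X hX hc m⁻¹ (inv_mem hm) _ (conj_mem_of_norm le_rfl hm hx) e⟩) ha hg
  exact (this.1 ⟨haE, ha, hu⟩).2.2

theorem fact_cent (E : Subgroup G) [hE : E.Normal] (hR : p ^ 2 ≤ Nat.card ↥(E ⊓ P))
    (hP : ¬ (P : Subgroup G) ≤ E) :
    ∃ x ∈ (P : Subgroup G), (Nat.card 𝒞[x]).factorization p = 2 := by
  obtain ⟨⟨x, hx⟩, hu, hxE⟩ := exists_unif_not_mem h (R := E.subgroupOf P)
    fun e => hP (subgroupOf_eq_top.1 e)
  refine ⟨x, hx, ?_⟩
  have h3 := h.three_le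
  obtain ⟨T, hT, hT'⟩ := exists_sylowOf_ge
    ((isPi_of_isPGroup hp.out P.isPGroup').inf_left 𝒞[x]) inf_le_right
  obtain ⟨g, -, hg⟩ := sylowOf_subJ (sylowOf_top hp.out P) le_top hT.pi
  have hxT : x ∈ T := hT' ⟨hx, self_mem_cent1 x⟩
  have h1 := h.card_centralizer_le (unif_conj P h E hR hx (hg (conj_mem_cj.2 hxT)) hu hxE)
  have h2 : Nat.card T ≤ p ^ 2 := by
    rw [← card_cj g, ← card_subgroupOf_of_le hg]
    refine (card_le_of_le fun y hy => mem_cent1.2 (Subtype.ext ?_)).trans h1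
    exact mem_cent1.1 (cj_cent1 g x ▸ cj_mono g hT.le hy)
  have h4 : p < Nat.card T := by
    rw [← h.card_center_LL, ← card_map_of_injective (P : Subgroup G).subtype_injective]
    refine card_lt_of_lt (lt_of_le_of_ne ?_ fun e => ?_)
    · rintro _ ⟨y, hy, rfl⟩
      exact hT' ⟨y.2, mem_cent1.2
        (congrArg Subtype.val (mem_center_iff.1 (h.le_center hy) ⟨x, hx⟩)).symm⟩
    · obtain ⟨y, hy, e'⟩ := e.ge hxT
      obtain rfl : y = ⟨x, hx⟩ := Subtype.ext e'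
      exact hu 0 (by omega) (h.KK_zero ▸ LL_anti (show 1 ≤ n - 2 by omega) hy)
  obtain ⟨k, hk⟩ := (isPiNat_singleton hp.out (card_pos' T).ne').1 hT.pi
  have h5 : k = 2 := by
    rw [hk] at h2 h4
    have := (Nat.pow_le_pow_iff_right hp.out.one_lt).1 h2
    have := (Nat.pow_lt_pow_iff_right hp.out.one_lt).1 ((pow_one p).le.trans_lt h4)
    omega
  rw [← card_mul_relIndex hT.le, hk, h5, Nat.factorization_mul (pow_pos hp.out.pos 2).ne'
    (relIndex_pos _ _).ne', Finsupp.add_apply, hp.out.factorization_pow, Finsupp.single_eq_same,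
    Nat.factorization_eq_zero_of_not_dvd ((sylowOf_iff hp.out).1 hT).2.2]

/-- A normal subgroup whose Sylow subgroup has order `p` has a normal `p`-complement. -/
theorem norm_le_cent (E : Subgroup G) [hE : E.Normal] (hR : Nat.card ↥(E ⊓ P) = p) :
    E ⊓ 𝒩(E ⊓ (P : Subgroup G)) ≤ 𝒞(E ⊓ (P : Subgroup G)) := by
  obtain ⟨h1, ⟨y, hy⟩, ⟨w, hw⟩, h2, h3⟩ :=
    small_normal h (E.subgroupOf P) (by rwa [card_subgroupOf])
  have nE := normal_iff_top_le_norm.1 hE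
  set R := E ⊓ (P : Subgroup G) with hRd
  have c1 : (P : Subgroup G) ≤ 𝒞(R) := fun v hv r hr =>
    (congrArg Subtype.val (mem_center_iff.1 (h1 (x := ⟨r, hr.2⟩) hr.1) ⟨v, hv⟩)).symm
  have s1 : IsSylowOf p R (E ⊓ 𝒞(R)) :=
    (sylow_inf P E).sub (le_inf inf_le_left (inf_le_right.trans c1)) inf_le_left
  obtain ⟨K, k1, k2, k3⟩ : ∃ K : Subgroup G, 𝒞(R) ≤ 𝒩(K) ∧ K ⊓ R = ⊥ ∧
      ∀ c ∈ E ⊓ 𝒞(R), ∃ k ∈ K, ∃ r ∈ R, c = k * r := by
    have b := burnside hp.out s1 (inf_le_left.trans inf_le_right)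
    exact ⟨_, norm_piCoreOf _ (norm_inf (le_top.trans nE) le_normalizer),
      (isComplIn_iff.1 b.isComplIn).2, fun c hc => (mem_sup_of_norm_left (b.right_le.trans b.norm)).1
        (b.isProd.sup_eq.ge hc)⟩
  have k4 : ∀ g ∈ 𝒞(R), ∀ c ∈ E ⊓ 𝒞(R), g * c * g⁻¹ * c⁻¹ ∈ K := fun g hg c hc => by
    obtain ⟨k, hk, r, hr, rfl⟩ := k3 c hc
    have : g * (k * r) * g⁻¹ * (k * r)⁻¹ = g * k * g⁻¹ * k⁻¹ := by
      calc _ = g * k * (r * g⁻¹) * r⁻¹ * k⁻¹ := by group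
        _ = _ := by rw [(inv_mem hg : g⁻¹ ∈ 𝒞(R)) r hr]; group
    exact this ▸ mul_mem (conj_mem_of_norm k1 hg hk) (inv_mem hk)
  intro a ha
  have haE : a ∈ E := ha.1
  have cm : ∀ v ∈ (P : Subgroup G), a * v * a⁻¹ * v⁻¹ ∈ E ⊓ 𝒞(R) := fun v hv =>
    mem_inf.2 ⟨by simpa [mul_assoc] using mul_mem haE (hE.conj_mem _ (inv_mem haE) v),
      mul_mem (conj_mem_of_norm (norm_cent le_rfl) ha.2 (c1 hv)) (inv_mem (c1 hv))⟩
  have hr : y⁻¹ * w * y * w⁻¹ ∈ R := ⟨h2, (⟨y, hy⟩⁻¹ * ⟨w, hw⟩ * ⟨y, hy⟩ * ⟨w, hw⟩⁻¹ : P).2⟩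
  have hr1 : y⁻¹ * w * y * w⁻¹ ≠ 1 := fun e => h3 (Subtype.ext e)
  have hr' := conj_mem_of_norm le_rfl ha.2 hr
  have hd := cm y hy
  have hc := inv_mem (cm w hw)
  have e1 : a * (y⁻¹ * w * y * w⁻¹) * a⁻¹ * (y⁻¹ * w * y * w⁻¹)⁻¹ = 1 := by
    refine mem_bot.1 (k2.le (mem_inf.2 ⟨?_, mul_mem hr' (inv_mem hr)⟩))
    have m := mul_mem (k4 y (c1 hy) _ hc) (conj_mem_of_norm' k1 hd.2
      (mul_mem (inv_mem (k4 _ hc.2 _ hd)) (k4 w (c1 hw) _ hd)))
    have I : w * (a * y * a⁻¹ * y⁻¹) * w⁻¹ = (a * w * a⁻¹ * w⁻¹)⁻¹ * (a * y * a⁻¹ * y⁻¹) * y *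
        (a * (y⁻¹ * w * y * w⁻¹) * a⁻¹ * (a * w * a⁻¹ * w⁻¹)⁻¹⁻¹) * (y⁻¹ * w * y * w⁻¹)⁻¹ * y⁻¹ := by
      group
    have i2 := (inv_mem (c1 hy) : y⁻¹ ∈ 𝒞(R)) _ (mul_mem hr' (inv_mem hr))
    rw [(inv_mem hc.2 : _ ∈ 𝒞(R)) _ hr'] at I
    rw [I] at m
    generalize a * (y⁻¹ * w * y * w⁻¹) * a⁻¹ = r' at m i2 ⊢
    generalize (y⁻¹ * w * y * w⁻¹)⁻¹ = r at m i2 ⊢
    generalize (a * w * a⁻¹ * w⁻¹)⁻¹ = c at m
    generalize a * y * a⁻¹ * y⁻¹ = d at m
    have : y * c * y⁻¹ * c⁻¹ * (d⁻¹ * ((c * d * c⁻¹ * d⁻¹)⁻¹ *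
        (c * d * y * (c⁻¹ * r') * r * y⁻¹ * d⁻¹)) * d) = r' * r := by
      calc _ = y * (r' * r * y⁻¹) := by group
        _ = _ := by rw [i2]; group
    rwa [this] at m
  have e2 : zpowers (y⁻¹ * w * y * w⁻¹) = R :=
    (eq_bot_or_eq_of_prime_card (hR ▸ hp.out) (zpowers_le_of_mem hr)).resolve_left
      (by rwa [zpowers_eq_bot])
  rw [← e2, cent_zpowers, mem_cent1]
  exact mul_inv_eq_iff_eq_mul.1 (mul_inv_eq_one.1 e1)

end Cfsg.Agent.H59.MF
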