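/-
A noncyclic group `A` of order `q²` acting coprimely with abelian centralizers and no fixed points:
the derived subgroup of a solvable invariant subgroup is nilpotent.
-/
import Cfsg.Agent.H45.Min
import Cfsg.Agent.H45.Trans
import Cfsg.Agent.H49.Frob
import Cfsg.Agent.BG.L1_2

set_option autoImplicit false
set_option linter.unusedSectionVars false

namespace Cfsg.Agent.H59

open Subgroup Cfsg.Agent.H49 Cfsg.Agent.H45 Cfsg.Agent.H50
open scoped commutatorElement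

universe u

variable {X : Type u} [Group X] [Finite X] {q : ℕ} {A H K B W V : Subgroup X} {a b c : X}

/-- `A ≅ q²` acts coprimely on `H` and the centralizers of its non-identity elements are abelian. -/
structure AC (q : ℕ) (A H : Subgroup X) : Prop where
  prime : q.Prime
  elem : IsElem q 2 A ⊤
  norm : A ≤ 𝒩(H)
  pi : IsPi {q}ᶜ H
  ab : ∀ a ∈ A, a ≠ 1 → H ⊓ 𝒞[a] ≤ 𝒞(H ⊓ 𝒞[a])

/-- a Frobenius group acting without kernel-fixed points: the fixed points of the complement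
generate -/
theorem frob_gen {R U : Subgroup X} (hRK : R ≤ 𝒩(K)) (hreg : Semiregular K R)
    (hn : K ⊔ R ≤ 𝒩(W)) (hW : Group.IsSolvable W)
    (hc : (Nat.card W).Coprime (Nat.card ↥(K ⊔ R))) (h0 : W ⊓ 𝒞(K) = ⊥) (hU : U ≤ W)
    (hnU : K ⊔ R ≤ 𝒩(U)) (hle : W ⊓ 𝒞(R) ≤ U) : U = W := by
  have h1 := frob_card_of_cent_eq_bot hRK hreg hn hW hc h0
  have h2 := frob_card_of_cent_eq_bot hRK hreg hnU (H49.solvable_of_le hW hU)
    (hc.of_dvd_left (card_dvd_of_le hU)) (le_bot_iff.1 (h0 ▸ inf_le_inf_right _ hU))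
  have h3 : U ⊓ 𝒞(R) = W ⊓ 𝒞(R) := le_antisymm (inf_le_inf_right _ hU) (le_inf hle inf_le_right)
  exact eq_of_le_of_card_eq hU (by rw [h1, h2, h3])

namespace AC

variable (h : AC q A H)
include h

theorem sub (hK : K ≤ H) (hn : A ≤ 𝒩(K)) : AC q A K :=
  ⟨h.prime, h.elem, hn, h.pi.of_le hK, fun a ha h1 => (inf_le_inf_right _ hK).trans
    ((h.ab a ha h1).trans (cent_anti (inf_le_inf_right _ hK)))⟩

theorem api : IsPi {q} A := h.elem.pi h.prime

theorem cop (hB : B ≤ A) (hK : K ≤ H) : (Nat.card B).Coprime (Nat.card K) :=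
  (h.api.of_le hB).coprime (h.pi.of_le hK)

theorem solA (hB : B ≤ A) : Group.IsSolvable B :=
  H49.solvable_of_le (solvable_of_abelian h.elem.abelian) hB

theorem gen (hK : K ≤ H) (hn : A ≤ 𝒩(K)) {Y : Subgroup X}
    (hY : ∀ a ∈ A, a ≠ 1 → K ⊓ 𝒞[a] ≤ Y) : K ≤ Y :=
  le_of_elements h.prime h.elem.elem h.elem.card.ge (h.pi.of_le hK) hn hY

theorem normC (ha : a ∈ A) : A ≤ 𝒩(𝒞[a]) := elem_norm_cent1 h.elem.elem ha

theorem line (ha : a ∈ A) (h1 : a ≠ 1) : IsElem q 1 (zpowers a) A :=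
  isElem_zpowers' h.prime ha (h.elem.exp ha) h1

theorem cent_eq (ha : a ∈ A) (h1 : a ≠ 1) (hc : c ∈ zpowers a) (c1 : c ≠ 1) : 𝒞[c] = 𝒞[a] := by
  rw [← (h.line ha h1).cent_eq h.prime hc c1, cent_zpowers]

theorem not_mem_symm (ha : a ∈ A) (hb : b ∈ A) (h1 : a ≠ 1) (hab : b ∉ zpowers a) :
    a ∉ zpowers b := fun e => hab (by
  have b1 : b ≠ 1 := fun e => hab (e ▸ one_mem _)
  rw [← (h.line hb b1).eq_zpowers h.prime e h1]; exact mem_zpowers b)

theorem inf_cent (ha : a ∈ A) (hb : b ∈ A) (h1 : a ≠ 1) (hab : b ∉ zpowers a) :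
    𝒞[a] ⊓ 𝒞[b] = 𝒞(A) := by
  have b1 : b ≠ 1 := fun e => hab (e ▸ one_mem _)
  rw [← (h.elem.isDp h.prime (h.line ha h1) (h.line hb b1)
    (fun e => hab (e ▸ mem_zpowers b))).1, cent_sup, cent_zpowers, cent_zpowers]

theorem exists_not_mem (ha : a ∈ A) (h1 : a ≠ 1) : ∃ b ∈ A, b ∉ zpowers a := by
  by_contra e
  have : A ≤ zpowers a := fun b hb => by_contra fun h' => e ⟨b, hb, h'⟩
  have h2 := card_le_of_le this
  rw [h.elem.card, (h.line ha h1).card] at h2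
  exact absurd ((Nat.pow_le_pow_iff_right h.prime.one_lt).1 h2) (by norm_num)

theorem exists_ne_one : ∃ a ∈ A, a ≠ 1 := ne_bot_iff_exists.1 (h.elem.ne_bot h.prime)

theorem semireg (hf : H ⊓ 𝒞(A) = ⊥) (ha : a ∈ A) (h1 : a ≠ 1) (hb : b ∈ A) (hab : b ∉ zpowers a)
    (hB : B ≤ H ⊓ 𝒞[a]) : Semiregular B (zpowers b) := by
  have b1 : b ≠ 1 := fun e => hab (e ▸ one_mem _)
  refine semiregular_of_prime_card ((h.line hb b1).prime_card h.prime) (le_bot_iff.1 ?_)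
  rw [← hf, ← h.inf_cent ha hb h1 hab, cent_zpowers, ← inf_assoc]
  exact inf_le_inf_right _ hB

theorem cop_sup (hb : b ∈ A) (hW : W ≤ H) (hn : A ≤ 𝒩(B))
    (hc : (Nat.card W).Coprime (Nat.card B)) :
    (Nat.card W).Coprime (Nat.card ↥(B ⊔ zpowers b)) :=
  coprime_sup_right (Or.inr ((zpowers_le.2 hb).trans hn)) hc (h.cop (zpowers_le.2 hb) hW).symm

/-- a subgroup of `C(a)` centralizes every invariant subgroup of coprime order which it normalizes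
and on which some `b ∉ ⟨a⟩` has no fixed points -/
theorem cent_of_fpf (hf : H ⊓ 𝒞(A) = ⊥) (ha : a ∈ A) (h1 : a ≠ 1) (hb : b ∈ A)
    (hab : b ∉ zpowers a) (hB : B ≤ H ⊓ 𝒞[a]) (hn : A ≤ 𝒩(B)) (hW : W ≤ H) (hnW : A ≤ 𝒩(W))
    (hBW : B ≤ 𝒩(W)) (hs : Group.IsSolvable W) (hc : (Nat.card W).Coprime (Nat.card B))
    (h0 : W ⊓ 𝒞[b] = ⊥) : B ≤ 𝒞(W) :=
  frob_cent_of_cent_eq_bot ((zpowers_le.2 hb).trans hn) (h.semireg hf ha h1 hb hab hB)
    (sup_le hBW ((zpowers_le.2 hb).trans hnW)) hs (h.cop_sup hb hW hn hc)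
    (by rwa [cent_zpowers])

theorem gen_frob (hf : H ⊓ 𝒞(A) = ⊥) (ha : a ∈ A) (h1 : a ≠ 1) (hb : b ∈ A)
    (hab : b ∉ zpowers a) (hB : B ≤ H ⊓ 𝒞[a]) (hn : A ≤ 𝒩(B)) (hW : W ≤ H) (hnW : A ≤ 𝒩(W))
    (hBW : B ≤ 𝒩(W)) (hs : Group.IsSolvable W) (hc : (Nat.card W).Coprime (Nat.card B))
    (h0 : W ⊓ 𝒞(B) = ⊥) {U : Subgroup X} (hBU : B ≤ 𝒩(U)) (hAU : A ≤ 𝒩(U))
    (hle : W ⊓ 𝒞[b] ≤ U) : W ≤ U := by
  have := frob_gen (U := W ⊓ U) ((zpowers_le.2 hb).trans hn) (h.semireg hf ha h1 hb hab hB)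
    (sup_le hBW ((zpowers_le.2 hb).trans hnW)) hs (h.cop_sup hb hW hn hc) h0 inf_le_left
    (sup_le (norm_inf hBW hBU) ((zpowers_le.2 hb).trans (norm_inf hnW hAU)))
    (le_inf inf_le_left (by rwa [cent_zpowers]))
  exact this.ge.trans inf_le_right

/-- `H'` centralizes a minimal invariant normal subgroup -/
theorem der_cent (hf : H ⊓ 𝒞(A) = ⊥) (hs : Group.IsSolvable H) (hV : V ≤ H)
    (hc : IsChief (H ⊔ A) ⊥ V) : ⁅H, H⁆ ≤ 𝒞(V) := by
  obtain ⟨p, hp, hab, hexp, n, hcard⟩ := BG.chief_elem_of_solvable (H49.solvable_of_le hs hV) hc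
  have hVab : V ≤ 𝒞(V) := commutator_eq_bot_iff.1 (le_bot_iff.1 hab)
  rw [relIndex_bot_left] at hcard
  have hVp : IsPi {p} V := isPi_of_card_eq_pow hp hcard
  have hHV : H ≤ 𝒩(V) := le_sup_left.trans hc.2.2.2.1
  have hAV : A ≤ 𝒩(V) := le_sup_right.trans hc.2.2.2.1
  have min : ∀ U, U ≤ V → H ≤ 𝒩(U) → A ≤ 𝒩(U) → U ≠ ⊥ → U = V := fun U h1 h2 h3 h4 =>
    (hc.2.2.2.2 U bot_le h1 (sup_le h2 h3)).resolve_left h4
  set C := H ⊓ 𝒞(V) with hC
  have hHC : H ≤ 𝒩(C) := norm_inf le_normalizer (norm_cent hHV)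
  have hAC : A ≤ 𝒩(C) := norm_inf h.norm (norm_cent hAV)
  by_cases hHle : H ≤ C
  · exact der_le.trans (hHle.trans inf_le_right)
  obtain ⟨N, ⟨hCN, hNH, hnN⟩, hmin⟩ := exists_minimal_of_wellFoundedLT
    (fun N : Subgroup X => C < N ∧ N ≤ H ∧ H ⊔ A ≤ 𝒩(N))
    ⟨H, lt_of_le_of_ne inf_le_left (fun e => hHle e.ge), le_rfl, sup_le le_normalizer h.norm⟩
  have hch : IsChief (H ⊔ A) C N := ⟨hCN, hNH.trans le_sup_left, sup_le hHC hAC, hnN,
    fun W h1 h2 h3 => (h1.eq_or_lt).imp Eq.symm fun h4 =>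
      le_antisymm h2 (hmin ⟨h4, h2.trans hNH, h3⟩ h2)⟩
  obtain ⟨t, ht, hder, -, m, hidx⟩ := BG.chief_elem_of_solvable (H49.solvable_of_le hs hNH) hch
  have hAN : A ≤ 𝒩(N) := le_sup_right.trans hnN
  have hHN : H ≤ 𝒩(N) := le_sup_left.trans hnN
  obtain ⟨S, hS, hAS, -⟩ := inv_sylow_ge h.prime ht h.api (h.pi.of_le hNH) hAN (isPi_bot {t})
    bot_le (le_norm_bot A)
  have hSC : IsProd S C N := hS.isProd_of_index hCN.le (hidx ▸ isPiNat_singleton_pow ht _)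
  have hSH : S ≤ H := hS.le.trans hNH
  have hVC : V ≤ C := le_inf hV hVab
  have hNC : ¬ N ≤ C := hCN.not_ge
  have htp : t ≠ p := by
    rintro rfl
    have h1 : V ≤ S := hS.normal_le (hVC.trans hCN.le) (hNH.trans hHV) hVp
    have h2 := inf_center_ne_bot_of_nilpotent hS.pi.nilpotent h1 (hSH.trans hHV) hc.1.ne'
    have h3 := min (V ⊓ 𝒞(N)) inf_le_left (norm_inf hHV (norm_cent hHN))
      (norm_inf hAV (norm_cent hAN)) (ne_bot_mono (le_inf inf_le_left (by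
        rw [← hSC.sup_eq, cent_sup]
        exact le_inf inf_le_right (inf_le_left.trans (cent_symm inf_le_right)))) h2)
    exact hNC (le_inf hNH (cent_symm (h3.ge.trans inf_le_right)))
  have hcop : ∀ {B W : Subgroup X}, B ≤ S → W ≤ V → (Nat.card W).Coprime (Nat.card B) :=
    fun h1 h2 => (hVp.of_le h2).coprime ((hS.pi.of_le h1).compl_singleton_of_ne htp)
  have nD : ∀ B, B ≤ N → N ≤ 𝒩(B ⊔ C) := fun B hB =>
    norm_of_der_le (hder.trans le_sup_right) (sup_le hB hCN.le)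
  have cD : ∀ B, V ⊓ 𝒞(B ⊔ C) = V ⊓ 𝒞(B) := fun B => by
    rw [cent_sup, inf_comm 𝒞(B), ← inf_assoc, inf_eq_left.2 (cent_symm inf_le_right)]
  obtain ⟨a, ha, h1, hB⟩ : ∃ a ∈ A, a ≠ 1 ∧ ¬ S ⊓ 𝒞[a] ≤ C := by
    by_contra e
    refine hNC (hSC.sup_eq.ge.trans (sup_le (h.gen hSH hAS fun a ha h1 => ?_) le_rfl))
    exact by_contra fun h' => e ⟨a, ha, h1, h'⟩
  set B := S ⊓ 𝒞[a] with hBd
  have hBH : B ≤ H ⊓ 𝒞[a] := inf_le_inf_right _ hSH
  have hAB : A ≤ 𝒩(B) := norm_inf hAS (h.normC ha)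
  have hBN : B ≤ N := inf_le_left.trans hS.le
  have hBV : B ≤ 𝒩(V) := hBN.trans (hNH.trans hHV)
  have hdp := coprime_abelian_dp (abelian_iff.2 hVab) hBV (hcop inf_le_left le_rfl).symm
  have hWV : ⁅V, B⁆ ≤ V := commutator_le_left_of_norm hBV
  have hWe : ⁅V, B ⊔ C⁆ = ⁅V, B⁆ := le_antisymm (by
    rw [commutator_le]
    intro v hv x hx
    obtain ⟨y, hy, z, hz, rfl⟩ := (mem_sup_of_norm_right (hBN.trans (hNH.trans hHC))).1 hx
    have hzv : z * v⁻¹ = v⁻¹ * z := (hz.2 _ (inv_mem hv)).symm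
    have : ⁅v, y * z⁆ = ⁅v, y⁆ := by
      simp only [commutatorElement_def, mul_inv_rev]
      rw [mul_assoc v, mul_assoc y, hzv]; group
    rw [this]; exact commutator_mem_commutator hv hy) (commutator_mono le_rfl le_sup_left)
  have hNW : N ≤ 𝒩(⁅V, B⁆) := by
    rw [← hWe]; exact norm_commutator (hNH.trans hHV) (nD B hBN)
  have hAW : A ≤ 𝒩(⁅V, B⁆) := norm_commutator hAV hAB
  have hW0 : ⁅V, B⁆ ⊓ 𝒞(B) = ⊥ := le_bot_iff.1 (hdp.2.1 ▸ le_inf
    (inf_le_inf_right _ hWV) inf_le_left)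
  have hsV : Group.IsSolvable V := H49.solvable_of_le hs hV
  have hWeq : ⁅V, B⁆ = V := by
    refine min _ hWV (h.gen le_rfl h.norm fun b hb b1 => ?_) hAW fun e =>
      hB (le_inf (hBN.trans hNH) (cent_symm (commutator_eq_bot_iff.1 e)))
    by_cases hab : b ∈ zpowers a
    · rw [h.cent_eq ha h1 hab b1]
      exact norm_commutator (inf_le_left.trans hHV)
        (norm_of_cent ((h.ab a ha h1).trans (cent_anti hBH)))
    have hU := h.gen_frob hf ha h1 hb hab hBH hAB (hWV.trans hV) hAW (hBN.trans hNW)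
      (H49.solvable_of_le hsV hWV) (hcop inf_le_left hWV) hW0
      (U := coreIn ⁅V, B⁆ (H ⊓ 𝒞[b])) ?_ (norm_coreIn hAW (norm_inf h.norm (h.normC hb))) ?_
    · refine le_norm_iff.2 fun y hy x hx => ?_
      simpa using mem_coreIn.1 (hU hx) y⁻¹ (inv_mem hy)
    · refine le_norm_iff.2 fun y hy x hx => mem_coreIn.2 fun z hz => ?_
      have h2 := conj_mem_of_norm hNW (conj_mem_of_norm' hHN hz.1 (hBN hy)) (mem_coreIn.1 hx z hz)
      convert h2 using 1; group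
    · intro x hx
      refine mem_coreIn.2 fun z hz => ?_
      rw [mul_assoc, (h.ab b hb b1 hz x ⟨hV (hWV hx.1), hx.2⟩), inv_mul_cancel_left]
      exact hx.1
  rw [hWeq] at hW0
  have key : ∀ b ∈ A, b ∉ zpowers a → ∀ E, E ≤ H ⊓ 𝒞[b] → A ≤ 𝒩(E) → B ≤ 𝒩(E ⊔ C) → E ≤ C :=
    fun b hb hab E hE hAE hBE => by
      have b1 : b ≠ 1 := fun e => hab (e ▸ one_mem _)
      have := h.gen_frob hf ha h1 hb hab hBH hAB hV hAV hBV hsV (hcop inf_le_left le_rfl) hW0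
        (U := V ⊓ 𝒞(E ⊔ C)) (norm_inf hBV (norm_cent hBE))
        (norm_inf hAV (norm_cent (norm_sup hAE hAC))) (by
          rw [cD]
          exact le_inf inf_le_left ((inf_le_inf_right _ hV).trans
            ((h.ab b hb b1).trans (cent_anti hE))))
      rw [cD] at this
      exact le_inf (hE.trans inf_le_left) (cent_symm (this.trans inf_le_right))
  have hNB : N ≤ B ⊔ C := hSC.sup_eq.ge.trans (sup_le (h.gen hSH hAS fun b hb b1 => by
    by_cases hab : b ∈ zpowers a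
    · rw [h.cent_eq ha h1 hab b1]; exact le_sup_left
    · exact (key b hb hab _ (inf_le_inf_right _ hSH) (norm_inf hAS (h.normC hb))
        (hBN.trans (nD _ (inf_le_left.trans hS.le)))).trans le_sup_right) le_sup_right)
  have hza : zpowers a ≤ A := zpowers_le.2 ha
  have hT : zpowers a ≤ quoPre C 𝒞(quo N C) := by
    refine le_quoPre_cent (hNH.trans hHC) (hza.trans hAC) ?_
    rw [commutator_le]
    intro x hx y hy
    obtain ⟨u, hu, z, hz, rfl⟩ := (mem_sup_of_norm_right (hBN.trans (hNH.trans hHC))).1 (hNB hx)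
    have hu' : u * y = y * u := by
      have : u ∈ 𝒞(zpowers a) := by rw [cent_zpowers]; exact hu.2
      exact (this y hy).symm
    have : ⁅u * z, y⁆ = u * (z * (y * z⁻¹ * y⁻¹)) * u⁻¹ := by
      calc ⁅u * z, y⁆ = u * (z * (y * z⁻¹)) * (y * u)⁻¹ := by rw [commutatorElement_def]; group
        _ = _ := by rw [← hu']; group
    rw [this]
    exact conj_mem_of_norm hHC (hBH hu).1
      (mul_mem hz (conj_mem_of_norm hAC (hza hy) (inv_mem hz)))
  have hHT : H ≤ 𝒩(quoPre C 𝒞(quo N C)) := norm_quoPre hHC (norm_cent (quo_norm C hHN))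
  have hHa : H ≤ C ⊔ (H ⊓ 𝒞[a]) := h.gen le_rfl h.norm fun b hb b1 => by
    by_cases hab : b ∈ zpowers a
    · rw [h.cent_eq ha h1 hab b1]; exact le_sup_right
    have hAE : A ≤ 𝒩(H ⊓ 𝒞[b]) := norm_inf h.norm (h.normC hb)
    refine (key b hb hab _ le_rfl hAE ?_).trans le_sup_left
    have e1 := coprime_comm_eq_of_cent (hza.trans hAE) (h.cop hza inf_le_left)
      (Or.inl (h.solA hza)) (by
        rw [cent_zpowers, inf_assoc, inf_comm 𝒞[b], h.inf_cent ha hb h1 hab, hf])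
    have e2 : H ⊓ 𝒞[b] ≤ quoPre C 𝒞(quo N C) := e1.ge.trans ((commutator_mono le_rfl hT).trans
      (commutator_le_right_of_norm (inf_le_left.trans hHT)))
    have e3 := comm_le_of_le (hNH.trans hHC) (inf_le_left.trans hHC) e2
    refine le_norm_iff.2 fun y hy x hx => ?_
    obtain ⟨u, hu, z, hz, rfl⟩ := (mem_sup_of_norm_right (inf_le_left.trans hHC)).1 hx
    rw [show y * (u * z) * y⁻¹ = ⁅y, u⁆ * u * (y * z * y⁻¹) by
      rw [commutatorElement_def]; group]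
    exact mul_mem (mul_mem (mem_sup_right (e3 (commutator_mem_commutator (hBN hy) hu)))
      (mem_sup_left hu)) (mem_sup_right (conj_mem_of_norm hHC (hBH hy).1 hz))
  have hp' : IsProd C (H ⊓ 𝒞[a]) H := by
    have := isProd_sup_of_norm_left (H := C) (K := H ⊓ 𝒞[a]) (inf_le_left.trans hHC)
    rwa [le_antisymm (sup_le inf_le_left inf_le_left) hHa] at this
  refine (der_le_sup_der hp' (inf_le_left.trans hHC)).trans ?_
  rw [commutator_eq_bot_iff.2 (h.ab a ha h1), sup_bot_eq]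
  exact inf_le_right

theorem quo (hK : K ≤ H) (hA : A ≤ 𝒩(K)) : AC q (quo A K) (quo H K) := by
  have hd : A ⊓ K = ⊥ := h.api.inf_eq_bot (h.pi.of_le hK)
  refine ⟨h.prime, ⟨le_top, ⟨abelian_quo h.elem.abelian K, fun y hy => ?_⟩, ?_⟩, quo_norm K h.norm,
    h.pi.quo K, fun y hy y1 => ?_⟩
  · obtain ⟨x, hx, rfl⟩ := mem_quo.1 hy
    rw [← map_pow, show x ^ q = 1 from Subtype.ext (h.elem.exp hx), map_one]
  · rw [card_quo_of_disjoint hA hd, h.elem.card]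
  · obtain ⟨x, hx, rfl⟩ := mem_quo.1 hy
    have hz : zpowers (x : X) ≤ A := zpowers_le.2 hx
    rw [← cent_zpowers, ← quo_zpowers, ← coprime_quo_cent (hz.trans h.norm) (hz.trans hA)
      (h.cop hz hK) (Or.inl (h.solA hz)), cent_zpowers]
    exact quo_cent K (h.ab x hx fun e => y1 (by rw [coset_eq_one_iff, e]; exact one_mem _))

theorem quo_fpf (hf : H ⊓ 𝒞(A) = ⊥) (hK : K ≤ H) (hA : A ≤ 𝒩(K)) :
    H49.quo H K ⊓ 𝒞(H49.quo A K) = ⊥ := by
  rw [← coprime_quo_cent h.norm hA (h.cop le_rfl hK) (Or.inl (h.solA le_rfl)), hf, quo_bot]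

end AC

theorem nilpotent_of_quo_cent (hK : H ≤ 𝒩(K)) (hc : H ≤ 𝒞(K)) (h : Group.IsNilpotent (quo H K)) :
    Group.IsNilpotent H := by
  have e := range_cosetOn hK
  haveI : Group.IsNilpotent (cosetOn hK).range := by rw [e]; exact h
  refine Subgroup.isNilpotent_of_ker_le_center (cosetOn hK).rangeRestrict fun x hx => ?_
  rw [MonoidHom.ker_rangeRestrict, ker_cosetOn] at hx
  exact mem_center_iff.2 fun g => Subtype.ext (hc g.2 x hx).symm

theorem AC.der_nil_aux (q n : ℕ) : ∀ (X : Type u) [Group X] [Finite X] (A H : Subgroup X),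
    Nat.card H = n → AC q A H → H ⊓ 𝒞(A) = ⊥ → Group.IsSolvable H → Group.IsNilpotent ↥⁅H, H⁆ := by
  induction n using Nat.strong_induction_on with
  | _ n ih =>
  intro X _ _ A H hn h hf hs
  by_cases h0 : H = ⊥
  · subst h0; rw [commutator_bot_left]; infer_instance
  obtain ⟨V, ⟨hV0, hVH, hnV⟩, hmin⟩ := exists_minimal_of_wellFoundedLT
    (fun N : Subgroup X => ⊥ < N ∧ N ≤ H ∧ H ⊔ A ≤ 𝒩(N))
    ⟨H, bot_lt_iff_ne_bot.2 h0, le_rfl, sup_le le_normalizer h.norm⟩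
  have hch : IsChief (H ⊔ A) ⊥ V := ⟨hV0, hVH.trans le_sup_left, le_norm_bot _, hnV,
    fun W h1 h2 h3 => (h1.eq_or_lt).imp Eq.symm fun h4 =>
      le_antisymm h2 (hmin ⟨h4, h2.trans hVH, h3⟩ h2)⟩
  have hHV : H ≤ 𝒩(V) := le_sup_left.trans hnV
  have hAV : A ≤ 𝒩(V) := le_sup_right.trans hnV
  refine nilpotent_of_quo_cent (der_le.trans hHV) (h.der_cent hf hs hVH hch) ?_
  rw [quo_commutator hHV hHV]
  exact ih _ (hn ▸ card_quo_lt hHV (by rw [inf_eq_left.2 hVH]; exact hV0.ne')) _ _ _ rfl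
    (h.quo hVH hAV) (h.quo_fpf hf hVH hAV) (solvable_quo hs V)

theorem AC.der_le_fit (h : AC q A H) (hf : H ⊓ 𝒞(A) = ⊥) (hs : Group.IsSolvable H) :
    ⁅H, H⁆ ≤ fittingOf H :=
  le_fittingOf der_le norm_der (AC.der_nil_aux q _ X A H rfl h hf hs)

end Cfsg.Agent.H59
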