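import Cfsg.Agent.H3.PResidual
import Cfsg.Agent.H69.Base
import Mathlib.GroupTheory.Perm.Cycle.Type

/-! The extremal form of the Thompson transfer lemma. -/

set_option autoImplicit false

namespace Cfsg.Agent.H59

open Subgroup H69

/-- If all orbits of a finite action have size divisible by `d`, so has the set. -/
theorem dvd_card_of_orbits {S Y : Type*} [Group S] [Finite Y] [MulAction S Y] {d : ℕ}
    (h : ∀ y : Y, d ∣ (MulAction.stabilizer S y).index) : d ∣ Nat.card Y := by
  classical
  haveI := Fintype.ofFinite (MulAction.orbitRel.Quotient S Y)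
  rw [Nat.card_congr (MulAction.selfEquivSigmaOrbits S Y), Nat.card_sigma]
  refine Finset.dvd_sum fun q _ => ?_
  rw [Nat.card_congr (MulAction.orbitEquivQuotientStabilizer S q.out)]
  exact h _

/-- Extremal Thompson transfer: if the involution `z` lies in `O²(G)`, `|G : M| ≡ 2 mod 4` and the
`2`-group `Q` centralizes `z`, then some conjugate of `M` contains `z` and a subgroup of index at
most `2` of `Q`. -/
theorem ext_transfer {G : Type*} [Group G] [Finite G] (M Q : Subgroup G) {z : G} (hz : z * z = 1)
    (hO : z ∈ pResidual 2 G) (hM : M.index % 4 = 2) (hQ : IsPGroup 2 Q)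
    (hc : ∀ q ∈ Q, q * z = z * q) : ∃ g : G, z ∈ cj g M ∧ (cj g M).relIndex Q ∣ 2 := by
  classical
  haveI : Fact (Nat.Prime 2) := ⟨Nat.prime_two⟩
  haveI : Fintype (G ⧸ M) := Fintype.ofFinite _
  by_contra hne
  push Not at hne
  have h1 := H3.pResidual_le_ker (Equiv.Perm.sign.comp (MulAction.toPermHom G (G ⧸ M)))
    (IsPGroup.of_card (n := 1) (by rw [Nat.card_eq_fintype_card, Fintype.card_units_int, pow_one])) hO
  have h2 : (MulAction.toPermHom G (G ⧸ M) z) ^ 2 = 1 := by rw [← map_pow, pow_two, hz, map_one]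
  rw [MonoidHom.mem_ker, MonoidHom.comp_apply, Equiv.Perm.sign_of_pow_two_eq_one h2,
    neg_one_pow_eq_one_iff_even (by decide)] at h1
  let Y : SubMulAction Q (G ⧸ M) :=
    { carrier := {x | z • x = x}
      smul_mem' := fun q x hx => by
        change z • ((q : G) • x) = (q : G) • x
        rw [← mul_smul, ← hc q q.2, mul_smul, show z • x = x from hx] }
  have hst : ∀ g a : G, a • (g : G ⧸ M) = g ↔ a ∈ cj g M := fun g a => by
    rw [mem_cj, MulAction.Quotient.smul_mk, eq_comm, QuotientGroup.eq, smul_eq_mul, mul_assoc]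
  have h4 : 4 ∣ Nat.card Y := dvd_card_of_orbits (S := Q) fun ⟨y, hy⟩ => by
    induction y using QuotientGroup.induction_on with
    | H g =>
      have e : MulAction.stabilizer Q (⟨g, hy⟩ : Y) = (cj g M).subgroupOf Q := by
        ext q
        rw [MulAction.mem_stabilizer_iff, mem_subgroupOf, ← hst, Subtype.ext_iff]
        rfl
      rw [e]
      obtain ⟨k, hk⟩ := hQ.index ((cj g M).subgroupOf Q)
      have h5 := hne g ((hst g z).1 hy)
      rw [relIndex, hk] at h5
      rw [hk]
      rcases k with _ | _ | k
      · simp at h5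
      · simp at h5
      · exact ⟨2 ^ k, by ring⟩
  have h6 : Nat.card Y = Fintype.card (Function.fixedPoints (MulAction.toPermHom G (G ⧸ M) z)) := by
    rw [← Nat.card_eq_fintype_card]; rfl
  have h7 : Fintype.card (Function.fixedPoints (MulAction.toPermHom G (G ⧸ M) z)) ≤
      Fintype.card (G ⧸ M) := Fintype.card_subtype_le _
  rw [index, Nat.card_eq_fintype_card] at hM
  rw [h6] at h4
  rw [Nat.even_iff] at h1
  omega

end Cfsg.Agent.H59
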