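import Cfsg.Agent.H59.FixInv2
import Cfsg.Agent.ASCH.Main
import Cfsg.Agent.S1220

/-! Glauberman: a coprime automorphism centralising the centraliser of an involution acts
trivially modulo `O(G)`. -/

set_option autoImplicit false

namespace Cfsg.Agent.H59.FixInv

open Subgroup

universe u

/-- The statement. -/
def Concl (G : Type u) [Group G] : Prop :=
  ∀ (α : G →* G) (r : ℕ), Cop α r → ∀ τ : G, orderOf τ = 2 → (∀ c, c * τ = τ * c → α c = c) →
    ∀ g, α g * g⁻¹ ∈ pPrimeCore 2 G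

/-- The induction hypothesis. -/
def IH (G : Type u) : Prop :=
  ∀ (G' : Type u) [Group G'] [Finite G'], Nat.card G' < Nat.card G → Concl G'

variable {G : Type u} [Group G] [Finite G] {α : G →* G} {r : ℕ} {τ : G}

theorem card_quot_lt {N : Subgroup G} [N.Normal] (hN : N ≠ ⊥) : Nat.card (G ⧸ N) < Nat.card G := by
  rw [card_eq_card_quotient_mul_card_subgroup N]
  exact lt_mul_of_one_lt_right Nat.card_pos ((one_lt_card_iff_ne_bot N).2 hN)

theorem IH.sub (ih : IH G) (h : Cop α r) {X : Subgroup G} (hX : X ≠ ⊤) (hα : ∀ x ∈ X, α x ∈ X)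
    (hτ : orderOf τ = 2) (hC : ∀ c, c * τ = τ * c → α c = c) (hm : τ ∈ X) (g : X) :
    res α hα g * g⁻¹ ∈ pPrimeCore 2 X :=
  ih X (lt_of_le_of_ne X.card_le_card_group fun e => hX (X.eq_top_of_card_eq e)) _ r (h.restrict hα) ⟨τ, hm⟩ (by rw [← orderOf_coe]; exact hτ)
    (fun c hc => Subtype.ext (hC c (congrArg Subtype.val hc))) g

theorem red_core (ih : IH G) (h : Cop α r) (hτ : orderOf τ = 2)
    (hC : ∀ c, c * τ = τ * c → α c = c) (hO : pPrimeCore 2 G ≠ ⊥) (g : G) :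
    α g * g⁻¹ ∈ pPrimeCore 2 G := by
  have hN : pPrimeCore 2 G ≤ (pPrimeCore 2 G).comap α :=
    map_le_iff_le_comap.1 (H22.map_pPrimeCore_le_of_surjective α h.surj)
  have hodd : ∀ x ∈ pPrimeCore 2 G, Odd (orderOf x) := fun x hx =>
    H8.odd_card_pPrimeCore.of_dvd_nat ((pPrimeCore 2 G).orderOf_dvd_natCard hx)
  have h2 := H75.mul_self_of_orderOf_two hτ
  have := ih (G ⧸ pPrimeCore 2 G) (card_quot_lt hO) _ r (h.quot hN) (τ : G ⧸ pPrimeCore 2 G)
    (H75.orderOf_eq_two_of_mul_self (fun e => by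
      have := hodd τ ((QuotientGroup.eq_one_iff _).1 e)
      rw [hτ] at this; exact absurd this (by decide)) (by rw [← QuotientGroup.mk_mul, h2]; rfl))
    (fun c hc => by
      obtain ⟨c, rfl⟩ := QuotientGroup.mk_surjective c
      have hm : τ * (c * τ * c⁻¹) ∈ pPrimeCore 2 G := by
        rw [← QuotientGroup.eq_one_iff]
        simp only [QuotientGroup.mk_mul, QuotientGroup.mk_inv, hc]
        rw [mul_inv_cancel_right, ← QuotientGroup.mk_mul, h2]; rfl
      obtain ⟨k, hk⟩ := H75.exists_pow_conj_of_odd h2 (by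
        rw [show c * τ * c⁻¹ * (c * τ * c⁻¹) = c * (τ * τ) * c⁻¹ by group, h2]; simp) (hodd _ hm)
      have ho := pow_mem hm k
      generalize (τ * (c * τ * c⁻¹)) ^ k = o at hk ho
      have e := hC (o⁻¹ * c) (by
        calc o⁻¹ * c * τ = o⁻¹ * (c * τ * c⁻¹) * c := by group
          _ = _ := by rw [← hk]; group)
      have e1 : (c : G ⧸ pPrimeCore 2 G) = ((o⁻¹ * c : G) : G ⧸ pPrimeCore 2 G) := by
        rw [QuotientGroup.mk_mul, (QuotientGroup.eq_one_iff _).2 (inv_mem ho), one_mul]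
      rw [e1, QuotientGroup.map_mk, e]) (g : G ⧸ pPrimeCore 2 G)
  rw [H22.pPrimeCore_quotient_pPrimeCore, mem_bot] at this
  exact (QuotientGroup.eq_one_iff _).1 this

theorem red_center (ih : IH G) (h : Cop α r) (hτ : orderOf τ = 2)
    (hC : ∀ c, c * τ = τ * c → α c = c) (hO : pPrimeCore 2 G = ⊥) {z : G} (hz : orderOf z = 2)
    (hzc : z ∈ center G) (g : G) : α g = g := by
  by_cases e : τ = z
  · exact hC g (e ▸ mem_center_iff.1 hzc g)
  haveI := H8.normal_zpowers_of_central hzc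
  have hzf : zpowers z ≤ Fx α := zpowers_le.2 (hC z (mem_center_iff.1 hzc τ).symm)
  have hN : zpowers z ≤ (zpowers z).comap α := fun x hx => by
    rw [mem_comap, mem_Fx.1 (hzf hx)]; exact hx
  have h2 := H75.mul_self_of_orderOf_two hτ
  have := ih (G ⧸ zpowers z) (card_quot_lt (by
      rw [ne_eq, zpowers_eq_bot]; exact H75.ne_one_of_orderOf_two hz)) _ r (h.quot hN)
    (τ : G ⧸ zpowers z) (H75.orderOf_eq_two_of_mul_self (fun e' => by
      rcases (H8.mem_zpowers_of_orderOf_two hz).1 ((QuotientGroup.eq_one_iff _).1 e') with h1 | h1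
      · exact H75.ne_one_of_orderOf_two hτ h1
      · exact e h1) (by rw [← QuotientGroup.mk_mul, h2]; rfl))
    (fun c hc => by
      obtain ⟨c, rfl⟩ := QuotientGroup.mk_surjective c
      have hm : c⁻¹ * τ * c * τ⁻¹ ∈ zpowers z := by
        rw [← QuotientGroup.eq_one_iff]
        simp only [QuotientGroup.mk_mul, QuotientGroup.mk_inv]
        rw [mul_assoc _ _ (c : G ⧸ zpowers z), ← hc]; group
      have h3 : c⁻¹ * τ * c ∈ Fx α := by
        simpa using mul_mem (hzf hm) (mem_Fx.2 (hC τ rfl))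
      rw [QuotientGroup.map_mk, mem_Fx.1 (h.uniq hC h3)]) (g : G ⧸ zpowers z)
  rw [H8.core_quotient_central_eq_bot hO _ (zpowers_le.2 hzc)
    (IsPGroup.of_card (n := 1) (by rw [Nat.card_zpowers, hz]; rfl)), mem_bot] at this
  exact h.fix_of_eq (u := α g * g⁻¹) (v := 1) (hzf ((QuotientGroup.eq_one_iff _).1 this))
    (map_one _) (by simp)

theorem IH.A3 (ih : IH G) (h : Cop α r) (hτ : orderOf τ = 2) (hC : ∀ c, c * τ = τ * c → α c = c)
    (hZ : ∀ z : G, orderOf z = 2 → z ∉ center G) {z : G} (hz : orderOf z = 2)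
    (hc : z * τ = τ * z) : ∃ K : Subgroup G, (Odd (Nat.card K) ∧
      (∀ k ∈ K, k * z = z * k) ∧ (∀ c : G, c * z = z * c → ∀ k ∈ K, c * k * c⁻¹ ∈ K) ∧
      ∀ ω : G ⧸ Fx α, z • ω = ω → ∃ k ∈ K, k • ((1 : G) : G ⧸ Fx α) = ω) ∧ ∀ k ∈ K, α k ∈ K := by
  have hα : ∀ x ∈ centralizer ({z} : Set G), α x ∈ centralizer ({z} : Set G) := fun x hx => by
    rw [mem_centralizer_singleton_iff] at hx ⊢
    simpa [hC z hc] using congrArg α hx
  have hX : centralizer ({z} : Set G) ≠ ⊤ := fun e => hZ z hz (mem_center_iff.2 fun g =>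
    mem_centralizer_singleton_iff.1 (e ▸ mem_top g))
  have h1 := ih.sub h hX hα hτ hC (mem_centralizer_singleton_iff.2 hc.symm)
  have h2 : ∀ k ∈ pPrimeCore 2 (centralizer ({z} : Set G)),
      res α hα k ∈ pPrimeCore 2 (centralizer ({z} : Set G)) := fun k hk =>
    H22.map_pPrimeCore_le_of_surjective _ (h.restrict hα).surj (mem_map_of_mem _ hk)
  refine ⟨(pPrimeCore 2 (centralizer ({z} : Set G))).map (Subgroup.subtype _), ⟨?_, ?_, ?_, ?_⟩, ?_⟩
  · rw [card_map_of_injective (subtype_injective _)]; exact H8.odd_card_pPrimeCore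
  · rintro _ ⟨k, -, rfl⟩; exact mem_centralizer_singleton_iff.1 k.2
  · rintro c hc _ ⟨k, hk, rfl⟩
    exact ⟨_, Normal.conj_mem inferInstance k hk ⟨c, mem_centralizer_singleton_iff.2 hc⟩, rfl⟩
  · intro ω hω
    obtain ⟨g, rfl⟩ := QuotientGroup.mk_surjective ω
    obtain ⟨c, c1, c2⟩ := h.fusion (B := {z}) (fun b hb => by rw [hb]; exact hC z hc) (g := g)
      (fun b hb => by rw [hb]; exact H43.smul_mk_eq_iff.1 hω)
    obtain ⟨k, hk, e⟩ := (h.restrict hα).exists_mul h2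
      (h1 ⟨c, mem_centralizer_singleton_iff.2 (c1 z rfl)⟩)
    refine ⟨k, mem_map_of_mem _ hk, ?_⟩
    rw [H43.smul_one_eq_mk, QuotientGroup.eq]
    have e' : (k : G)⁻¹ * c ∈ Fx α := congrArg Subtype.val (mem_Fx.1 e)
    simpa [mul_assoc] using mul_mem e' c2
  · rintro _ ⟨k, hk, rfl⟩; exact ⟨_, h2 k hk, rfl⟩

/-- An involution with all its conjugates fixed forces `α = 1`. -/
theorem triv_of_ker (ih : IH G) (h : Cop α r) (hτ : orderOf τ = 2)
    (hC : ∀ c, c * τ = τ * c → α c = c) (hO : pPrimeCore 2 G = ⊥)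
    (hZ : ∀ z : G, orderOf z = 2 → z ∉ center G) {d : G} (hd : orderOf d = 2) (hc : d * τ = τ * d)
    (hf : ∀ ω : G ⧸ Fx α, d • ω = ω) (g : G) : α g = g := by
  obtain ⟨K, ⟨k1, -, -, k4⟩, k5⟩ := ih.A3 h hτ hC hZ hd hc
  have hM : (closure (Set.range fun g => α g * g⁻¹)).Normal := ⟨fun x hx y => by
    induction hx using closure_induction with
    | mem x hx =>
      obtain ⟨g, rfl⟩ := hx
      have : y * (α g * g⁻¹) * y⁻¹ = (α y * y⁻¹)⁻¹ * (α (y * g) * (y * g)⁻¹) := by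
        rw [map_mul]; group
      simp only [this]
      exact mul_mem (inv_mem (subset_closure ⟨y, rfl⟩)) (subset_closure ⟨y * g, rfl⟩)
    | one => simp
    | mul a b _ _ ha hb => simpa [mul_assoc] using mul_mem ha hb
    | inv a _ ha => simpa [mul_assoc] using inv_mem ha⟩
  have hle : closure (Set.range fun g => α g * g⁻¹) ≤ K := by
    rw [closure_le]
    rintro _ ⟨g, rfl⟩
    obtain ⟨k, hk, e⟩ := k4 (g : G ⧸ Fx α) (hf _)
    rw [H43.smul_one_eq_mk, QuotientGroup.eq, mem_Fx, map_mul, map_inv] at e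
    have : α g * g⁻¹ = α k * k⁻¹ := by
      calc α g * g⁻¹ = α k * ((α k)⁻¹ * α g) * g⁻¹ := by group
        _ = _ := by rw [e]; group
    simp only [SetLike.mem_coe, this]
    exact mul_mem (k5 k hk) (inv_mem hk)
  have := H8.core_eq_bot_iff.1 hO _ hM (k1.of_dvd_nat (card_dvd_of_le hle))
  have h1 : α g * g⁻¹ ∈ closure (Set.range fun g => α g * g⁻¹) := subset_closure ⟨g, rfl⟩
  rwa [this, mem_bot, mul_inv_eq_one] at h1

/-- The involutions fixing exactly one coset. -/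
def ZS (α : G →* G) : Set G := {t | orderOf t = 2 ∧ ∃ ω : G ⧸ Fx α, ∀ c, t • c = c ↔ c = ω}

theorem conj_mem_ZS {t : G} (ht : t ∈ ZS α) (g : G) : g * t * g⁻¹ ∈ ZS α := by
  obtain ⟨h1, ω, h2⟩ := ht
  refine ⟨by rw [H75.orderOf_conj', h1], g • ω, fun c => ?_⟩
  rw [mul_smul, mul_smul, ← eq_inv_smul_iff, h2, inv_smul_eq_iff]

theorem ze (ih : IH G) (h : Cop α r) (hτ : orderOf τ = 2) (hC : ∀ c, c * τ = τ * c → α c = c)
    (hO : pPrimeCore 2 G = ⊥) (hZ : ∀ z : G, orderOf z = 2 → z ∉ center G) {g₀ : G}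
    (hg : α g₀ ≠ g₀) : ASCH.ZE G (G ⧸ Fx α) (ZS α) := by
  have key : ∀ x ∈ ZS α, ∀ w ∈ ZS α, x • ((1 : G) : G ⧸ Fx α) = ((1 : G) : G ⧸ Fx α) → x ≠ w →
      x * w = w * x → x * w ∈ ZS α := by
    rintro x ⟨x1, a, x2⟩ w ⟨w1, b, w2⟩ hx hne hc
    obtain rfl := (x2 _).1 hx
    have hxC : ∀ c, c * x = x * c → α c = c := fun c e =>
      H43.smul_one_eq_iff.1 ((x2 _).1 (by rw [← mul_smul, ← e, mul_smul, hx]))
    obtain rfl := (w2 _).1 (H43.smul_one_eq_iff.2 (hxC w hc.symm))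
    have hx2 := H75.mul_self_of_orderOf_two x1
    have hw2 := H75.mul_self_of_orderOf_two w1
    by_contra hn
    refine hg (triv_of_ker ih h x1 hxC hO hZ (d := x * w) (H75.orderOf_eq_two_of_mul_self
      (fun e => hne ?_) ?_) (by rw [mul_assoc, ← hc]) (count (fun b c => MulAction.exists_smul_eq G b c)
        (h.A2 x1 hxC) hx2 (fun z hz e => ?_) w1 hc.symm w2 fun e => hn ?_) g₀)
    · rw [← mul_one x, ← hw2, ← mul_assoc, e, one_mul]
    · rw [mul_assoc, ← mul_assoc w, ← hc, mul_assoc, hw2, mul_one, hx2]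
    · exact (ih.A3 h x1 hxC hZ hz e).imp fun K hK => hK.1
    · obtain ⟨c, hc⟩ := isConj_iff.1 e
      rw [← hc]; exact conj_mem_ZS ⟨x1, _, x2⟩ c
  have hτZ : τ ∈ ZS α := ⟨hτ, _, h.fix_iff hC⟩
  refine ⟨fun b c => MulAction.exists_smul_eq G b c, ⟨_, _, H43.one_ne_mk (H := Fx α) hg⟩,
    fun z hz => hz.1, fun z hz => conj_mem_ZS hz, ?_, fun c => ?_, fun x hx w hw hne hc => ?_⟩
  · rintro z ⟨-, ω, hz⟩ b c hb hc
    rw [(hz b).1 hb, (hz c).1 hc]
  · obtain ⟨g, rfl⟩ := QuotientGroup.mk_surjective c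
    exact ⟨_, conj_mem_ZS hτZ g, H43.smul_mk_eq_iff.2 (by simpa [mul_assoc] using mem_Fx.2 (hC τ rfl))⟩
  · obtain ⟨ω, hω⟩ := hx.2
    obtain ⟨g, rfl⟩ := QuotientGroup.mk_surjective ω
    have := key _ (conj_mem_ZS hx g⁻¹) _ (conj_mem_ZS hw g⁻¹) (H43.smul_one_eq_iff.2 (by
      simpa using H43.smul_mk_eq_iff.1 ((hω _).2 rfl))) (fun e => hne (by simpa using e))
      (by simp [mul_assoc]; simpa [mul_assoc] using congrArg (· * g) hc)
    simpa [mul_assoc] using conj_mem_ZS this g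

theorem step (ih : IH G) : Concl G := by
  intro α r h τ hτ hC g₀
  by_cases hO : pPrimeCore 2 G = ⊥
  swap
  · exact red_core ih h hτ hC hO g₀
  suffices α g₀ = g₀ by rw [this, mul_inv_cancel]; exact one_mem _
  by_cases hZ : ∀ z : G, orderOf z = 2 → z ∉ center G
  swap
  · push Not at hZ
    obtain ⟨z, h1, h2⟩ := hZ
    exact red_center ih h hτ hC hO h1 h2 g₀
  by_contra hg
  have hze := ze ih h hτ hC hO hZ hg
  have hp := ASCH.zd hze
  have hτZ : τ ∈ ZS α := ⟨hτ, _, h.fix_iff hC⟩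
  have hH : Fx α ≠ ⊤ := fun e => hg (mem_Fx.1 (e ▸ mem_top g₀))
  by_cases hL : closure (ZS α) = ⊤
  · have hse : Cfsg.IsStronglyEmbedded (Fx α) := by
      refine ⟨hH, even_iff_two_dvd.2 (hτ ▸ (Fx α).orderOf_dvd_natCard (hC τ rfl)), fun g hgH => ?_⟩
      rw [← Nat.not_even_iff_odd, even_iff_two_dvd]
      intro hd
      obtain ⟨t, ht⟩ := exists_prime_orderOf_dvd_card' 2 hd
      have h2 := H43.mem_inf_conj_iff.1 t.2
      exact H43.one_ne_mk hgH (hze.uniq t (hp t (hL ▸ mem_top _) (by rw [orderOf_coe, ht])) _ _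
        h2.1 h2.2)
    rcases S1220.result _ hse with h2 | h2
    · obtain ⟨u, hu, e⟩ := h2 g₀ (α g₀) hg (fun e => hg ((Finite.injective_iff_surjective.2 h.surj) e))
      exact hg (h.fix_of_eq hu (mem_Fx.1 (inv_mem e)) (by group))
    · apply hH
      rw [← h2.2, show Cfsg.oddCore G = ⊥ from hO, bot_sup_eq]
  · haveI hn : (closure (ZS α)).Normal := ⟨fun x hx y => by
      induction hx using closure_induction with
      | mem x hx => exact subset_closure (conj_mem_ZS hx y)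
      | one => simp
      | mul a b _ _ ha hb => simpa [mul_assoc] using mul_mem ha hb
      | inv a _ ha => simpa [mul_assoc] using inv_mem ha⟩
    have hα : ∀ x ∈ closure (ZS α), α x ∈ closure (ZS α) := by
      refine fun x hx => (closure_le (K := (closure (ZS α)).comap α)).2 (fun t ht => ?_) hx
      obtain ⟨ω, hω⟩ := ht.2
      obtain ⟨g, rfl⟩ := QuotientGroup.mk_surjective ω
      have e := mem_Fx.1 (H43.smul_mk_eq_iff.1 ((hω _).2 rfl))
      rw [map_mul, map_mul, map_inv] at e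
      have : α t = (α g * g⁻¹) * t * (α g * g⁻¹)⁻¹ := by
        calc α t = α g * ((α g)⁻¹ * α t * α g) * (α g)⁻¹ := by group
          _ = _ := by rw [e]; group
      exact subset_closure (show α t ∈ ZS α from this ▸ conj_mem_ZS ht _)
    have h1 := ih.sub h hL hα hτ hC (subset_closure hτZ) ⟨g₀⁻¹ * τ * g₀, by
      simpa using hn.conj_mem τ (subset_closure hτZ) g₀⁻¹⟩
    rw [H8.core_eq_bot_of_normal hO, mem_bot, mul_inv_eq_one] at h1
    exact hg (h.uniq hC (congrArg Subtype.val h1))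

/-- Glauberman's theorem on fixed point subgroups containing the centraliser of an involution. -/
theorem concl (G : Type u) [Group G] [Finite G] : Concl G := by
  generalize hn : Nat.card G = n
  induction n using Nat.strong_induction_on generalizing G with
  | _ n ih => exact step fun G' _ _ h => ih _ (hn ▸ h) G' rfl

end Cfsg.Agent.H59.FixInv
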