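/-
Quadratic modules whose fixed spaces form a partial spread (the module `O_p(L) / C_Y(L)` of a
`Y`-minimal group): elements of order prime to `p` act without fixed points.
-/
import Cfsg.Agent.H72.NatSL2

set_option autoImplicit false

namespace Cfsg.Agent.H59

open Subgroup Matrix Cfsg.Agent.H70 Cfsg.Agent.H72
open Cfsg.Agent.H69 (fixA dl dl_apply smul_eq_add_dl mem_fixA fixA_anti SL2 up lo up_mulVec
  lo_mulVec wn sl2_ext sl2_mul_apply sl2_inv00 sl2_inv01 sl2_inv10 sl2_inv11 up00 up01 up10 up11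
  lo00 lo01 lo10 lo11 wn00 wn01 wn10 wn11 up_add up_zero eq_top_of_up_lo natural_irreducible
  sl2_mulVec_mul sl2_one_mulVec mulVec_two sl2_det up_injective)

section
variable {F : Type*} [Field F] {A : Type*} [AddCommGroup A] [DistribMulAction (SL2 F) A]

theorem exists_natural_sub_mem (h0 : ∀ v ∈ fixA A (upS F), v ∈ fixA A (loS F) → v = 0) {e : A}
    (he0 : e ≠ 0) (he : e ∈ fixA A (loS F)) (hq : ∀ c : F, dl (up c) e ∈ fixA A (upS F)) :
    ∃ θ : (Fin 2 → F) →+ A, Function.Injective θ ∧ θ ![0, 1] = e ∧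
      ∀ (g : SL2 F) x, g • θ x = θ (g.1 *ᵥ x) := by
  have k1 : ∀ v : A, (∀ c : F, dl (up c) v ∈ fixA A (upS F)) → ∀ (c : F) (hc : c ≠ 0) (a : F),
      dl (lo a) (wn c hc • v) ∈ fixA A (loS F) := fun v h c hc a => by
    rw [dl_apply, ← mul_smul, lo_mul_wn, mul_smul, ← smul_sub]
    exact wn_mem_lo (h _) c hc
  have k2 : ∀ v : A, (∀ c : F, dl (lo c) v ∈ fixA A (loS F)) → ∀ (c : F) (hc : c ≠ 0) (a : F),
      dl (up a) (wn c hc • v) ∈ fixA A (upS F) := fun v h c hc a => by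
    rw [dl_apply, ← mul_smul, up_mul_wn, mul_smul, ← smul_sub]
    exact wn_mem_up (h _) c hc
  have k3 : ∀ v ∈ fixA A (loS F), (∀ c : F, dl (up c) v ∈ fixA A (upS F)) →
      ∀ (c : F) (hc : c ≠ 0), dl (up c) v = wn c hc • v := fun v hv h c hc => by
    have e1 : wn c hc • v + dl (lo c⁻¹) (wn c hc • v) = v + dl (up c) v := by
      rw [← smul_eq_add_dl, ← smul_eq_add_dl, ← mul_smul, lo_wn, mul_smul, mem_fix_loS.1 hv]
    refine sub_eq_zero.1 (h0 _ (sub_mem (h c) (wn_mem_up hv c hc)) ?_)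
    rw [show dl (up c) v - wn c hc • v = dl (lo c⁻¹) (wn c hc • v) - v by
      rw [sub_eq_sub_iff_add_eq_add, add_comm, ← e1, add_comm]]
    exact sub_mem (k1 v h c hc _) hv
  have k4 : ∀ v ∈ fixA A (upS F), (∀ c : F, dl (lo c) v ∈ fixA A (loS F)) →
      ∀ (c : F) (hc : c ≠ 0), dl (lo (-c⁻¹)) v = wn c hc • v := fun v hv h c hc => by
    have e1 : wn c hc • v + dl (up (-c)) (wn c hc • v) = v + dl (lo (-c⁻¹)) v := by
      rw [← smul_eq_add_dl, ← smul_eq_add_dl, ← mul_smul, up_wn, mul_smul, mem_fix_upS.1 hv]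
    refine sub_eq_zero.1 (h0 _ ?_ (sub_mem (h _) (wn_mem_lo hv c hc)))
    rw [show dl (lo (-c⁻¹)) v - wn c hc • v = dl (up (-c)) (wn c hc • v) - v by
      rw [sub_eq_sub_iff_add_eq_add, add_comm, ← e1, add_comm]]
    exact sub_mem (k2 v h c hc _) hv
  have k5 : ∀ v ∈ fixA A (upS F), (∀ c : F, dl (lo c) v ∈ fixA A (loS F)) →
      ∀ (d : F) (hd : d ≠ 0), dl (lo d) v = wn (-d⁻¹) (by simpa using hd) • v :=
    fun v hv h d hd => by rw [← k4 v hv h, neg_inv, neg_neg, inv_inv]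
  set f := wn (1 : F) one_ne_zero • e with hf
  have hf1 : f ∈ fixA A (upS F) := wn_mem_up he _ _
  have hf2 := k1 e hq 1 one_ne_zero
  have i1 : ∀ t d : F, dl (up t) (dl (lo d) f) = dl (up (t * d)) e := fun t d => by
    by_cases ht : t = 0
    · rw [ht, zero_mul, up_zero, dl_one, dl_one]
    by_cases hd : d = 0
    · rw [hd, mul_zero, up_zero, lo_zero, dl_one, dl_one, map_zero]
    rw [k3 _ (hf2 d) (fun c => by rw [k5 f hf1 hf2 d hd]; exact k2 f hf2 _ _ c) t ht,
      k5 f hf1 hf2 d hd, k3 e he hq _ (mul_ne_zero ht hd), hf, ← mul_smul, ← mul_smul]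
    congr 1
    apply sl2_ext <;> simp only [sl2_mul_apply, wn00, wn01, wn10, wn11] <;> field_simp <;> ring
  have i2 : ∀ t c : F, dl (lo t) (dl (up c) e) = dl (lo (t * c)) f := fun t c => by
    by_cases ht : t = 0
    · rw [ht, zero_mul, lo_zero, dl_one, dl_one]
    by_cases hc : c = 0
    · rw [hc, mul_zero, up_zero, lo_zero, dl_one, dl_one, map_zero]
    rw [k5 _ (hq c) (fun a => by rw [k3 e he hq c hc]; exact k1 e hq _ _ a) t ht,
      k3 e he hq c hc, k5 f hf1 hf2 _ (mul_ne_zero ht hc), hf, ← mul_smul, ← mul_smul]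
    congr 1
    apply sl2_ext <;> simp only [sl2_mul_apply, wn00, wn01, wn10, wn11] <;> field_simp <;> ring
  have a1 : ∀ c d : F, dl (up (c + d)) e = dl (up c) e + dl (up d) e := fun c d => by
    rw [up_add, dl_mul', mem_fix_upS.1 (hq d)]
  have a2 : ∀ c d : F, dl (lo (c + d)) f = dl (lo c) f + dl (lo d) f := fun c d => by
    rw [lo_add, dl_mul', mem_fix_loS.1 (hf2 d)]
  let θ : (Fin 2 → F) →+ A := AddMonoidHom.mk' (fun x => dl (up (x 0)) e + dl (lo (x 1)) f)
    fun x y => by simp only [Pi.add_apply, a1, a2]; abel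
  have hθ : ∀ x, θ x = dl (up (x 0)) e + dl (lo (x 1)) f := fun _ => rfl
  let K : Subgroup (SL2 F) :=
    { carrier := {g | ∀ x, g • θ x = θ (g.1 *ᵥ x)}
      one_mem' := fun x => by rw [one_smul, sl2_one_mulVec]
      mul_mem' := fun {g h} hg hh x => by rw [mul_smul, hh, hg, sl2_mulVec_mul]
      inv_mem' := fun {g} hg x => by
        rw [inv_smul_eq_iff, hg, sl2_mulVec_mul, mul_inv_cancel, sl2_one_mulVec] }
  have hK : K = ⊤ := eq_top_of_up_lo K (fun t x => by
      rw [up_mulVec, hθ, hθ, smul_add, mem_fix_upS.1 (hq _), smul_eq_add_dl, i1]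
      simp only [cons_val_zero, cons_val_one, a1]; abel) fun t x => by
      rw [lo_mulVec, hθ, hθ, smul_add, mem_fix_loS.1 (hf2 _), smul_eq_add_dl, i2]
      simp only [cons_val_zero, cons_val_one, a2]; abel
  have hg : ∀ (g : SL2 F) x, g • θ x = θ (g.1 *ᵥ x) := fun g => hK.ge (mem_top g)
  have he1 : θ ![0, 1] = e := by
    rw [hθ]
    simp only [cons_val_zero, cons_val_one, up_zero, dl_one, zero_add]
    rw [k5 f hf1 hf2 1 one_ne_zero, hf, ← mul_smul]
    convert one_smul (SL2 F) e using 2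
    apply sl2_ext <;> simp [sl2_mul_apply, wn00, wn01, wn10, wn11]
  refine ⟨θ, (injective_iff_map_eq_zero θ).2 fun x hx => by_contra fun x0 => he0 ?_, he1, hg⟩
  have := natural_irreducible θ.ker (fun g y hy => by
    rw [AddMonoidHom.mem_ker, ← hg, AddMonoidHom.mem_ker.1 hy, smul_zero]) hx x0
  have h1 : θ ![1, 0] = 0 := this.ge (AddSubgroup.mem_top _)
  rw [hθ] at h1
  simp only [cons_val_zero, cons_val_one, lo_zero, dl_one, add_zero] at h1
  rwa [k3 e he hq 1 one_ne_zero, smul_eq_zero_iff_eq] at h1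

theorem sl2_pow_of_trace {p : ℕ} [CharP F p] {h : SL2 F} (ht : h.1 0 0 + h.1 1 1 = 2) :
    h ^ p = 1 := by
  have hd := sl2_det h
  have key : ∀ n : ℕ, (h ^ n).1 0 0 = 1 + n * (h.1 0 0 - 1) ∧ (h ^ n).1 0 1 = n * h.1 0 1 ∧
      (h ^ n).1 1 0 = n * h.1 1 0 ∧ (h ^ n).1 1 1 = 1 + n * (h.1 1 1 - 1) := fun n => by
    induction n with
    | zero => simp
    | succ n ih =>
      obtain ⟨a, b, c, d⟩ := ih
      have e : h.1 1 1 = 2 - h.1 0 0 := by rw [← ht]; ring
      rw [e] at hd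
      simp only [pow_succ, sl2_mul_apply, a, b, c, d, e, Nat.cast_succ]
      refine ⟨?_, ?_, ?_, ?_⟩
      · linear_combination (-(n : F)) * hd
      · ring
      · ring
      · linear_combination (-(n : F)) * hd
  obtain ⟨a, b, c, d⟩ := key p
  rw [CharP.cast_eq_zero F p, zero_mul] at a b c d
  apply sl2_ext <;> simp [a, b, c, d]

/-- A `p`-subgroup of `SL₂(F)` is conjugate into the upper unitriangular group. -/
theorem exists_cj_le_upS {p : ℕ} [Fact p.Prime] [CharP F p] [Finite F] {S : Subgroup (SL2 F)}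
    (hS : IsPGroup p S) : ∃ g, cj g S ≤ upS F := by
  obtain ⟨y, -, hy, hy'⟩ := exists_fixed_mod (V := Fin 2 → F) (p := p)
    (fun v => by ext i; simp) hS (Z := ⊥) (Y := ⊤)
    (fun s _ z hz => by rw [AddSubgroup.mem_bot.1 hz, smul_zero]; exact zero_mem _)
    (fun _ _ _ _ => trivial) fun e => one_ne_zero (congrFun (AddSubgroup.mem_bot.1
      (e (AddSubgroup.mem_top (1 : Fin 2 → F)))) 0)
  have hy0 : y ≠ 0 := fun e => hy (by rw [e]; exact zero_mem _)
  have hfix : ∀ s ∈ S, s.1 *ᵥ y = y := fun s hs =>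
    dl_eq_zero_iff.1 (AddSubgroup.mem_bot.1 (hy' s hs))
  obtain ⟨g, hg⟩ : ∃ g : SL2 F, (g.1 *ᵥ y) 1 = 0 := by
    by_cases h : y 1 = 0
    · exact ⟨1, by rwa [sl2_one_mulVec]⟩
    · refine ⟨lo (-1) * up ((y 1 - y 0) / y 1), ?_⟩
      rw [← sl2_mulVec_mul, up_mulVec, lo_mulVec]
      simp only [cons_val_zero, cons_val_one]
      field_simp; ring
  have hg0 : (g.1 *ᵥ y) 0 ≠ 0 := fun e => hy0 (by
    have : g.1 *ᵥ y = 0 := by ext i; fin_cases i; exacts [e, hg]
    rw [← sl2_one_mulVec y, ← inv_mul_cancel g, ← sl2_mulVec_mul, this, mulVec_zero])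
  refine ⟨g, cj_le_iff.2 fun s hs => ?_⟩
  have e : (g * s * g⁻¹).1 *ᵥ (g.1 *ᵥ y) = g.1 *ᵥ y := by
    rw [sl2_mulVec_mul, inv_mul_cancel_right, ← sl2_mulVec_mul, hfix s hs]
  have e0 := congrFun e 0
  have e1 := congrFun e 1
  rw [mulVec_two, hg, mul_zero, add_zero] at e0 e1
  have a : (g * s * g⁻¹).1 0 0 = 1 := mul_right_cancel₀ hg0 (by rw [e0, one_mul])
  have c : (g * s * g⁻¹).1 1 0 = 0 := (mul_eq_zero.1 e1).resolve_right hg0
  have d := sl2_det (g * s * g⁻¹)
  rw [a, c, one_mul, mul_zero, sub_zero] at d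
  exact ⟨_, (sl2_ext (by rw [a, up00]) (up01 _).symm (by rw [c, up10]) (by rw [d, up11])).symm⟩

theorem card_upS : Nat.card (upS F) = Nat.card F :=
  (Nat.card_congr (Equiv.ofBijective (fun c : F => (⟨up c, mem_upS.2 ⟨c, rfl⟩⟩ : upS F))
    ⟨fun _ _ e => up_injective (congrArg Subtype.val e), fun ⟨_, c, e⟩ => ⟨c, Subtype.ext e⟩⟩)).symm

theorem exists_cj_eq_upS {p : ℕ} [Fact p.Prime] [CharP F p] [Finite F] {S : Subgroup (SL2 F)}
    (hS : IsPGroup p S) (hc : Nat.card S = Nat.card F) : ∃ g, cj g S = upS F := by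
  obtain ⟨g, hg⟩ := exists_cj_le_upS hS
  exact ⟨g, eq_of_le_of_card_ge hg (by rw [card_cj, hc, card_upS])⟩

theorem loS_ne_upS : loS F ≠ upS F := fun e => by
  obtain ⟨c, hc⟩ := mem_upS.1 (e.le (mem_loS.2 ⟨1, rfl⟩))
  have := congrArg (fun g : SL2 F => g.1 1 0) hc
  simp [up10, lo10] at this

end

variable {Γ : Type*} [Group Γ] {V : Type*} [AddCommGroup V] [DistribMulAction Γ V]

variable (V) in
/-- `S` acts quadratically, all its non-identity elements have the same fixed space, and the fixed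
spaces of two different conjugates of `S` are complementary. -/
structure SpreadMod (p : ℕ) (S : Subgroup Γ) : Prop where
  exp : ∀ v : V, p • v = 0
  quad : Prp V S S
  free : ∀ s ∈ S, s ≠ 1 → ∀ v : V, s • v = v → v ∈ fixA V S
  zero : ∀ g, cj g S ≠ S → ∀ v ∈ fixA V S, v ∈ fixA V (cj g S) → v = 0
  add : ∀ g, cj g S ≠ S → ∀ v : V, ∃ u ∈ fixA V S, ∃ u' ∈ fixA V (cj g S), v = u + u'

variable {p : ℕ} {S : Subgroup Γ}

theorem cj_cj_ne {g x : Γ} (h : cj x (cj g S) ≠ cj g S) : cj (g⁻¹ * x * g) S ≠ S := fun e =>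
  h (by rw [← cj_mul, show x * g = g * (g⁻¹ * x * g) by group, cj_mul, e])

theorem SpreadMod.cj (h : SpreadMod V p S) (g : Γ) : SpreadMod V p (cj g S) where
  exp := h.exp
  quad := h.quad.cj g
  free := fun s hs h1 v hv => by
    obtain ⟨t, ht, rfl⟩ := mem_cj'.1 hs
    refine mem_fix_cj.2 (h.free t ht (fun e => h1 (by simp [e])) _ ?_)
    rw [eq_inv_smul_iff, ← mul_smul, ← mul_smul, hv]
  zero := fun x hx a h1 h2 => by
    rw [← H70.cj_mul, mem_fix_cj] at h2
    have := h.zero (g⁻¹ * x * g) (cj_cj_ne hx) _ (mem_fix_cj.1 h1)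
      (mem_fix_cj.2 (by simpa [mul_smul] using h2))
    exact (smul_eq_zero_iff_eq _).1 this
  add := fun x hx v => by
    obtain ⟨u, hu, u', hu', e⟩ := h.add _ (cj_cj_ne hx) (g⁻¹ • v)
    refine ⟨g • u, smul_mem_fix_cj.2 hu, g • u', ?_, by rw [← smul_add, ← e, smul_inv_smul]⟩
    rw [← H70.cj_mul, show x * g = g * (g⁻¹ * x * g) by group, H70.cj_mul]
    exact smul_mem_fix_cj.2 hu'

/-- characteristic two: products of two involutions conjugate into `S` -/
theorem SpreadMod.two (h : SpreadMod V 2 S) (hS : ∀ s ∈ S, s ^ 2 = 1)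
    (hinv : ∀ t : Γ, t ^ 2 = 1 → t ≠ 1 → ∃ g, t ∈ H70.cj g S) {x t : Γ} (ht : t ^ 2 = 1)
    (hx : t * x * t⁻¹ = x⁻¹) (h2 : x ^ 2 ≠ 1) {v : V} (hv : x • v = v) : v = 0 := by
  have htt : t * t = 1 := by rw [← pow_two, ht]
  have hti : t⁻¹ = t := inv_eq_of_mul_eq_one_right htt
  have key : ∀ w : V, x • w = w → t • w = w → w = 0 := fun w h1 h3 => by
    have t1 : t ≠ 1 := fun e => h2 (by
      rw [e, one_mul, inv_one, mul_one] at hx; rw [pow_two]; nth_rw 1 [hx]; simp)
    have u2 : (t * x) ^ 2 = 1 := by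
      rw [pow_two, show t * x * (t * x) = t * x * t⁻¹ * x by rw [hti]; group, hx, inv_mul_cancel]
    have u1 : t * x ≠ 1 := fun e => h2 (by
      rw [eq_inv_of_mul_eq_one_right e, hti, ht])
    obtain ⟨a, ha⟩ := hinv t ht t1
    obtain ⟨b, hb⟩ := hinv _ u2 u1
    have wa := (h.cj a).free t ha t1 w h3
    have wb := (h.cj b).free _ hb u1 w (by rw [mul_smul, h1, h3])
    refine (h.cj a).zero (b * a⁻¹) (fun e => h2 ?_) w wa
      (by rwa [← H70.cj_mul, inv_mul_cancel_right])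
    rw [← H70.cj_mul, inv_mul_cancel_right] at e
    have : x ∈ H70.cj a S := by
      have := mul_mem (inv_mem ha) (e ▸ hb)
      rwa [inv_mul_cancel_left] at this
    obtain ⟨y, hy, rfl⟩ := mem_cj'.1 this
    rw [conj_pow, hS y hy]; simp
  have hxt : x • t • v = t • v := by
    rw [← mul_smul, show x * t = t * (t * x * t⁻¹) by
      rw [hti, ← mul_assoc, ← mul_assoc, htt, one_mul], mul_smul, hx, inv_smul_eq_iff.2 hv.symm]
  have h1 := key (v + t • v) (by rw [smul_add, hv, hxt])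
    (by rw [smul_add, ← mul_smul, htt, one_smul, add_comm])
  refine key v hv ?_
  have := h.exp v
  rw [two_nsmul, ← h1] at this
  exact (add_left_cancel this).symm

/-- `SL₂(F)`: only unipotent elements have fixed points -/
theorem SpreadMod.sl2 {F : Type*} [Field F] [Fact p.Prime] [CharP F p] {V : Type*}
    [AddCommGroup V] [Finite V] [DistribMulAction (SL2 F) V] (h : SpreadMod V p (upS F))
    {x : SL2 F} {v : V} (hv : x • v = v) (h0 : v ≠ 0) : x ^ p = 1 := by
  have hne : H70.cj (wn (1 : F) one_ne_zero) (upS F) ≠ upS F := by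
    rw [cj_wn_upS]; exact loS_ne_upS
  have z0 : ∀ v ∈ fixA V (upS F), v ∈ fixA V (loS F) → v = 0 := fun v h1 h2 =>
    h.zero _ hne v h1 (by rwa [cj_wn_upS])
  have nat : ∀ e ∈ fixA V (loS F), e ≠ 0 → ∃ θ : (Fin 2 → F) →+ V, Function.Injective θ ∧
      θ ![0, 1] = e ∧ ∀ (g : SL2 F) x, g • θ x = θ (g.1 *ᵥ x) := fun e he e0 =>
    exists_natural_sub_mem z0 e0 he fun c => h.quad _ (mem_upS.2 ⟨c, rfl⟩) e
  have tr : ∀ y : Fin 2 → F, x.1 *ᵥ y + (x⁻¹).1 *ᵥ y = (x.1 0 0 + x.1 1 1) • y := fun y => by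
    ext i
    fin_cases i <;>
    simp only [Pi.add_apply, mulVec_two, Fin.zero_eta, Fin.mk_one, sl2_inv00, sl2_inv01, sl2_inv10,
      sl2_inv11, Pi.smul_apply, smul_eq_mul] <;> ring
  let W : AddSubgroup V :=
    { carrier := {v | ∀ g : SL2 F, x • g • v + x⁻¹ • g • v = g • (x • v + x⁻¹ • v)}
      zero_mem' := fun g => by simp
      add_mem' := fun {a b} ha hb g => by
        have := congrArg₂ (· + ·) (ha g) (hb g)
        simp only [smul_add] at this ⊢
        rw [add_add_add_comm, this, add_add_add_comm]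
      neg_mem' := fun {a} ha g => by
        have := congrArg (- ·) (ha g)
        simpa only [smul_add, smul_neg, neg_add] using this }
  have W1 : ∀ g : SL2 F, ∀ v ∈ W, g • v ∈ W := fun g v hv g' => by
    rw [← mul_smul g' g, hv (g' * g), hv g, mul_smul]
  have W2 : fixA V (loS F) ≤ W := fun e he => by
    by_cases e0 : e = 0
    · rw [e0]; exact zero_mem _
    obtain ⟨θ, -, rfl, hθ⟩ := nat e he e0
    intro g
    simp only [hθ, ← map_add, tr, mulVec_smul]
  have W3 : ∀ v, v ∈ W := fun v => by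
    obtain ⟨u, hu, u', hu', rfl⟩ := h.add _ hne v
    rw [cj_wn_upS] at hu'
    refine add_mem ?_ (W2 hu')
    have := W1 (wn (1 : F) one_ne_zero)⁻¹ _ (W2 (wn_mem_lo hu 1 one_ne_zero))
    rwa [inv_smul_smul] at this
  let K : AddSubgroup V :=
    { carrier := {v | x • v + x⁻¹ • v = v + v}
      zero_mem' := by simp
      add_mem' := fun {a b} ha hb => by
        have := congrArg₂ (· + ·) ha hb
        simp only [Set.mem_ofPred_eq, smul_add] at this ⊢
        rw [add_add_add_comm, this, add_add_add_comm]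
      neg_mem' := fun {a} ha => by
        have := congrArg (- ·) ha
        simpa only [Set.mem_ofPred_eq, smul_neg, neg_add] using this }
  have hlo : IsPGroup p (loS F) := by
    rw [← cj_wn_upS 1 one_ne_zero]; exact isPGroup_cj _ isPGroup_upS
  obtain ⟨e, he, e0, he'⟩ := exists_fixed_mod h.exp hlo (Z := ⊥) (Y := K)
    (fun s _ z hz => by rw [AddSubgroup.mem_bot.1 hz, smul_zero]; exact zero_mem _)
    (fun s _ z hz => by
      change x • s • z + x⁻¹ • s • z = s • z + s • z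
      rw [W3 z s, show x • z + x⁻¹ • z = z + z from hz, smul_add])
    fun e => h0 (AddSubgroup.mem_bot.1 (e (show x • v + x⁻¹ • v = v + v by
      rw [inv_smul_eq_iff.2 hv.symm, hv])))
  obtain ⟨θ, hi, rfl, hθ⟩ := nat e (mem_fix_iff_dl.2 fun b hb => AddSubgroup.mem_bot.1 (he' b hb))
    fun e => e0 (by rw [e]; exact zero_mem _)
  have : x • θ ![0, 1] + x⁻¹ • θ ![0, 1] = θ ![0, 1] + θ ![0, 1] := he
  rw [hθ, hθ, ← map_add, ← map_add, tr] at this
  have := congrFun (hi this) 1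
  refine sl2_pow_of_trace ?_
  simpa [one_add_one_eq_two] using this

end Cfsg.Agent.H59
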