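/-
`Y`-minimal groups `H` with `O_p(H) = ⟨(Y ∩ O_p(H))^H⟩`: the module `O_p(H) / C_Y(H)`.
-/
import Cfsg.Agent.H59.Spread
import Cfsg.Agent.H70.MinOver
import Cfsg.Agent.H70.YL

set_option autoImplicit false
set_option linter.unusedSectionVars false

namespace Cfsg.Agent.H59

open Subgroup Cfsg.Agent.H70 Cfsg.Agent.H72 Multiplicative
open Cfsg.Agent.H69 (fixA dl mem_fixA)
open scoped commutatorElement

universe u

variable {H : Type u} [Group H] [Finite H] {p : ℕ} [hp : Fact p.Prime]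

/-- `H` is `Y`-minimal with unique maximal overgroup `N_H(Y)`, and `O_p(H)` is the normal closure
of `Y ∩ O_p(H)`. -/
structure FLG (p : ℕ) (Y : Subgroup H) : Prop where
  elem : IsElementaryAbelian p Y
  min : MinOver Y ⊤ (normalizer (Y : Set H))
  gen : pCore p H = normalClosure ((Y ⊓ pCore p H : Subgroup H) : Set H)

theorem normal_inf_center (Y : Subgroup H) : (Y ⊓ center H).Normal :=
  ⟨fun n hn g => by rwa [mem_center_iff.1 hn.2 g, mul_inv_cancel_right]⟩

theorem flg_of {G : Type u} [Group G] [Finite G] {M L : Subgroup G} (h : IsInFrakL p M L) :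
    FLG p ((largestPReducedOf p M).subgroupOf L) := by
  obtain ⟨h1, h2, -, h4, -, ⟨h6, h7⟩, -⟩ := h
  have hm : MinOver (largestPReducedOf p M) L (L ⊓ normalizer (largestPReducedOf p M : Set G)) :=
    ⟨le_inf h1 le_normalizer, h6, by
      rw [← map_normalClosure_subgroupOf h1, h4.1, ← MonoidHom.range_eq_map, range_subtype], h7⟩
  refine ⟨IsElem_comap_of_injective _ L.subtype_injective (YL_pRed M).elem, ?_, ?_⟩
  · have := hm.subgroupOf
    rwa [inf_subgroupOf_left, subgroupOf_normalizer_eq h1] at this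
  · apply map_injective L.subtype_injective
    refine h2.trans ?_
    rw [← subgroupOf_pCoreOf L]; rfl

namespace FLG

variable {Y : Subgroup H} (h : FLG p Y)
include h

theorem pgroup : IsPGroup p Y := fun g => ⟨1, Subtype.ext (by simpa using h.elem.2 g g.2)⟩

theorem comm {x y : H} (hx : x ∈ Y) (hy : y ∈ Y) : x * y = y * x :=
  IsElem_le_cent h.elem hy x hx

theorem core_le : pCore p H ≤ normalizer (Y : Set H) := by
  rw [← pCoreOf_top]; exact h.min.pCoreOf_le h.pgroup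

theorem not_le : ¬ Y ≤ pCore p H := by
  rw [← pCoreOf_top]; exact h.min.not_le_pCoreOf h.pgroup

theorem cj (g : H) : FLG p (cj g Y) where
  elem := IsElem_map _ h.elem
  min := by rw [← cj_normalizer]; exact h.min.cj_of_mem (mem_top g)
  gen := by
    have e : H70.cj g (pCore p H) = pCore p H := cj_eq_self (norm_of_normal (mem_top g))
    rw [← ncl_top]
    conv_lhs => rw [← e, h.gen, ← ncl_top, cj_ncl, cj_inf, e, cj_top]

theorem exists_not_mem : ∃ g, g ∉ normalizer (Y : Set H) := by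
  by_contra e
  exact h.min.lt.not_ge fun g _ => by_contra fun hg => e ⟨g, hg⟩

theorem inf_cj {g : H} (hg : g ∉ normalizer (Y : Set H)) : Y ⊓ H70.cj g Y = Y ⊓ center H := by
  rw [h.min.inf_cj (mem_top g) hg (IsElem_le_cent h.elem), cent_top]

theorem comm_mem {y a : H} (hy : y ∈ Y) (ha : a ∈ pCore p H) : ⁅y, a⁆ ∈ Y ⊓ pCore p H := by
  refine mem_inf.2 ⟨?_, ?_⟩
  · rw [commutatorElement_def, mul_assoc, mul_assoc, ← mul_assoc a]
    exact mul_mem hy (conj_mem_of_mem_norm (h.core_le ha) (inv_mem hy))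
  · rw [commutatorElement_def]
    exact mul_mem (Normal.conj_mem inferInstance a ha y) (inv_mem ha)

theorem core_eq {g : H} (hg : g ∉ normalizer (Y : Set H)) :
    pCore p H = (Y ⊓ pCore p H) ⊔ (H70.cj g Y ⊓ pCore p H) := by
  refine le_antisymm ?_ (sup_le inf_le_right inf_le_right)
  have key : ∀ {X X' : Subgroup H}, FLG p X →
      X ≤ normalizer (((X ⊓ pCore p H) ⊔ (X' ⊓ pCore p H) : Subgroup H) : Set H) := fun hX =>
    le_norm_iff_cj.2 fun y hy => by
      rw [cj_sup]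
      refine sup_le ((cj_eq_self (norm_inf le_normalizer norm_of_normal hy)).le.trans le_sup_left)
        (cj_le_iff.2 fun b hb => ?_)
      rw [show y * b * y⁻¹ = ⁅y, b⁆ * b by rw [commutatorElement_def]; group]
      exact mul_mem (mem_sup_left (hX.comm_mem hy hb.2)) (mem_sup_right hb)
  have : ((Y ⊓ pCore p H) ⊔ (H70.cj g Y ⊓ pCore p H)).Normal := normal_of_top_le_norm (by
    rw [← h.min.sup_cj (mem_top g) hg]
    exact sup_le (key h) (by rw [sup_comm]; exact key (h.cj g)))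
  exact h.gen.le.trans (normalClosure_le_normal (SetLike.coe_subset_coe.2 le_sup_left))

theorem exists_mul {g : H} (hg : g ∉ normalizer (Y : Set H)) {a : H} (ha : a ∈ pCore p H) :
    ∃ b ∈ Y ⊓ pCore p H, ∃ b' ∈ H70.cj g Y ⊓ pCore p H, b * b' = a := by
  rw [h.core_eq hg] at ha
  exact (mem_sup_of_norm (inf_le_right.trans (norm_inf (h.cj g).core_le le_normalizer))).1 ha

theorem comm_core : ⁅pCore p H, pCore p H⁆ ≤ Y ⊓ center H := by
  haveI := normal_inf_center Y
  obtain ⟨g, hg⟩ := h.exists_not_mem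
  have k1 : ∀ {X : Subgroup H}, FLG p X → ⁅X ⊓ pCore p H, X ⊓ pCore p H⁆ ≤ Y ⊓ center H :=
    fun hX => le_trans (comm_le_bot_iff.2 (inf_le_left.trans
      ((IsElem_le_cent hX.elem).trans (cent_anti inf_le_left)))) bot_le
  have k2 : ⁅Y ⊓ pCore p H, H70.cj g Y ⊓ pCore p H⁆ ≤ Y ⊓ center H := by
    rw [← h.inf_cj hg, commutator_le]
    intro a ha b hb
    refine mem_inf.2 ⟨(h.comm_mem ha.1 hb.2).1, ?_⟩
    rw [← commutatorElement_inv]
    exact inv_mem (mem_inf.1 ((h.cj g).comm_mem hb.1 ha.2)).1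
  rw [h.core_eq hg]
  refine comm_sup_le norm_of_normal norm_of_normal
    (comm_sup_le' norm_of_normal norm_of_normal (k1 h) k2)
    (comm_sup_le' norm_of_normal norm_of_normal (by rwa [commutator_comm]) (k1 (h.cj g)))

theorem free {y a : H} (hy : y ∈ Y) (hyA : y ∉ pCore p H) (ha : a ∈ pCore p H)
    (hc : ⁅y, a⁆ ∈ Y ⊓ center H) : a ∈ Y := by
  haveI := normal_inf_center Y
  obtain ⟨g, hg⟩ : ∃ g, y ∉ H70.cj g (normalizer (Y : Set H)) := by
    by_contra e
    have hK : y ∈ (normalizer (Y : Set H)).normalCore := fun b => by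
      have := mem_cj.1 (by_contra fun h' => e ⟨b⁻¹, h'⟩)
      rwa [inv_inv] at this
    refine hyA ?_
    rw [← pCoreOf_top]
    exact pCoreOf_le_pCoreOf_of_norm le_top norm_of_normal (le_pCoreOf inf_le_right
      (norm_inf (normalCore_le _) le_normalizer) (h.pgroup.to_le inf_le_left) ⟨hy, hK⟩)
  have hgN : g ∉ normalizer (Y : Set H) := fun e =>
    hg (by rw [cj_eq_self_of_mem e]; exact le_normalizer hy)
  obtain ⟨b, hb, b', hb', rfl⟩ := h.exists_mul hgN ha
  have h1 : ⁅y, b'⁆ ∈ Y ⊓ center H := by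
    have := Normal.conj_mem inferInstance _ hc b⁻¹
    convert this using 1
    simp only [commutatorElement_def, ← mul_assoc]
    rw [mul_assoc b⁻¹ y b, h.comm hy hb.1]; group
  have hm := h.min.cj_of_mem (mem_top g)
  have hb'c : H70.cj g Y ≤ centralizer {b'} := fun z hz => mem_centralizer_singleton_iff.2
    ((h.cj g).comm hz hb'.1)
  have h2 : relCent {b'} (Y ⊓ center H) = ⊤ := hm.eq_of_not_le
    (fun z hz => mem_relCent.2 ⟨norm_of_normal (mem_top z), fun c hc => by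
      rw [hc, commutatorElement_eq_one_iff_mul_comm.2 ((h.cj g).comm hz hb'.1)]; exact one_mem _⟩)
    le_top fun e => hg (e (mem_relCent.2 ⟨norm_of_normal (mem_top y), fun c hc => by rwa [hc]⟩))
  haveI : (centralizer ({b'} : Set H)).Normal := ⟨fun x hx z => by
    have h3 := mem_center_iff.1 ((mem_relCent.1 (h2.ge (mem_top z⁻¹))).2 b' rfl).2
    rw [mem_centralizer_singleton_iff] at hx ⊢
    have e : z⁻¹ * b' * z = ⁅z⁻¹, b'⁆ * b' := by rw [commutatorElement_def]; group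
    calc z * x * z⁻¹ * b' = z * (x * (z⁻¹ * b' * z)) * z⁻¹ := by group
      _ = z * ((z⁻¹ * b' * z) * x) * z⁻¹ := by
        rw [e, ← mul_assoc x, h3 x, mul_assoc _ x, hx, ← mul_assoc _ b' x]
      _ = b' * (z * x * z⁻¹) := by group⟩
  have h3 : ⊤ ≤ centralizer ({b'} : Set H) := hm.gen.ge.trans (ncl_le hb'c norm_of_normal)
  have h4 := mem_cj.1 hb'.1
  rw [mem_centralizer_singleton_iff.1 (h3 (mem_top g⁻¹)), inv_mul_cancel_right] at h4
  exact mul_mem hb.1 h4

theorem isElem_map [(Y ⊓ center H).Normal] :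
    IsElementaryAbelian p ((pCore p H).map (QuotientGroup.mk' (Y ⊓ center H))) := by
  have hc : ∀ a ∈ pCore p H, ∀ b ∈ pCore p H, Commute (QuotientGroup.mk' (Y ⊓ center H) a)
      (QuotientGroup.mk' (Y ⊓ center H) b) := fun a ha b hb => by
    rw [← commutatorElement_eq_one_iff_commute, ← map_commutatorElement]
    exact (QuotientGroup.eq_one_iff _).2 (h.comm_core (commutator_mem_commutator ha hb))
  refine ⟨isMulCommutative_iff_le_cent.2 ?_, ?_⟩
  · rintro _ ⟨a, ha, rfl⟩ _ ⟨b, hb, rfl⟩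
    exact hc b hb a ha
  · rintro _ ⟨a, ha, rfl⟩
    obtain ⟨g, hg⟩ := h.exists_not_mem
    obtain ⟨b, hb, b', hb', rfl⟩ := h.exists_mul hg ha
    rw [map_mul, (hc b hb.2 b' hb'.2).mul_pow, ← map_pow, ← map_pow, h.elem.2 b hb.1,
      (h.cj g).elem.2 b' hb'.1, map_one, mul_one]

variable {Γ : Type*} [Group Γ] {π : H →* Γ}

theorem mem_norm_of_map (hk : π.ker = pCore p H) {g : H}
    (e : H70.cj (π g) (Y.map π) = Y.map π) : g ∈ normalizer (Y : Set H) := by
  refine h.min.mem_of_cj_le (mem_top g) ?_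
  rw [← map_cj] at e
  refine (le_comap_map π _).trans ?_
  rw [e, comap_map_eq, hk]
  exact sup_le le_normalizer h.core_le

theorem exists_mod (hπ : Function.Surjective π) (hk : π.ker = pCore p H) :
    ∃ (V : Type u) (_ : AddCommGroup V) (_ : Finite V) (_ : DistribMulAction Γ V),
      SpreadMod V p (Y.map π) ∧ ∀ g : H, (∀ v : V, π g • v = v → v = 0) →
        ∀ a ∈ pCore p H, ⁅g, a⁆ ∈ Y ⊓ center H → a ∈ Y ⊓ center H := by
  haveI := normal_inf_center Y
  set κ := QuotientGroup.mk' (Y ⊓ center H) with hκ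
  set W := (pCore p H).map κ with hW0
  have hW : IsElementaryAbelian p W := h.isElem_map
  have hn : ∀ k, κ k ∈ normalizer (W : Set (H ⧸ (Y ⊓ center H))) := fun k =>
    norm_map κ (L := ⊤) norm_of_normal (mem_map_of_mem κ (mem_top k))
  haveI : ((centralizer (W : Set (H ⧸ (Y ⊓ center H)))).comap κ).Normal := ⟨fun n hn' g => by
    rw [mem_comap, map_mul, map_mul, map_inv]
    exact conj_mem_of_le_norm (norm_centralizer le_rfl) (hn g) hn'⟩
  obtain ⟨V, _, _, _, ι, h1, -, hb₀⟩ := exists_br hW κ hn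
    (QuotientGroup.mk' ((centralizer (W : Set (H ⧸ (Y ⊓ center H)))).comap κ)) (QuotientGroup.mk'_surjective _)
    fun k => QuotientGroup.eq_one_iff k
  let σ : Γ →* H ⧸ (centralizer (W : Set (H ⧸ (Y ⊓ center H)))).comap κ := π.liftOfSurjective hπ
    ⟨QuotientGroup.mk' _, by
      rw [hk, QuotientGroup.ker_mk']
      exact fun a ha => IsElem_le_cent hW (mem_map_of_mem κ ha)⟩
  have hσ : ∀ k, σ (π k) = QuotientGroup.mk' _ k := fun k => by simp [σ]
  letI : DistribMulAction Γ V := DistribMulAction.compHom V σ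
  have hb : Br W κ π ι := ⟨hb₀.inj, hb₀.range, fun k x => by
    rw [← hb₀.eqv k x, ← hσ]; rfl⟩
  have ex : ∀ x : V, ∃ a ∈ pCore p H, κ a = ι (ofAdd x) := fun x => hb.mem x
  have fix1 : ∀ (g a : H) (x : V), κ a = ι (ofAdd x) → (π g • x = x ↔ ⁅g, a⁆ ∈ Y ⊓ center H) :=
    fun g a x e => by
      rw [hb.smul_eq_iff, ← e, ← commutatorElement_eq_one_iff_mul_comm, ← map_commutatorElement]
      exact QuotientGroup.eq_one_iff _
  have zero : ∀ (a : H) (x : V), κ a = ι (ofAdd x) → (x = 0 ↔ a ∈ Y ⊓ center H) := fun a x e => by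
    rw [← QuotientGroup.eq_one_iff, ← QuotientGroup.mk'_apply, ← hκ, e, map_eq_one_iff _ hb.inj]
    rfl
  have fix2 : ∀ (g : H), ∀ a ∈ pCore p H, ∀ x : V, κ a = ι (ofAdd x) →
      (x ∈ fixA V (H70.cj (π g) (Y.map π)) ↔ a ∈ H70.cj g Y) := fun g a ha x e => by
    have hC : H70.cj g Y ⊓ center H = Y ⊓ center H := by
      rw [← cj_eq_self (norm_of_normal (A := center H) (mem_top g)), ← cj_inf,
        cj_eq_self (norm_of_normal (mem_top g)), cj_eq_self (norm_of_normal (mem_top g))]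
    rw [← map_cj]
    refine ⟨fun hx => ?_, fun ha' => ?_⟩
    · obtain ⟨y, hy, hyA⟩ := SetLike.not_le_iff_exists.1 (h.cj g).not_le
      refine (h.cj g).free hy hyA ha ?_
      rw [hC]
      exact (fix1 y a x e).1 (hx _ (mem_map_of_mem π hy))
    · rintro _ ⟨y, hy, rfl⟩
      rw [fix1 y a x e, commutatorElement_eq_one_iff_mul_comm.2 ((h.cj g).comm hy ha')]
      exact one_mem _
  have fix3 : ∀ a ∈ pCore p H, ∀ x : V, κ a = ι (ofAdd x) → (x ∈ fixA V (Y.map π) ↔ a ∈ Y) :=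
    fun a ha x e => by simpa only [map_one, cj_one] using fix2 1 a ha x e
  have nN : ∀ g : H, H70.cj (π g) (Y.map π) ≠ Y.map π → g ∉ normalizer (Y : Set H) :=
    fun g hg e => hg (by rw [← map_cj, cj_eq_self e])
  refine ⟨V, inferInstance, inferInstance, inferInstance, ⟨h1, ?_, ?_, ?_, ?_⟩,
    fun g hg a ha hc => ?_⟩
  · rintro _ ⟨y, hy, rfl⟩ x
    obtain ⟨a, ha, e⟩ := ex x
    have := h.comm_mem hy ha
    exact (fix3 _ this.2 _ (by rw [hb.dl_eq, map_commutatorElement, e])).2 this.1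
  · rintro _ ⟨y, hy, rfl⟩ hy1 x hx
    obtain ⟨a, ha, e⟩ := ex x
    exact (fix3 a ha x e).2 (h.free hy (fun e => hy1 (by rwa [← hk] at e)) ha ((fix1 y a x e).1 hx))
  · intro γ hγ x h2 h3
    obtain ⟨g, rfl⟩ := hπ γ
    obtain ⟨a, ha, e⟩ := ex x
    rw [zero a x e, ← h.inf_cj (nN g hγ)]
    exact ⟨(fix3 a ha x e).1 h2, (fix2 g a ha x e).1 h3⟩
  · intro γ hγ x
    obtain ⟨g, rfl⟩ := hπ γ
    obtain ⟨a, ha, e⟩ := ex x
    obtain ⟨b, hb1, b', hb', rfl⟩ := h.exists_mul (nN g hγ) ha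
    obtain ⟨u, hu⟩ := hb.ex (mem_map_of_mem κ hb1.2)
    obtain ⟨u', hu'⟩ := hb.ex (mem_map_of_mem κ hb'.2)
    refine ⟨u, (fix3 b hb1.2 u hu.symm).2 hb1.1, u', (fix2 g b' hb'.2 u' hu'.symm).2 hb'.1, ?_⟩
    have : ofAdd x = ofAdd (u + u') := hb.inj (by rw [← e, ofAdd_add, map_mul, map_mul, hu, hu'])
    exact this
  · obtain ⟨x, e⟩ := hb.ex (mem_map_of_mem κ ha)
    exact (zero a x e.symm).1 (hg x ((fix1 g a x e.symm).2 hc))

end FLG

end Cfsg.Agent.H59
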