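/-
Involutions in the dihedral groups of order `2r` and in the Suzuki groups (including `Sz(2)`).
-/
import Cfsg.Agent.H59.FrakL
import Cfsg.Agent.H20.SzPi
import Mathlib.GroupTheory.SpecificGroups.Dihedral

set_option autoImplicit false
set_option linter.unusedSectionVars false

namespace Cfsg.Agent.H59

open Subgroup Cfsg.Agent.H70

variable {Γ : Type*} [Group Γ]

/-- one class of involutions, and elements of odd prime order are inverted by involutions -/
structure InvReal (Γ : Type*) [Group Γ] : Prop where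
  conj : ∀ s t : Γ, s ^ 2 = 1 → s ≠ 1 → t ^ 2 = 1 → t ≠ 1 → ∃ g, t = g * s * g⁻¹
  real : ∀ r : ℕ, r.Prime → r ≠ 2 → ∀ x : Γ, orderOf x = r → ∃ t : Γ, t ^ 2 = 1 ∧ t * x * t⁻¹ = x⁻¹

theorem dihedral_sq {r : ℕ} (hr : r.Prime) (h2 : r ≠ 2) {s : DihedralGroup r} (hs : s ^ 2 = 1)
    (h1 : s ≠ 1) : ∃ i, s = DihedralGroup.sr i := by
  haveI := Fact.mk hr
  rcases s with i | i
  · refine (h1 ?_).elim
    rw [pow_two, DihedralGroup.r_mul_r, DihedralGroup.one_def, DihedralGroup.r.injEq,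
      ← two_mul] at hs
    have : (2 : ZMod r) ≠ 0 := fun e => h2 ((Nat.prime_dvd_prime_iff_eq hr Nat.prime_two).1
      ((ZMod.natCast_eq_zero_iff 2 r).1 (by exact_mod_cast e)))
    rw [(mul_eq_zero.1 hs).resolve_left this, DihedralGroup.one_def]
  · exact ⟨i, rfl⟩

theorem invReal_dihedral {r : ℕ} (hr : r.Prime) (h2 : r ≠ 2) : InvReal (DihedralGroup r) where
  conj := fun s t hs s1 ht t1 => by
    haveI := Fact.mk hr
    obtain ⟨i, rfl⟩ := dihedral_sq hr h2 hs s1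
    obtain ⟨j, rfl⟩ := dihedral_sq hr h2 ht t1
    have : (2 : ZMod r) ≠ 0 := fun e => h2 ((Nat.prime_dvd_prime_iff_eq hr Nat.prime_two).1
      ((ZMod.natCast_eq_zero_iff 2 r).1 (by exact_mod_cast e)))
    refine ⟨DihedralGroup.r ((i - j) / 2), ?_⟩
    rw [DihedralGroup.inv_r, DihedralGroup.r_mul_sr, DihedralGroup.sr_mul_r,
      DihedralGroup.sr.injEq]
    field_simp; ring
  real := fun q hq hq2 x hx => by
    rcases x with i | i
    · exact ⟨DihedralGroup.sr 0, by rw [pow_two, DihedralGroup.sr_mul_self], by simp⟩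
    · exact (hq2 (by rw [← hx, DihedralGroup.orderOf_sr])).elim

theorem conj_pow_inv {a y : Γ} (h : a * y * a⁻¹ = y⁻¹) (k : ℕ) : a * y ^ k * a⁻¹ = (y ^ k)⁻¹ := by
  rw [← conj_pow, h, inv_pow]

theorem sz_two_real {F : Type*} [Field F] [Finite F] [H13.Tits F] (M : H13.Model Γ F)
    (hF : Nat.card F = 2) {r : ℕ} (hr : r.Prime) (h2 : r ≠ 2) {x : Γ} (hx : orderOf x = r) :
    ∃ t : Γ, t ^ 2 = 1 ∧ t * x * t⁻¹ = x⁻¹ := by
  haveI := M.finite
  have hc : Nat.card Γ = 20 := by rw [M.card_G, hF]; norm_num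
  have hu : M.u 0 1 * M.u 0 1 = 1 := by rw [← pow_two, M.u_sq]; simp
  have hu1 : M.u 0 1 ≠ 1 := fun e => one_ne_zero (M.u_eq_one.1 e).2
  have hui : (M.u 0 1)⁻¹ = M.u 0 1 := inv_eq_of_mul_eq_one_right hu
  set y := M.w * M.u 0 1 with hy
  have a1 : M.w * y * M.w⁻¹ = y⁻¹ := by rw [hy, mul_inv_rev, hui, M.w_mul_w_mul]
  have a2 : M.u 0 1 * y * (M.u 0 1)⁻¹ = y⁻¹ := by
    rw [hy, mul_inv_rev, hui, M.w_inv, mul_assoc, mul_assoc, hu, mul_one]
  have hwU : M.w ∉ M.U := fun e => M.w_not_mem_B (M.U_le_B e)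
  have hodd : ¬ 2 ∣ orderOf y := by
    rintro ⟨k, hk⟩
    have hk0 : 0 < k := Nat.pos_of_ne_zero fun e => (orderOf_pos y).ne' (by rw [hk, e])
    have z1 : y ^ k ≠ 1 := pow_ne_one_of_lt_orderOf hk0.ne' (by omega)
    have z2 : (y ^ k)⁻¹ = y ^ k := inv_eq_of_mul_eq_one_right (by
      rw [← pow_add, ← two_mul, ← hk, pow_orderOf_eq_one])
    have b1 := conj_pow_inv a1 k
    have b2 := conj_pow_inv a2 k
    rw [z2, mul_inv_eq_iff_eq_mul] at b1 b2
    exact hwU (M.mem_U_of_commute (M.mem_U_of_commute (M.u_mem_U 0 1) hu1 b2.symm) z1 b1)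
  have hy1 : orderOf y ≠ 1 := fun e => hwU (by
    rw [eq_inv_of_mul_eq_one_left (orderOf_eq_one_iff.1 e)]; exact inv_mem (M.u_mem_U 0 1))
  have hy5 : orderOf y = 5 := by
    have := orderOf_dvd_natCard y
    rw [hc] at this
    have h3 := Nat.le_of_dvd (by norm_num) this
    generalize orderOf y = n at *
    interval_cases n <;> omega
  have hr5 : r = 5 := by
    have := orderOf_dvd_natCard x
    rw [hc, hx] at this
    have h3 := Nat.le_of_dvd (by norm_num) this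
    interval_cases r <;> first | omega | norm_num at hr
  subst hr5
  haveI := Fact.mk hr
  obtain ⟨P, hP⟩ := (IsPGroup.of_card (n := 1) (G := zpowers x)
    (by rw [Nat.card_zpowers, hx, pow_one])).exists_le_sylow
  obtain ⟨Q, hQ⟩ := (IsPGroup.of_card (p := 5) (n := 1) (G := zpowers y)
    (by rw [Nat.card_zpowers, hy5, pow_one])).exists_le_sylow
  obtain ⟨g, rfl⟩ := MulAction.exists_smul_eq Γ Q P
  have hQc : Nat.card Q = 5 := by
    rw [Q.card_eq_multiplicity, hc, show 20 = 5 * 4 by norm_num,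
      Nat.factorization_mul (by norm_num) (by norm_num)]
    simp [hr.factorization, Nat.factorization_eq_zero_of_not_dvd (show ¬ 5 ∣ 4 by norm_num)]
  have hQe : zpowers y = Q := eq_of_le_of_card_ge hQ (by rw [hQc, Nat.card_zpowers, hy5])
  have hx' := hP (mem_zpowers x)
  rw [Sylow.coe_subgroup_smul, ← hQe, Subgroup.mem_pointwise_smul_iff_inv_smul_mem] at hx'
  obtain ⟨k, hk⟩ := mem_powers_iff_mem_zpowers.2 hx'
  have hk' : x = g * y ^ k * g⁻¹ := by
    have : y ^ k = g⁻¹ * x * g := by simpa using hk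
    rw [this]; group
  refine ⟨g * M.w * g⁻¹, by rw [conj_pow, pow_two, M.w_mul_w]; simp, ?_⟩
  rw [hk', show g * M.w * g⁻¹ * (g * y ^ k * g⁻¹) * (g * M.w * g⁻¹)⁻¹ =
    g * (M.w * y ^ k * M.w⁻¹) * g⁻¹ by group, conj_pow_inv a1]
  group

theorem invReal_sz {F : Type} [Field F] [Fintype F] {m : ℕ}
    (hF : Fintype.card F = 2 ^ (2 * m + 1)) : InvReal (Lie.Sz F (2 ^ (m + 1))) := by
  letI := H13.titsOfCard hF
  let M := H13.lieModel (H13.titsOfCard_θ hF)
  refine ⟨fun s t hs s1 ht t1 => ?_, fun r hr h2 x hx => ?_⟩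
  · obtain ⟨a, rfl⟩ := M.exists_conj_u01 s1 hs
    obtain ⟨b, rfl⟩ := M.exists_conj_u01 t1 ht
    exact ⟨b * a⁻¹, by group⟩
  · rcases Nat.eq_zero_or_pos m with rfl | hm
    · exact sz_two_real M (by rw [Nat.card_eq_fintype_card, hF]; norm_num) hr h2 hx
    · exact H20.sz_inverted ⟨F, _, _, m, hm, hF, ⟨MulEquiv.refl _⟩⟩ hr h2 hx

theorem SpreadMod.invReal {V : Type*} [AddCommGroup V] [DistribMulAction Γ V] {S : Subgroup Γ}
    (h : SpreadMod V 2 S) (hS : ∀ s ∈ S, s ^ 2 = 1) (h1 : S ≠ ⊥) (hΓ : InvReal Γ) {r : ℕ}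
    (hr : r.Prime) (h2 : r ≠ 2) {x : Γ} (hx : orderOf x = r) {v : V} (hv : x • v = v) : v = 0 := by
  obtain ⟨t, ht, e⟩ := hΓ.real r hr h2 x hx
  obtain ⟨⟨s, hs⟩, s1⟩ := ne_bot_iff_exists_ne_one.1 h1
  refine h.two hS (fun u hu u1 => ?_) ht e (fun e => h2 ?_) hv
  · obtain ⟨g, rfl⟩ := hΓ.conj s u (hS s hs) (fun e => s1 (Subtype.ext e)) hu u1
    exact ⟨g, conj_mem_cj g hs⟩
  · exact (Nat.prime_dvd_prime_iff_eq hr Nat.prime_two).1 (hx ▸ orderOf_dvd_of_pow_eq_one e)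

theorem charP_of_card_eq {F : Type*} [Field F] [Fintype F] {p : ℕ} [hp : Fact p.Prime]
    {S : Subgroup Γ} (hS : IsPGroup p S) (hc : Fintype.card F = Nat.card S) : CharP F p := by
  haveI : Finite S := Nat.finite_of_card_ne_zero (by rw [← hc]; exact Fintype.card_ne_zero)
  obtain ⟨n, hn⟩ := IsPGroup.iff_card.1 hS
  obtain ⟨k, hl, hk⟩ := FiniteField.card F (ringChar F)
  have : ringChar F ∣ p ^ n := by
    rw [← hn, ← hc, hk]; exact dvd_pow_self _ k.ne_zero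
  rw [← (Nat.prime_dvd_prime_iff_eq hl hp.out).1 (hl.dvd_of_dvd_pow this)]
  infer_instance

theorem card_map_frakL {G : Type*} [Group G] {p : ℕ} {Y L : Subgroup G} (hY : Y ≤ L)
    {π : L →* Γ} (hk : π.ker = pCore p L) :
    Nat.card ((Y.subgroupOf L).map π) = (Y ⊓ pCoreOf p L).relIndex Y := by
  rw [← relIndex_ker, hk, ← subgroupOf_pCoreOf, relIndex_subgroupOf hY, inf_relIndex_left]

theorem exists_pi {L : Type*} [Group L] {p : ℕ} (e : L ⧸ pCore p L ≃* Γ) :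
    ∃ π : L →* Γ, Function.Surjective π ∧ π.ker = pCore p L :=
  ⟨e.toMonoidHom.comp (QuotientGroup.mk' _), e.surjective.comp (QuotientGroup.mk'_surjective _),
    by ext x; simp⟩

end Cfsg.Agent.H59
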