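import Cfsg.Agent.H59.MaxFus
import Cfsg.Agent.H80.Rank2
import Cfsg.Agent.S0126
import Cfsg.Agent.S1447
import Cfsg.Agent.S2792
import Cfsg.Agent.H49.Hall

/-! Perfect groups of `p`-rank two with an isolated element of order `p`. -/

set_option autoImplicit false

namespace Cfsg.Agent.H59.IR

open Subgroup Cfsg Cfsg.Agent.H62 Cfsg.Agent.H49 Cfsg.Agent.H80
open scoped commutatorElement

variable {G : Type*} [Group G] [Finite G] {p n : ℕ} [hp : Fact p.Prime]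

section Transfer

/-- Transfer evaluated at one element. -/
theorem tr_core {H Y : Subgroup G} (hH : IsPGroup p H) (hi : ¬ p ∣ H.index) (hY : ⁅H, H⁆ ≤ Y)
    {u : G} (hu : u ∈ H) (hu' : u ∈ _root_.commutator G)
    (h : ∀ (k : ℕ) (g : G), g * u ^ k * g⁻¹ ∈ H → (u ^ k)⁻¹ * (g * u ^ k * g⁻¹) ∈ Y) : u ∈ Y := by
  have hc : _root_.commutator H ≤ Y.subgroupOf H := commutator_le.2 fun a _ b _ =>
    hY (commutator_mem_commutator a.2 b.2)
  haveI : (Y.subgroupOf H).Normal := Normal.of_commutator_le _ hc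
  haveI : IsMulCommutative (H ⧸ Y.subgroupOf H) :=
    Normal.quotient_commutative_iff_commutator_le.mpr hc
  open scoped IsMulCommutative in
  have h1 : MonoidHom.transfer (QuotientGroup.mk' (Y.subgroupOf H)) u = 1 :=
    Abelianization.commutator_subset_ker _ hu'
  have : Fintype (Quotient (MulAction.orbitRel (zpowers u) (G ⧸ H))) := Fintype.ofFinite _
  open scoped IsMulCommutative in
  have h2 : MonoidHom.transfer (QuotientGroup.mk' (Y.subgroupOf H)) u =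
      QuotientGroup.mk' (Y.subgroupOf H) ⟨u, hu⟩ ^ H.index := by
    rw [index_eq_sum_minimalPeriod H u, ← Finset.prod_pow_eq_pow_sum,
      MonoidHom.transfer_eq_prod_quotient_orbitRel_zpowers_quot]
    refine Finset.prod_congr rfl fun q _ => ?_
    rw [← map_pow, eq_comm]
    refine QuotientGroup.eq.2 ?_
    simpa [mem_subgroupOf] using h _ (q.out.out)⁻¹ (by
      simpa using QuotientGroup.out_conj_pow_minimalPeriod_mem H u q.out)
  have := ((hH.to_quotient (Y.subgroupOf H)).powEquiv' hi).apply_eq_iff_eq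
    (x := QuotientGroup.mk' _ ⟨u, hu⟩) (y := 1)
  exact (QuotientGroup.eq_one_iff (N := Y.subgroupOf H) ⟨u, hu⟩).1 (this.1 (by
    simpa [h1] using h2.symm))

theorem tr_norm {P N Y : Subgroup G} (hP : IsSylowOf p P N) (hn : N ≤ 𝒩(P)) (hY : ⁅P, P⁆ ≤ Y)
    {u : G} (hu : u ∈ P) (hu' : u ∈ ⁅N, N⁆) (h : ∀ g ∈ N, u⁻¹ * (g * u * g⁻¹) ∈ Y) : u ∈ Y := by
  obtain ⟨h1, h2, h3⟩ := (sylowOf_iff hp.out).1 hP
  rw [← map_subtype_commutator] at hu'
  obtain ⟨v, hv, rfl⟩ := hu'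
  refine tr_core (H := P.subgroupOf N) (Y := Y.subgroupOf N) (h2.comap_of_injective _
    N.subtype_injective) h3 (commutator_le.2 fun a ha b hb => hY (commutator_mem_commutator ha hb))
    hu hv fun k g hk => ?_
  clear hk
  change ((v : G) ^ k)⁻¹ * (g * v ^ k * (g : G)⁻¹) ∈ Y
  have hg := conj_mem_of_norm hn g.2 hu
  rw [← conj_pow]
  induction k with
  | zero => simp
  | succ k ih =>
    have := mul_mem (mul_mem (hY (commutator_mem_commutator (inv_mem hu)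
      (mul_mem (inv_mem (pow_mem hu k)) (pow_mem hg k)))) ih) (h g g.2)
    convert this using 1
    simp only [commutatorElement_def, pow_succ, Subgroup.coe_subtype]
    group

theorem ctrl (hp2 : p ≠ 2) (P : Sylow p G) (hG : _root_.commutator G = ⊤)
    (h : ∀ W : Subgroup (P : Subgroup G), IsCoatom W → LL P 2 ≤ (frattini W).map W.subtype) :
    (P : Subgroup G) ≤ ⁅𝒩((P : Subgroup G)), 𝒩((P : Subgroup G))⁆ := by
  by_contra hc
  obtain ⟨x, hx, z, hz, W, hW, -, h1⟩ := S2792.result P P ⟨le_rfl, fun g hg =>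
    cj_eq_of_mem_norm (mem_norm_of_cj_le hg)⟩ fun e => hc (by
      rw [hG, inf_top_eq] at e
      exact e.le.trans inf_le_right)
  have h2 : ∀ k, ∃ y ∈ LL P k, (y : G) = (fun y : G => y⁻¹ * z⁻¹ * y * z)^[k] x := fun k => by
    induction k with
    | zero => exact ⟨⟨x, hx⟩, mem_top _, rfl⟩
    | succ k ih =>
      obtain ⟨y, hy, e⟩ := ih
      refine ⟨_, LL_comm' (inv_mem hy) ⟨z, hz⟩⁻¹, ?_⟩
      rw [Function.iterate_succ_apply', ← e]
      simp [commutatorElement_def]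
  obtain ⟨y, hy, e⟩ := h2 (p - 1)
  have := hp.out.two_le
  exact h1 ⟨y, h W hW (LL_anti (by omega) hy), e⟩

end Transfer

section PGroup

theorem le_coatom (hG : IsPGroup p G) {W : Subgroup G} (hW : IsCoatom W) : LL G 1 ≤ W :=
  (H3.commutator_le_frattini hG).trans (frattini_le_coatom hW)

theorem meta_ctrl (hG : IsPGroup p G) (h : IsMetacyclic G) {W : Subgroup G} (hW : IsCoatom W) :
    LL G 2 ≤ (frattini W).map W.subtype := by
  obtain ⟨N, _, h1, h2⟩ := h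
  have h3 : LL G 1 ≤ N := Normal.quotient_commutative_iff_commutator_le.1 inferInstance
  haveI : IsCyclic (LL G 1) := isCyclic_of_le h3
  obtain ⟨⟨c, hc⟩, h4⟩ := IsCyclic.exists_monoid_generator (α := LL G 1)
  intro y hy
  obtain ⟨i, hi⟩ := h4 ⟨y, LL_anti one_le_two hy⟩
  obtain rfl : c ^ i = y := congrArg Subtype.val hi
  by_cases hd : p ∣ i
  · obtain ⟨j, rfl⟩ := hd
    rw [pow_mul]
    exact pow_mem (mem_map_frattini (hG.to_subgroup W) (le_coatom hG hW hc)) j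
  obtain ⟨k, hk⟩ := (IsPGroup.iff_orderOf.1 hG) c
  obtain ⟨m, hm⟩ := exists_pow_eq_self_of_coprime (x := c) (n := i)
    (hk ▸ ((Nat.Prime.coprime_iff_not_dvd hp.out).2 hd).symm.pow_right k)
  have h5 : LL G 1 ≤ ⁅LL G 1, ⊤⁆ := fun a ha => by
    obtain ⟨l, hl⟩ := h4 ⟨a, ha⟩
    obtain rfl : c ^ l = a := congrArg Subtype.val hl
    exact pow_mem (hm ▸ pow_mem hy m) l
  have h6 : LL G 1 = ⊥ := by_contra fun e => (commutator_lt_of_nilpotent
    (hG.to_subgroup ⊤).isNilpotent le_top (normal_iff_top_le_norm.1 inferInstance) e).not_ge h5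
  rw [h6, mem_bot] at hc
  rw [hc, one_pow]
  exact one_mem _

theorem meta_of_card (hG : Nat.card G = p ^ (n + 1)) {a : G} (ha : orderOf a = p ^ n) :
    IsMetacyclic G := by
  have h1 : (zpowers a).index = p := by
    have := (zpowers a).card_mul_index
    rw [Nat.card_zpowers, ha, hG, pow_succ] at this
    exact Nat.eq_of_mul_eq_mul_left (pow_pos hp.out.pos n) this
  haveI : (zpowers a).Normal := normal_of_index_eq_minFac_card (by
    rw [h1, hG, hp.out.pow_minFac (by omega)])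
  exact ⟨zpowers a, inferInstance, inferInstance, isCyclic_of_prime_card (p := p) h1⟩

theorem LL_two_le (h : MC G p n) (R : Subgroup G) [R.Normal] {y : G} (hy : y ∈ R)
    (hy' : y ∉ LL G 3) : LL G 2 ≤ R := by
  have h3 := h.three_le
  by_cases hR : p ^ 2 ≤ Nat.card R
  · rcases MF.normal_cases h R hR with e | ⟨k, -, -, rfl⟩
    · exact (LL_anti one_le_two).trans e
    · exact LL_anti (le_of_not_gt fun e => hy' (LL_anti e hy))
  have h1 := H4.card_eq_prime_of_lt_sq (h.isPGroup.to_subgroup R)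
    (fun e => hy' (by rw [e, mem_bot] at hy; exact hy ▸ one_mem _)) (lt_of_not_ge hR)
  have h2 := eq_of_le_of_card_eq ((MF.small_normal h R h1).1.trans h.center_le)
    (h1.trans h.card_center_LL.symm)
  exact h2 ▸ LL_anti (le_of_not_gt fun e => hy' (LL_anti e (h2 ▸ hy)))

theorem mc_ctrl [Fact (Nat.Prime 3)] (h : MC G 3 n) (h4 : 4 ≤ n) (hrk : PRankLE 3 2 G)
    {W : Subgroup G} (hW : IsCoatom W) : LL G 2 ≤ (frattini W).map W.subtype := by
  have hG := h.isPGroup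
  have h1 := le_coatom hG hW
  haveI : W.Normal := Normal.of_commutator_le G h1
  obtain ⟨f1, f2⟩ := (H3.map_frattini_le_iff (hG.to_subgroup W)).1 le_rfl
  suffices ∃ y ∈ (frattini W).map W.subtype, y ∉ LL G 3 from
    let ⟨_, hy, hy'⟩ := this; LL_two_le h _ hy hy'
  by_cases hK : W ≤ KK G 1
  swap
  · obtain ⟨s, hs, hs'⟩ := SetLike.not_le_iff_exists.1 hK
    obtain ⟨y, hy, hy'⟩ := h.exists_not_mem (k := 1) (by omega)
    exact ⟨_, f1 (commutator_mem_commutator (h1 hy) hs), fun e =>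
      hy' (h.mem_of_comm_mem le_rfl hs' hy e)⟩
  have e : W = KK G 1 := (hW.le_iff.1 hK).resolve_left (h.KK_ne_top (by omega)) |>.symm
  rcases h4.eq_or_lt with rfl | h5
  · by_contra hc
    push Not at hc
    rw [h.LL_eq_bot le_rfl] at hc
    have := hrk W (abelian_iff.2 fun a ha b hb => h.comm_four (e ▸ hb) (e ▸ ha))
      fun a ha => hc _ (f2 a ha)
    rw [e, h.card_KK le_rfl le_rfl] at this
    omega
  · obtain ⟨w, hw, hw'⟩ := h.exists_KK (k := 1) le_rfl (by omega)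
    exact ⟨_, f2 w (e ▸ hw), (h.pow_KK (by omega) h.KK_three hw hw').2⟩

theorem mc_weight [Fact (Nat.Prime 3)] (h : MC G 3 n) (h4 : 4 ≤ n) (he : Even n) (φ : MulAut G)
    {x : G} (hx : x ∈ center G) (hx1 : x ≠ 1) (fx : φ x = x) {w : G} (hw : w ∈ KK G 1)
    (hw' : w ∉ LL G 1) : w⁻¹ * φ w ∈ LL G 1 := by
  obtain ⟨v, -, hv⟩ := SetLike.exists_of_lt (lt_top_iff_ne_top.2 (h.KK_ne_top (k := 1) (by omega)))
  have hu := h.unif_of_not_mem h.KK_three hv
  obtain ⟨b, hb⟩ := h.exists_pow_KK (by omega) hw hw' (aut_mem_KK φ hw)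
  obtain ⟨c, hc⟩ := h.KK_sup hv le_rfl (φ v)
  have key : ∀ k, k + 3 ≤ n → ∃ y ∈ LL G (k + 1), y ∉ LL G (k + 2) ∧
      (y ^ (b * c ^ (k + 1)))⁻¹ * φ y ∈ LL G (k + 2) := fun k => by
    induction k with
    | zero =>
      intro _
      refine ⟨_, LL_comm' (i := 0) (mem_top w) v, h.comm_not_mem le_rfl (by omega) hv hw hw', ?_⟩
      have y3 := comm_eig (k := 0) (s := v) (s' := v ^ c) (c := c) (mem_top w) hb (by simp)
      have y4 := LL_conj (h.comm_KK_mem (k := 1) (N := LL G 2) (by omega)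
        (fun l hl g hg => LL_anti (by omega) (hg l hl)) (aut_mem_KK φ hw) hc) (v ^ c)
      rw [map_commutatorElement, zero_add, pow_one]
      convert mul_mem y3 y4 using 1
      simp only [commutatorElement_def]
      group
    | succ k ih =>
      intro hk
      obtain ⟨y, y1, y2, y3⟩ := ih (by omega)
      refine ⟨_, LL_comm' y1 v, fun e => y2 (h.mem_of_comm_mem (by omega) (hu _ (by omega)) y1 e), ?_⟩
      rw [map_commutatorElement, pow_succ, ← mul_assoc]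
      exact comm_eig y1 y3 (h.KK_three _ (by omega) hc)
  obtain ⟨y, y1, y2, y3⟩ := key (n - 3) (by omega)
  rw [show n - 3 + 1 = n - 2 by omega] at y1 y3
  have fy : φ y = y := by
    obtain ⟨i, hi⟩ := h.exists_pow (k := n - 2) (by omega) (h.center_le hx)
      (by rwa [h.LL_eq_bot (by omega)]) y1
    rw [h.LL_eq_bot (by omega), mem_bot, inv_mul_eq_one] at hi
    rw [← hi, map_pow, fx]
  have m1 : b * c ^ (n - 2) ≡ 1 [MOD 3] := modEq_of_pow y2 (by
    have := h.pow_mem_succ (by omega) y1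
    rwa [show n - 2 + 1 = n - 3 + 2 by omega] at this) (by rwa [fy, ← pow_one y, ← pow_mul, one_mul] at y3)
  obtain ⟨m, hm⟩ : ∃ m, n - 2 = 2 * (m + 1) := by
    obtain ⟨r, hr⟩ := he
    exact ⟨r - 2, by omega⟩
  have m2 : b % 3 = 1 := by
    rw [hm, pow_mul, Nat.ModEq, Nat.mul_mod, Nat.pow_mod, Nat.pow_mod c] at m1
    have : c % 3 < 3 := Nat.mod_lt _ (by omega)
    interval_cases c % 3 <;> simp at m1 <;> omega
  have := mul_mem (pow_mem (h.pow_mem_one w) (b / 3)) hb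
  convert this using 1
  conv_rhs => rw [← pow_mul, ← Nat.div_add_mod b 3, m2, Nat.mul_add_div (by omega)]
  simp only [pow_succ, mul_inv_rev, Nat.reduceDiv, add_zero]
  group

theorem mc_cases [Fact (Nat.Prime 3)] (hG : Nat.card G = 3 ^ n) (h2 : 2 ≤ n) {x s : G}
    (ho : orderOf x = 3) (hs : Nat.card 𝒞[s] ≤ 3 ^ 2) :
    IsMetacyclic G ∨ (n = 3 ∧ ∀ g : G, g ^ 3 = 1) ∨ (4 ≤ n ∧ MC G 3 n) := by
  rcases (show n = 2 ∨ n = 3 ∨ 4 ≤ n by omega) with rfl | rfl | h4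
  · exact Or.inl (meta_of_card (p := 3) (n := 1) hG ho)
  · refine or_iff_not_imp_left.2 fun hm => Or.inl ⟨rfl, fun g => by_contra fun hg => hm ?_⟩
    obtain ⟨k, hk, e⟩ := (Nat.dvd_prime_pow Nat.prime_three).1 (hG ▸ orderOf_dvd_natCard g)
    interval_cases k
    · exact (hg (orderOf_dvd_iff_pow_eq_one.1 (e ▸ one_dvd 3))).elim
    · exact (hg (orderOf_dvd_iff_pow_eq_one.1 (e ▸ dvd_rfl))).elim
    · exact meta_of_card hG e
    · haveI := isCyclic_of_orderOf_eq_card g (e.trans hG.symm)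
      exact ⟨⊥, inferInstance, inferInstance, isCyclic_of_surjective _ (QuotientGroup.mk'_surjective _)⟩
  · exact Or.inr (Or.inr ⟨h4, hG, by omega, lcs_ne_bot_of_card_centralizer hG h2 hs⟩)

theorem tri (hp2 : p ≠ 2) (hG : Nat.card G = p ^ n) (hrk : PRankLE p 2 G) {x : G}
    (hx : x ∈ center G) (ho : orderOf x = p) :
    IsMetacyclic G ∨ (n = 3 ∧ ∀ g : G, g ^ p = 1) ∨ (p = 3 ∧ 4 ≤ n ∧ MC G p n) ∨
      ∃ q : ℕ, (∀ a b : G, (a * b) ^ q = a ^ q * b ^ q) ∧ (∀ a : G, a ^ q ∈ zpowers x) ∧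
        ∃ a : G, a ^ q ≠ 1 := by
  have hp' : IsPGroup p G := IsPGroup.of_card hG
  by_cases hc : IsCyclic G
  · exact Or.inl ⟨⊥, inferInstance, inferInstance,
      isCyclic_of_surjective _ (QuotientGroup.mk'_surjective _)⟩
  obtain ⟨A, hAn, hA, hAc⟩ := S0126.result hp2 hp' hc
  have hAc' := hA.1
  have h1 : ∀ h ∈ centralizer (A : Set G), h ∈ A ↔ h ^ p = 1 := fun h hh => ⟨hA.2 h, fun h1 => by
    have h2 := hrk _ (H4.isMulCommutative_sup_zpowers hh) fun a ha => by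
      obtain ⟨b, hb, k, rfl⟩ := H4.mem_sup_zpowers_iff.1 ha
      rw [(Commute.zpow_right (hh b hb) k).mul_pow, hA.2 b hb, ← zpow_natCast (h ^ k), zpow_comm,
        zpow_natCast, h1, one_zpow, one_mul]
    rw [eq_of_le_of_card_ge (le_sup_left : A ≤ A ⊔ zpowers h) (hAc ▸ h2)]
    exact mem_sup_right (mem_zpowers h)⟩
  by_cases h2 : centralizer (A : Set G) = ⊤
  · refine Or.inl (huppert hp2 hp' (hAc ▸ pcentral_powIndexLE hp2 G hp' (fun a ha => ?_) A
      fun a => h1 a (h2 ▸ mem_top a)))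
    exact mem_center_iff.2 fun g => (h2.ge (mem_top g) a ((h1 a (h2 ▸ mem_top a)).2 ha)).symm
  let R : R2 p G := ⟨A, hAn, hAc, le_centralizer A, h1, h2⟩
  obtain ⟨s, -, hs⟩ := SetLike.exists_of_lt (lt_top_iff_ne_top.2 h2)
  have hn : 2 ≤ n := by
    have := card_subgroup_dvd_card A
    rwa [hAc, hG, Nat.pow_dvd_pow_iff_le_right hp.out.one_lt] at this
  have mc : ∀ {P : Prop} (t : G), p = 3 ∧ Nat.card 𝒞[t] ≤ p ^ 2 → IsMetacyclic G ∨
      (n = 3 ∧ ∀ g : G, g ^ p = 1) ∨ (p = 3 ∧ 4 ≤ n ∧ MC G p n) ∨ P := by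
    rintro P t ⟨rfl, h⟩
    rcases mc_cases hG hn ho h with h | h | h
    exacts [Or.inl h, Or.inr (Or.inl h), Or.inr (Or.inr (Or.inl ⟨rfl, h⟩))]
  by_cases h3 : ∀ d ∈ R.H, d ^ p ∈ R.A → d ^ p ∈ R.Z
  swap
  · push Not at h3
    obtain ⟨d, hd, hdA, hdZ⟩ := h3
    rcases R.case_one hp' hp2 hs hd hdA hdZ with h | h
    exacts [Or.inl (R.metacyclic_of_not_commute hp' hp2 hd hdA h), mc s h]
  obtain ⟨z, hz, hgen⟩ := R.case_two hp' hp2 h3
  rcases R.exists_orderOf hp' hp2 hz hgen hs with h | h | ⟨t, ht, htp⟩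
  · exact Or.inl h
  · exact mc s h
  have xZ : zpowers x = R.Z := R.zpowers_eq hp' ⟨(h1 x (center_le_centralizer _ hx)).2
    (ho ▸ pow_orderOf_eq_one x), hx⟩ fun e => hp.out.ne_one (by rw [← ho, e, orderOf_one])
  have dec : ∀ g : G, ∃ i : ℕ, ∃ h ∈ R.H, g = t ^ i * h := fun g => by
    obtain ⟨i, hi⟩ := MC.exists_pow_of_card hp' (le_top : R.H ≤ ⊤) (by
      rw [card_top, ← R.H.index_mul_card, R.index_H hp']) (mem_top t) ht (mem_top g)
    exact ⟨i, _, hi, by group⟩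
  have TZ : ∀ (u : G) {h : G}, h ∈ R.H → T u (T u h) ∈ R.Z := fun u _ hh =>
    R.T_mem_Z hp' u (R.T_mem_A hp' hp2 hz hgen u hh)
  have pw : ∀ (i : ℕ) {h : G}, h ∈ R.H →
      (t ^ i * h) ^ p = h ^ p * T (t ^ i) (T (t ^ i) h) ^ p.choose 3 := fun i h hh => by
    rw [R.mul_pow_H hp' hp2 hz hgen _ hh, ← pow_mul, mul_comm i p, pow_mul, htp, one_pow, one_mul]
  have hom : ∀ q, p ∣ q → (∀ (i : ℕ) {h : G}, h ∈ R.H → (t ^ i * h) ^ q = h ^ q) →
      ∀ a b : G, (a * b) ^ q = a ^ q * b ^ q := by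
    rintro _ ⟨q, rfl⟩ e a b
    obtain ⟨i, h, hh, rfl⟩ := dec a
    obtain ⟨j, k, hk, rfl⟩ := dec b
    have hT := R.T_mem_A hp' hp2 hz hgen (t ^ j) hh
    have : t ^ i * h * (t ^ j * k) = t ^ (i + j) * (h * T (t ^ j) h * k) := by
      rw [← conj_eq_T]; group
    rw [this, e _ (mul_mem (mul_mem hh (R.le_H hT)) hk), e _ hh, e _ hk,
      (R.commH hz hgen (mul_mem hh (R.le_H hT)) hk).mul_pow, (R.comm hT hh).symm.mul_pow,
      pow_mul (T _ _), R.pow_eq hT, one_pow, mul_one]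
  have zp : ∀ q, p ∣ q → ∀ h ∈ R.H, ∃ i : ℕ, h ^ q = (z ^ q) ^ i := by
    rintro _ ⟨q, rfl⟩ h hh
    obtain ⟨a, ha, i, rfl⟩ := hgen h hh
    exact ⟨i, by rw [(R.comm ha (pow_mem hz i)).mul_pow, pow_mul a, R.pow_eq ha, one_pow, one_mul,
      ← pow_mul, ← pow_mul, mul_comm i]⟩
  obtain ⟨e, he⟩ := (IsPGroup.iff_orderOf.1 hp') z
  have fin : ∀ {P Q R' : Prop} (m : ℕ), e = m + 2 →
      (∀ (i : ℕ) {h : G}, h ∈ R.H → (t ^ i * h) ^ p ^ (m + 1) = h ^ p ^ (m + 1)) →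
      P ∨ Q ∨ R' ∨ ∃ q : ℕ, (∀ a b : G, (a * b) ^ q = a ^ q * b ^ q) ∧
        (∀ a : G, a ^ q ∈ zpowers x) ∧ ∃ a : G, a ^ q ≠ 1 := by
    rintro P Q R' m rfl h
    have hd := dvd_pow_self p m.succ_ne_zero
    refine Or.inr (Or.inr (Or.inr ⟨_, hom _ hd h, fun a => ?_, z, pow_ne_one_of_lt_orderOf
      (pow_pos hp.out.pos _).ne' (he ▸ Nat.pow_lt_pow_right hp.out.one_lt (by omega))⟩))
    obtain ⟨i, k, hk, rfl⟩ := dec a
    obtain ⟨j, hj⟩ := zp _ hd k hk
    rw [h i hk, hj, xZ, pow_succ, pow_mul]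
    refine pow_mem (h3 _ (pow_mem hz _) ((h1 _ (pow_mem (pow_mem hz _) _)).2 ?_)) j
    rw [← pow_mul, ← pow_mul, ← pow_two, ← pow_add, ← he, pow_orderOf_eq_one]
  rcases e with _ | _ | _ | m
  rotate_left 2
  · by_cases hT : ∀ (i : ℕ) {h : G}, h ∈ R.H → T (t ^ i) (T (t ^ i) h) ^ p.choose 3 = 1
    · exact fin 0 rfl fun i h hh => by rw [zero_add, pow_one, pw i hh, hT i hh, mul_one]
    push Not at hT
    obtain ⟨i, h, hh, hT⟩ := hT
    refine mc t ⟨by_contra fun h5 => hT (H4.pow_eq_one_of_dvd (R.pow_eq (TZ _ hh).1)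
      (hp.out.dvd_choose_self (by omega) (by have := hp.out.two_le; omega))),
      (R.maxClass_or hp' ht).resolve_right fun ⟨c, hc, c1, c2, c3⟩ => hT ?_⟩
    obtain ⟨a, ha, j, rfl⟩ := R.exists_eq_mul hp' hp2 hc c2 c3 hh (by
      obtain ⟨j, hj⟩ := zp p dvd_rfl h hh
      refine hj ▸ pow_mem (h3 z hz ((h1 _ (pow_mem hz _)).2 ?_)) j
      rw [← pow_mul, ← pow_two, ← he, pow_orderOf_eq_one])
    rw [R.T_mul' hz hgen _ (R.le_H ha) (pow_mem hc j),
      T_eq_one.2 (Commute.pow_pow c1 j i).eq, mul_one,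
      T_eq_one.2 (R.commZ (R.T_mem_Z hp' _ ha) _).symm.eq, one_pow]
  · refine fin (m + 1) rfl fun i h hh => ?_
    rw [pow_succ', pow_mul, pow_mul, pw i hh, (R.commZ (pow_mem (TZ _ hh) _) _).mul_pow,
      ← pow_mul (T _ _), H4.pow_eq_one_of_dvd (R.pow_eq (TZ _ hh).1)
      (Dvd.dvd.mul_left (dvd_pow_self p m.succ_ne_zero) _), mul_one]
  all_goals
    have hzp : z ^ p = 1 := orderOf_dvd_iff_pow_eq_one.1 (by rw [he]; simp)
    have hH : R.H = R.A := le_antisymm (fun h hh => (h1 h hh).2 (by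
      obtain ⟨j, hj⟩ := zp p dvd_rfl h hh
      rw [hj, hzp, one_pow])) R.le_H
    refine Or.inr (Or.inl ⟨Nat.pow_right_injective hp.out.two_le ?_, fun g => ?_⟩)
    · have := R.H.index_mul_card
      rw [R.index_H hp', hH, R.card, hG] at this
      exact this.symm.trans (pow_succ' p 2).symm
    · obtain ⟨i, h, hh, rfl⟩ := dec g
      rw [pw i hh, R.pow_eq (hH ▸ hh),
        T_eq_one.2 (R.commZ (R.T_mem_Z hp' _ (hH ▸ hh)) _).symm.eq, one_pow, one_mul]

end PGroup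

end Cfsg.Agent.H59.IR
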