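import Cfsg.Agent.S0200
import Cfsg.Agent.S0007
import Cfsg.Agent.S0205
import Cfsg.Agent.S3861
import Cfsg.Agent.H83.ClassSize
import Cfsg.Agent.H49.Hall
import Cfsg.Agent.H49.Core
import Cfsg.Agent.H24.FpfBasic

/-! Real elements of odd order: tools. -/

set_option autoImplicit false

namespace Cfsg.Agent.H59.RC

open Subgroup

variable {G : Type*} [Group G]

/-- A non-trivial real element of odd order. -/
def RO (y : G) : Prop := y ≠ 1 ∧ Odd (orderOf y) ∧ IsConj y y⁻¹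

/-- A `2`-element. -/
def Two (t : G) : Prop := ∃ k : ℕ, t ^ 2 ^ k = 1

theorem ro_of_inv {s y : G} (h1 : y ≠ 1) (ho : Odd (orderOf y)) (h : s * y * s⁻¹ = y⁻¹) : RO y :=
  ⟨h1, ho, isConj_iff.2 ⟨s, h⟩⟩

theorem exists_sqrt {u : G} (ho : Odd (orderOf u)) : ∃ n : ℕ, u ^ n * u ^ n = u := by
  obtain ⟨k, hk⟩ := ho
  refine ⟨k + 1, ?_⟩
  rw [← pow_add, show k + 1 + (k + 1) = orderOf u + 1 by omega, pow_succ, pow_orderOf_eq_one,
    one_mul]

theorem Two.eq_one {t : G} (h : Two t) (ho : Odd (orderOf t)) : t = 1 := by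
  obtain ⟨k, hk⟩ := h
  have h1 := orderOf_dvd_of_pow_eq_one hk
  have h2 : (orderOf t).Coprime (2 ^ k) := (Nat.coprime_two_right.2 ho).pow_right k
  exact orderOf_eq_one_iff.1 (Nat.Coprime.eq_one_of_dvd h2 h1)

theorem two_of_sq {t : G} (h : t * t = 1) : Two t := ⟨1, by rw [pow_one, pow_two, h]⟩

theorem eq_one_of_sq {t : G} (h : t * t = 1) (ho : Odd (orderOf t)) : t = 1 :=
  (two_of_sq h).eq_one ho

theorem Two.conj {t : G} (h : Two t) (g : G) : Two (g * t * g⁻¹) := by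
  obtain ⟨k, hk⟩ := h
  exact ⟨k, by rw [conj_pow, hk]; simp⟩

theorem Two.zpowers {t u : G} (h : Two t) (hu : u ∈ zpowers t) : Two u := by
  obtain ⟨k, hk⟩ := h
  obtain ⟨m, rfl⟩ := mem_zpowers_iff.1 hu
  exact ⟨k, by rw [← zpow_natCast, ← zpow_mul, mul_comm, zpow_mul, zpow_natCast, hk, one_zpow]⟩

theorem Two.isPGroup {t : G} (h : Two t) : IsPGroup 2 (Subgroup.zpowers t) := by
  rintro ⟨u, hu⟩
  obtain ⟨k, hk⟩ := h.zpowers hu
  exact ⟨k, Subtype.ext hk⟩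

theorem two_of_mem {P : Subgroup G} (hP : IsPGroup 2 P) {t : G} (ht : t ∈ P) : Two t := by
  obtain ⟨k, hk⟩ := hP ⟨t, ht⟩
  exact ⟨k, congrArg Subtype.val hk⟩

theorem odd_of_mem_zpowers {y u : G} (ho : Odd (orderOf y)) (hu : u ∈ zpowers y) :
    Odd (orderOf u) := ho.of_dvd_nat (orderOf_dvd_of_mem_zpowers hu)

theorem inv_zpowers {s y u : G} (h : s * y * s⁻¹ = y⁻¹) (hu : u ∈ zpowers y) :
    s * u * s⁻¹ = u⁻¹ := by
  obtain ⟨m, rfl⟩ := mem_zpowers_iff.1 hu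
  rw [← conj_zpow, h, inv_zpow]

theorem comm_zpowers {c y u : G} (h : Commute c y) (hu : u ∈ zpowers y) : Commute c u := by
  obtain ⟨m, rfl⟩ := mem_zpowers_iff.1 hu
  exact h.zpow_right m

theorem odd_mul {a b : G} (h : Commute a b) (ha : Odd (orderOf a)) (hb : Odd (orderOf b)) :
    Odd (orderOf (a * b)) := (ha.mul hb).of_dvd_nat h.orderOf_mul_dvd_mul_orderOf

theorem comm_of_inv {s t y : G} (hs : s * y * s⁻¹ = y⁻¹) (ht : t * y * t⁻¹ = y⁻¹) :
    Commute (s * t) y := by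
  have : s * t * y * (s * t)⁻¹ = y := by
    calc s * t * y * (s * t)⁻¹ = s * (t * y * t⁻¹) * s⁻¹ := by group
      _ = (s * y * s⁻¹)⁻¹ := by rw [ht]; group
      _ = y := by rw [hs, inv_inv]
  exact mul_inv_eq_iff_eq_mul.1 this

theorem inv_conj {s y c : G} (hs : s * y * s⁻¹ = y⁻¹) (hc : Commute c y) :
    c * s * c⁻¹ * y * (c * s * c⁻¹)⁻¹ = y⁻¹ := by
  calc c * s * c⁻¹ * y * (c * s * c⁻¹)⁻¹ = c * (s * (c⁻¹ * y * c) * s⁻¹) * c⁻¹ := by group
    _ = c * y⁻¹ * c⁻¹ := by rw [hc.inv_left.eq, inv_mul_cancel_right, hs]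
    _ = y⁻¹ := by rw [hc.inv_right.eq, mul_inv_cancel_right]

theorem inv_conj' {s y : G} (hs : s * y * s⁻¹ = y⁻¹) (g : G) :
    g * s * g⁻¹ * (g * y * g⁻¹) * (g * s * g⁻¹)⁻¹ = (g * y * g⁻¹)⁻¹ := by
  calc g * s * g⁻¹ * (g * y * g⁻¹) * (g * s * g⁻¹)⁻¹ = g * (s * y * s⁻¹) * g⁻¹ := by group
    _ = (g * y * g⁻¹)⁻¹ := by rw [hs]; group

theorem inv_comm_elt {t y : G} (h : Commute (t * t) y) :
    t * (y⁻¹ * (t * y * t⁻¹)) * t⁻¹ = (y⁻¹ * (t * y * t⁻¹))⁻¹ := by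
  calc t * (y⁻¹ * (t * y * t⁻¹)) * t⁻¹ = t * y⁻¹ * t⁻¹ * (t * t * y) * (t * t)⁻¹ := by group
    _ = (y⁻¹ * (t * y * t⁻¹))⁻¹ := by rw [h.eq]; group

theorem RO.conj {y : G} (h : RO y) (g : G) : RO (g * y * g⁻¹) := by
  obtain ⟨h1, ho, hc⟩ := h
  obtain ⟨s, hs⟩ := isConj_iff.1 hc
  refine ro_of_inv (fun e => h1 ?_) (by rwa [H8.orderOf_conj']) (inv_conj' hs g)
  simpa using e

theorem exists_prime_pow [Finite G] {y : G} (h : y ≠ 1) :
    ∃ u ∈ zpowers y, (orderOf u).Prime := by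
  have h1 : orderOf y ≠ 1 := fun e => h (orderOf_eq_one_iff.1 e)
  obtain ⟨p, hp, hd⟩ := Nat.exists_prime_and_dvd h1
  refine ⟨y ^ (orderOf y / p), pow_mem (mem_zpowers y) _, ?_⟩
  rwa [orderOf_pow_orderOf_div (orderOf_pos y).ne' hd]

theorem ne_one_of_prime {u : G} (h : (orderOf u).Prime) : u ≠ 1 := by
  rintro rfl
  rw [orderOf_one] at h
  exact Nat.not_prime_one h

theorem Two.exists_inv [Finite G] {t : G} (h : Two t) (h1 : t ≠ 1) :
    ∃ j ∈ Subgroup.zpowers t, j ≠ 1 ∧ j * j = 1 := by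
  obtain ⟨j, hj, hp⟩ := exists_prime_pow h1
  obtain ⟨k, hk⟩ := h.zpowers hj
  have := (Nat.prime_dvd_prime_iff_eq hp Nat.prime_two).1
    (hp.dvd_of_dvd_pow (orderOf_dvd_of_pow_eq_one hk))
  exact ⟨j, hj, ne_one_of_prime hp, H8.mul_self_of_orderOf_two this⟩

theorem odd_card_of_no_inv [Finite G] (H : Subgroup G) (h : ∀ j ∈ H, j * j = 1 → j = 1) :
    Odd (Nat.card H) := by
  rw [← Nat.not_even_iff_odd]
  intro he
  obtain ⟨t, ht, h2⟩ := H8.exists_involution_of_even H he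
  exact H8.ne_one_of_orderOf_two h2 (h t ht (H8.mul_self_of_orderOf_two h2))

theorem exists_sylow_pair [Finite G] {a b : G} (ha : a * a = 1) (hb : b * b = 1)
    (h : Two (a * b)) : ∃ T : Sylow 2 G, a ∈ T ∧ b ∈ T := by
  obtain ⟨k, hk⟩ := h
  obtain ⟨T, hT⟩ := (H8.isPGroup_closure_pair ha hb hk).exists_le_sylow
  exact ⟨T, hT (subset_closure (by simp)), hT (subset_closure (by simp))⟩

theorem mem_smul_sylow {p : ℕ} {T : Sylow p G} {g x : G} : x ∈ g • T ↔ g⁻¹ * x * g ∈ T := by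
  have : x ∈ g • T ↔ x ∈ ((g • T : Sylow p G) : Subgroup G) := Iff.rfl
  rw [this, Sylow.coe_subgroup_smul, mem_pointwise_smul_iff_inv_smul_mem]
  simp only [MulAut.smul_def, MulAut.conj_inv_apply]
  exact Iff.rfl

theorem conj_mem_smul {p : ℕ} {T : Sylow p G} {x : G} (hx : x ∈ T) (g : G) :
    g * x * g⁻¹ ∈ g • T := by
  rw [mem_smul_sylow]
  simpa [mul_assoc] using hx

theorem Two.mem_of_smul {T : Sylow 2 G} {t : G} (ht : Two t) (h : t • T = T) : t ∈ T := by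
  have h1 := ht.isPGroup.inf_normalizer_sylow T
  have : t ∈ Subgroup.zpowers t ⊓ normalizer (T : Set G) :=
    ⟨mem_zpowers t, Sylow.smul_eq_iff_mem_normalizer.1 h⟩
  rw [h1] at this
  exact this.2

theorem eq_one_of_mem_all [Finite G] (hO : ∀ N : Subgroup G, N.Normal → IsPGroup 2 N → N = ⊥)
    {x : G} (h : ∀ T : Sylow 2 G, x ∈ T) : x = 1 := by
  obtain ⟨T⟩ : Nonempty (Sylow 2 G) := inferInstance
  have hN : (⨅ P : Sylow 2 G, (P : Subgroup G)).Normal := ⟨fun n hn g => by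
    rw [mem_iInf] at hn ⊢
    intro P
    have := conj_mem_smul (hn (g⁻¹ • P)) g
    rwa [smul_inv_smul] at this⟩
  have := hO _ hN (T.isPGroup'.to_le (iInf_le _ T))
  have hx : x ∈ (⨅ P : Sylow 2 G, (P : Subgroup G)) := mem_iInf.2 h
  rwa [this, mem_bot] at hx

theorem exists_inv_ro [Finite G] (hO : ∀ N : Subgroup G, N.Normal → IsPGroup 2 N → N = ⊥)
    {s : G} (h1 : s ≠ 1) (hs : s * s = 1) :
    ∃ y : G, (orderOf y).Prime ∧ Odd (orderOf y) ∧ s * y * s⁻¹ = y⁻¹ := by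
  obtain ⟨y, hy1, ho, hy⟩ := S0200.result s (H8.orderOf_two_of hs h1) fun N hN hP hm => by
    rw [hO N hN hP, mem_bot] at hm
    exact h1 hm
  obtain ⟨u, hu, hp⟩ := exists_prime_pow hy1
  exact ⟨u, hp, odd_of_mem_zpowers ho hu, inv_zpowers hy hu⟩

/-- A map of prime order without fixed points on a finite set. -/
theorem dvd_ncard {α : Type*} [Finite α] {p : ℕ} (hp : p.Prime) (f : α → α) (S : Set α)
    (hS : ∀ x ∈ S, f x ∈ S) (hf : ∀ x ∈ S, f^[p] x = x) (hn : ∀ x ∈ S, f x ≠ x) :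
    p ∣ Nat.card S := by
  classical
  haveI := Fact.mk hp
  haveI := Fintype.ofFinite α
  let F : Function.End S := fun x => ⟨f x, hS x x.2⟩
  have hF : ∀ (n : ℕ) (x : S), ((F ^ n) x : α) = f^[n] x := by
    intro n
    induction n with
    | zero => intro x; rfl
    | succ n ih =>
      intro x
      rw [pow_succ, Function.iterate_succ_apply]
      exact ih (F x)
  have h1 : F ^ p ^ 1 = 1 := by
    funext x
    apply Subtype.ext
    rw [pow_one, hF, hf x x.2]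
    rfl
  have h2 := Equiv.Perm.card_fixedPoints_modEq h1
  have h3 : Fintype.card F.fixedPoints = 0 := by
    rw [Fintype.card_eq_zero_iff]
    exact ⟨fun x => hn x.1 x.1.2 (congrArg Subtype.val x.2)⟩
  rw [h3] at h2
  rw [Nat.card_eq_fintype_card]
  exact (Nat.modEq_zero_iff_dvd).1 h2

/-- The odd elements of `B` inverted by `s`, when they commute. -/
def invSub (B : Subgroup G) (s : G)
    (h : ∀ a ∈ B, ∀ b ∈ B, Odd (orderOf a) → s * a * s⁻¹ = a⁻¹ → Odd (orderOf b) →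
      s * b * s⁻¹ = b⁻¹ → Commute a b) : Subgroup G where
  carrier := {a | a ∈ B ∧ Odd (orderOf a) ∧ s * a * s⁻¹ = a⁻¹}
  one_mem' := ⟨one_mem _, by simp, by simp⟩
  mul_mem' := by
    rintro a b ⟨ha, hao, has⟩ ⟨hb, hbo, hbs⟩
    have hc := h a ha b hb hao has hbo hbs
    refine ⟨mul_mem ha hb, odd_mul hc hao hbo, ?_⟩
    calc s * (a * b) * s⁻¹ = (s * a * s⁻¹) * (s * b * s⁻¹) := by group
      _ = (a * b)⁻¹ := by rw [has, hbs, hc.eq, mul_inv_rev]
  inv_mem' := by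
    rintro a ⟨ha, hao, has⟩
    refine ⟨inv_mem ha, by rwa [orderOf_inv], ?_⟩
    calc s * a⁻¹ * s⁻¹ = (s * a * s⁻¹)⁻¹ := by group
      _ = a⁻¹⁻¹ := by rw [has]

/-- All conjugates of `s` invert the odd elements inverted by `s`. -/
def AllInv (s : G) : Prop :=
  ∀ y : G, Odd (orderOf y) → s * y * s⁻¹ = y⁻¹ → ∀ g : G, g * s * g⁻¹ * y * (g * s * g⁻¹)⁻¹ = y⁻¹

theorem AllInv.comm {s : G} (hs : s * s = 1) (h : AllInv s) (a : G) (_ : a ∈ (⊤ : Subgroup G))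
    (b : G) (_ : b ∈ (⊤ : Subgroup G)) (ha : Odd (orderOf a)) (has : s * a * s⁻¹ = a⁻¹)
    (hb : Odd (orderOf b)) (hbs : s * b * s⁻¹ = b⁻¹) : Commute a b := by
  obtain ⟨n, hn⟩ := exists_sqrt ha
  have h1 := inv_zpowers has (pow_mem (mem_zpowers a) n)
  have h2 := comm_of_inv (h b hb hbs (a ^ n)) hbs
  have h3 : a ^ n * s * (a ^ n)⁻¹ * s = a := by
    rw [← h1]
    calc a ^ n * s * (s * a ^ n * s⁻¹) * s = a ^ n * (s * s) * a ^ n := by group
      _ = a := by rw [hs, mul_one, hn]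
  rwa [h3] at h2

/-- The normal subgroup of odd elements inverted by `s`. -/
def AllInv.N {s : G} (hs : s * s = 1) (h : AllInv s) : Subgroup G := invSub ⊤ s (h.comm hs)

theorem AllInv.mem_N {s : G} (hs : s * s = 1) (h : AllInv s) {a : G} :
    a ∈ h.N hs ↔ Odd (orderOf a) ∧ s * a * s⁻¹ = a⁻¹ :=
  ⟨fun h => h.2, fun h => ⟨mem_top _, h⟩⟩

theorem AllInv.normal {s : G} (hs : s * s = 1) (h : AllInv s) : (h.N hs).Normal := ⟨fun a ha g => by
  rw [h.mem_N] at ha ⊢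
  refine ⟨by rw [H8.orderOf_conj']; exact ha.1, ?_⟩
  have := inv_conj' (h a ha.1 ha.2 g⁻¹) g
  simpa [mul_assoc] using this⟩

theorem AllInv.comm_N {s : G} (hs : s * s = 1) (h : AllInv s) {a b : G} (ha : a ∈ h.N hs)
    (hb : b ∈ h.N hs) : Commute a b :=
  h.comm hs a (mem_top _) b (mem_top _) ha.2.1 ha.2.2 hb.2.1 hb.2.2

theorem AllInv.odd_N [Finite G] {s : G} (hs : s * s = 1) (h : AllInv s) :
    Odd (Nat.card (h.N hs)) :=
  odd_card_of_no_inv _ fun _ hj h2 => eq_one_of_sq h2 hj.2.1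

theorem odd_of_quot {N : Subgroup G} [N.Normal] (hN : Odd (Nat.card N)) {y : G}
    (h : Odd (orderOf (y : G ⧸ N))) : Odd (orderOf y) := by
  have h1 : y ^ orderOf (y : G ⧸ N) ∈ N := by
    rw [← QuotientGroup.eq_one_iff, QuotientGroup.mk_pow, pow_orderOf_eq_one]
  have h2 : (y ^ orderOf (y : G ⧸ N)) ^ Nat.card N = 1 :=
    congrArg Subtype.val (pow_card_eq_one' (x := (⟨_, h1⟩ : N)))
  rw [← pow_mul] at h2
  exact (h.mul hN).of_dvd_nat (orderOf_dvd_of_pow_eq_one h2)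

/-- If `O₂ = 1` and all conjugates of `s` invert the odd elements inverted by `s`, then `s` is
isolated. -/
theorem AllInv.iso [Finite G] {s : G} (hs : s * s = 1) (h : AllInv s)
    (hO : ∀ N : Subgroup G, N.Normal → IsPGroup 2 N → N = ⊥) (g : G) :
    Odd (orderOf (s * (g * s * g⁻¹))) := by
  set N := h.N hs with hN
  haveI : N.Normal := h.normal hs
  have hNo : Odd (Nat.card N) := h.odd_N hs
  obtain ⟨M, hM, hMp, hsM⟩ : ∃ M : Subgroup (G ⧸ N), M.Normal ∧ IsPGroup 2 M ∧ (s : G ⧸ N) ∈ M := by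
    by_contra hc
    push Not at hc
    have hs2 : (s : G ⧸ N) * s = 1 := by rw [← QuotientGroup.mk_mul, hs]; rfl
    have hs1 : (s : G ⧸ N) ≠ 1 := fun e => hc ⊥ inferInstance IsPGroup.of_bot (mem_bot.2 e)
    obtain ⟨y, hy1, ho, hy⟩ := S0200.result _ (H8.orderOf_two_of hs2 hs1) hc
    obtain ⟨y, rfl⟩ := QuotientGroup.mk_surjective y
    have hu : ((y⁻¹ * (s * y * s⁻¹) : G) : G ⧸ N) = (y : G ⧸ N)⁻¹ * (y : G ⧸ N)⁻¹ := by
      simp only [QuotientGroup.mk_mul, QuotientGroup.mk_inv, hy]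
    have huN : y⁻¹ * (s * y * s⁻¹) ∈ N := by
      refine (h.mem_N hs).2 ⟨odd_of_quot hNo ?_, ?_⟩
      · rw [hu]
        exact odd_mul (Commute.refl _) (by rwa [orderOf_inv]) (by rwa [orderOf_inv])
      · exact inv_comm_elt (by rw [hs]; exact Commute.one_left y)
    rw [← QuotientGroup.eq_one_iff, hu] at huN
    exact hy1 (inv_eq_one.1 (eq_one_of_sq huN (by rwa [orderOf_inv])))
  let D : Subgroup G := M.comap (QuotientGroup.mk' N) ⊓ centralizer (N : Set G)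
  haveI : D.Normal := inferInstance
  have hd : s * (g * s * g⁻¹) ∈ D := by
    refine ⟨?_, ?_⟩
    · exact mul_mem (show s ∈ M.comap (QuotientGroup.mk' N) from hsM)
        ((hM.comap (QuotientGroup.mk' N)).conj_mem s
          (show s ∈ M.comap (QuotientGroup.mk' N) from hsM) g)
    · intro a ha
      exact (comm_of_inv ha.2.2 (h a ha.2.1 ha.2.2 g)).symm
  obtain ⟨Q⟩ : Nonempty (Sylow 2 D) := inferInstance
  let f : D →* G ⧸ N := (QuotientGroup.mk' N).comp D.subtype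
  have hf : IsPGroup 2 f.range := hMp.to_le (by rintro _ ⟨d, rfl⟩; exact d.2.1)
  obtain ⟨n, hn⟩ := IsPGroup.iff_card.1 hf
  have hcop : f.ker.index.Coprime (Q : Subgroup D).index := by
    rw [index_ker, hn]
    exact Nat.Coprime.pow_left n ((Nat.Prime.coprime_iff_not_dvd Nat.prime_two).2 Q.not_dvd_index)
  have hfac := (S0007.result _ _ hcop).2
  have hker : ∀ x : D, x ∈ f.ker → (x : G) ∈ N := fun x hx => (QuotientGroup.eq_one_iff _).1 hx
  haveI : (Q : Subgroup D).Normal := ⟨fun q hq d => by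
    obtain ⟨x, hx, y, hy, rfl⟩ := hfac d
    have h1 : y * q * y⁻¹ ∈ (Q : Subgroup D) := mul_mem (mul_mem hy hq) (inv_mem hy)
    have h2 : x * (y * q * y⁻¹) = (y * q * y⁻¹) * x :=
      Subtype.ext ((y * q * y⁻¹).2.2 x (hker x hx))
    have : x * y * q * (x * y)⁻¹ = y * q * y⁻¹ := by
      calc x * y * q * (x * y)⁻¹ = x * (y * q * y⁻¹) * x⁻¹ := by group
        _ = y * q * y⁻¹ := by rw [h2, mul_inv_cancel_right]
    rwa [this]⟩
  haveI := Q.characteristic_of_normal inferInstance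
  have hQ := hO ((Q : Subgroup D).map D.subtype) inferInstance (Q.isPGroup'.map _)
  obtain ⟨x, hx, y, hy, e⟩ := hfac ⟨_, hd⟩
  have hy1 : (y : G) = 1 := by
    have : (y : G) ∈ (Q : Subgroup D).map D.subtype := ⟨y, hy, rfl⟩
    rwa [hQ, mem_bot] at this
  have : s * (g * s * g⁻¹) = x := by
    have := congrArg Subtype.val e
    simpa [hy1] using this
  rw [this]
  exact (hker x hx).2.1

end Cfsg.Agent.H59.RC
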