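import Cfsg.Agent.H59.RealA

/-! Real elements of odd order: lifting from quotients. -/

set_option autoImplicit false

namespace Cfsg.Agent.H59.RC

open Subgroup Cfsg.Agent.H49

universe u

variable {G : Type u} [Group G] [Finite G]

theorem lift_elt (N : Subgroup G) [N.Normal] (y : G ⧸ N) (h : (orderOf y).Coprime (Nat.card N)) :
    ∃ x : G, (x : G ⧸ N) = y ∧ orderOf x = orderOf y := by
  obtain ⟨x, rfl⟩ := QuotientGroup.mk_surjective y
  obtain ⟨m, hm1, hm2⟩ := Nat.chineseRemainder h 1 0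
  have e : ((x ^ m : G) : G ⧸ N) = x := by
    rw [QuotientGroup.mk_pow, pow_eq_pow_iff_modEq.2 hm1, pow_one]
  refine ⟨x ^ m, e, Nat.dvd_antisymm ?_ ?_⟩
  · apply orderOf_dvd_of_pow_eq_one
    obtain ⟨k, hk⟩ := (Nat.modEq_zero_iff_dvd).1 hm2
    have h1 : x ^ orderOf (x : G ⧸ N) ∈ N := by
      rw [← QuotientGroup.eq_one_iff, QuotientGroup.mk_pow, pow_orderOf_eq_one]
    have h2 : (x ^ orderOf (x : G ⧸ N)) ^ Nat.card N = 1 :=
      congrArg Subtype.val (pow_card_eq_one' (x := (⟨_, h1⟩ : N)))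
    rw [← pow_mul, mul_comm, pow_mul, hk, pow_mul, h2, one_pow]
  · conv_lhs => rw [← e]
    exact orderOf_map_dvd (QuotientGroup.mk' N) _

theorem conj_of_coset (N : Subgroup G) [hN : N.Normal] {x y : G}
    (hx : (orderOf x).Coprime (Nat.card N)) (hy : (orderOf y).Coprime (Nat.card N))
    (h : (x : G ⧸ N) = y) : IsConj x y := by
  obtain ⟨n, hn, h1⟩ := H1.glauberman_fixed (zpowers x) N
    (by rw [normalizer_eq_top]; exact le_top) (by rwa [Nat.card_zpowers])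
    (Or.inl inferInstance) (zpowers y) (by
      intro a ha
      obtain ⟨k, rfl⟩ := mem_zpowers_iff.1 ha
      refine ⟨x ^ k * (y ^ k)⁻¹, ?_, by simp⟩
      rw [← QuotientGroup.eq_one_iff]
      simp [h])
  have h2 := h1 x (mem_zpowers x)
  have h3 : (n⁻¹ * x * n)⁻¹ * y ∈ zpowers y := mul_mem (inv_mem h2) (mem_zpowers y)
  have hn1 : (n : G ⧸ N) = 1 := (QuotientGroup.eq_one_iff n).2 hn
  have h4 : (n⁻¹ * x * n)⁻¹ * y ∈ N := by
    rw [← QuotientGroup.eq_one_iff]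
    simp [h, hn1]
  have h5 : (n⁻¹ * x * n)⁻¹ * y = 1 := by
    rw [← orderOf_eq_one_iff]
    exact Nat.eq_one_of_dvd_coprimes hy (orderOf_dvd_of_mem_zpowers h3)
      (orderOf_dvd_natCard N h4)
  exact isConj_iff.2 ⟨n⁻¹, by rw [inv_inv]; exact inv_mul_eq_one.1 h5⟩

theorem lift_real (N : Subgroup G) [N.Normal] (y : G ⧸ N) (h : (orderOf y).Coprime (Nat.card N))
    (hr : IsConj y y⁻¹) : ∃ x : G, (x : G ⧸ N) = y ∧ orderOf x = orderOf y ∧ IsConj x x⁻¹ := by
  obtain ⟨x, rfl, hx⟩ := lift_elt N y h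
  obtain ⟨t, ht⟩ := isConj_iff.1 hr
  obtain ⟨t, rfl⟩ := QuotientGroup.mk_surjective t
  refine ⟨x, rfl, hx, (isConj_iff.2 ⟨t, rfl⟩).trans (conj_of_coset N ?_ ?_ ?_)⟩
  · rwa [H8.orderOf_conj', hx]
  · rwa [orderOf_inv, hx]
  · simpa using ht

theorem lift_ro_two (N : Subgroup G) [N.Normal] (hN : IsPGroup 2 N) {y : G ⧸ N} (h : RO y) :
    ∃ x : G, (x : G ⧸ N) = y ∧ RO x := by
  obtain ⟨n, hn⟩ := IsPGroup.iff_card.1 hN
  obtain ⟨x, rfl, hx, hr⟩ := lift_real N y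
    (by rw [hn]; exact (Nat.coprime_two_right.2 h.2.1).pow_right n) h.2.2
  refine ⟨x, rfl, fun e => h.1 (by rw [e]; rfl), hx ▸ h.2.1, hr⟩

theorem lift_ro_odd (N : Subgroup G) [N.Normal] (hN : Odd (Nat.card N)) {y : G ⧸ N} (h : RO y) :
    ∃ x : G, x ∉ N ∧ RO x := by
  obtain ⟨t, ⟨j, hj⟩, ht⟩ := S3863.exists_two_elt y h.2.2
  have hc : (2 ^ j).Coprime (Nat.card N) := (Nat.coprime_two_left.2 hN).pow_left j
  obtain ⟨t, rfl, ho⟩ := lift_elt N t (by rwa [hj])
  obtain ⟨y, rfl⟩ := QuotientGroup.mk_surjective y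
  have hcc : (Nat.card (zpowers (t * t))).Coprime (Nat.card N) := by
    rw [Nat.card_zpowers]
    refine Nat.Coprime.coprime_dvd_left ?_ hc
    rw [← hj, ← ho]
    exact orderOf_dvd_of_mem_zpowers (mul_mem (mem_zpowers t) (mem_zpowers t))
  obtain ⟨n, hn, hx⟩ := coprime_lift_cent (A := zpowers (t * t)) (K := ⊤) (N := N) (x := y)
    (norm_of_le le_top) (by rw [normalizer_eq_top]; exact le_top) hcc (Or.inl inferInstance) (mem_top _) (by
      intro a ha
      rw [← QuotientGroup.eq_one_iff]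
      have h1 : Commute (y : G ⧸ N) (a : G ⧸ N) := by
        obtain ⟨k, rfl⟩ := mem_zpowers_iff.1 ha
        rw [QuotientGroup.mk_zpow, QuotientGroup.mk_mul]
        exact (comm_of_inv ht ht).symm.zpow_right k
      simp only [QuotientGroup.mk_mul, QuotientGroup.mk_inv]
      rw [mul_assoc (_⁻¹), ← h1.eq]
      simp)
  have hc2 : Commute (t * t) (y * n) := hx _ (mem_zpowers _)
  have hn1 : (n : G ⧸ N) = 1 := (QuotientGroup.eq_one_iff n).2 hn.1
  have hu : (((y * n)⁻¹ * (t * (y * n) * t⁻¹) : G) : G ⧸ N) = (y : G ⧸ N)⁻¹ * (y : G ⧸ N)⁻¹ := by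
    simp only [QuotientGroup.mk_mul, QuotientGroup.mk_inv, hn1, mul_one, ht]
  have hne : (y * n)⁻¹ * (t * (y * n) * t⁻¹) ∉ N := by
    intro hm
    rw [← QuotientGroup.eq_one_iff, hu] at hm
    exact h.1 (inv_eq_one.1 (eq_one_of_sq hm (by rw [orderOf_inv]; exact h.2.1)))
  refine ⟨_, hne, ro_of_inv (fun e => hne (e ▸ one_mem N)) (odd_of_quot hN ?_) (inv_comm_elt hc2)⟩
  rw [hu]
  exact odd_mul (Commute.refl _) (by rw [orderOf_inv]; exact h.2.1)
    (by rw [orderOf_inv]; exact h.2.1)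

/-- In a solvable group without real elements of order `r`, the `2`-elements lie in `O_{r'}`. -/
theorem two_mem_core (hs : Group.IsSolvable G) {r : ℕ} (hr : r.Prime) (h2 : r ≠ 2)
    (h : ∀ x : G, orderOf x = r → ¬ IsConj x x⁻¹) {t : G} (ht : Two t) :
    t ∈ piCoreOf {r}ᶜ (⊤ : Subgroup G) := by
  set O := piCoreOf {r}ᶜ (⊤ : Subgroup G) with hO
  haveI : O.Normal := normal_iff_top_le_norm.2 (le_norm_piCoreOf _ _)
  have hOr : r.Coprime (Nat.card O) :=
    ((isPi_compl_singleton_iff_coprime hr).1 (piCoreOf_pi _ _)).symm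
  have hb : piCoreOf {r}ᶜ (⊤ : Subgroup (G ⧸ O)) = ⊥ := by
    have h1 := map_piCoreOf (π := {r}ᶜ) (QuotientGroup.mk' O) ⊤ (by
      rw [QuotientGroup.ker_mk', inf_top_eq]; exact piCoreOf_pi _ _)
    rw [map_top_of_surjective _ (QuotientGroup.mk'_surjective O)] at h1
    rw [← h1, Subgroup.map_eq_bot_iff, QuotientGroup.ker_mk']
  haveI : Group.IsSolvable (G ⧸ O) := inferInstance
  have hc := cent_pcore_le (H := (⊤ : Subgroup (G ⧸ O))) inferInstance hb
  set F := piCoreOf {r} (⊤ : Subgroup (G ⧸ O)) with hF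
  haveI : F.Normal := normal_iff_top_le_norm.2 (le_norm_piCoreOf _ _)
  have hFp : ∀ u ∈ F, (orderOf u).Prime → orderOf u = r := fun u hu hp =>
    piCoreOf_pi {r} ⊤ _ hp (orderOf_dvd_natCard F hu)
  have key : ∀ k : ℕ, ∀ t : G ⧸ O, t ^ 2 ^ k = 1 → ∀ n ∈ F, Commute t n := by
    intro k
    induction k with
    | zero => intro t ht n _; rw [pow_zero, pow_one] at ht; rw [ht]; exact Commute.one_left n
    | succ k ih =>
      intro t ht n hn
      have h1 := inv_comm_elt (ih (t * t) (by rw [← pow_two, ← pow_mul, ← pow_succ', ht]) n hn)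
      by_contra hne
      have hu1 : n⁻¹ * (t * n * t⁻¹) ≠ 1 := fun e => hne (by
        have := inv_mul_eq_one.1 e
        exact (eq_mul_inv_iff_mul_eq.1 this).symm)
      obtain ⟨v, hv, hp⟩ := exists_prime_pow hu1
      have hvF : v ∈ F := (zpowers_le.2 (mul_mem (inv_mem hn) (this.conj_mem n hn t))) hv
      have hvr := hFp v hvF hp
      obtain ⟨x, -, hx, hxr⟩ := lift_real O v (by rwa [hvr]) (isConj_iff.2 ⟨t, inv_zpowers h1 hv⟩)
      exact h x (hx.trans hvr) hxr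
  obtain ⟨k, hk⟩ := ht
  have ht2 : Two (t : G ⧸ O) := ⟨k, by rw [← QuotientGroup.mk_pow, hk]; rfl⟩
  rw [← QuotientGroup.eq_one_iff]
  by_contra hne
  obtain ⟨j, hj, hj1, hj2⟩ := ht2.exists_inv hne
  have htF : (t : G ⧸ O) ∈ F := hc ⟨mem_top _, fun n hn =>
    (key k _ (by rw [← QuotientGroup.mk_pow, hk]; rfl) n hn).symm⟩
  have h3 := H8.orderOf_two_of hj2 hj1
  have := hFp j ((zpowers_le.2 htF) hj) (by rw [h3]; exact Nat.prime_two)
  exact h2 (this.symm.trans h3)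

/-- An involution central in `T`, inverting `y` and centralised by `A ≤ N(T)`. -/
theorem exists_fixed (T : Sylow 2 G) (A : Subgroup G) (hA : ∀ a ∈ A, a • T = T) {s y : G}
    (hsT : s ∈ T) (hsc : ∀ t ∈ T, Commute s t) (hs : s * s = 1)
    (hy : ∀ a ∈ A, a * s * a⁻¹ * y * (a * s * a⁻¹)⁻¹ = y⁻¹) :
    ∃ s' ∈ T, (∀ t ∈ T, Commute s' t) ∧ s' * s' = 1 ∧ s' * y * s'⁻¹ = y⁻¹ ∧
      ∀ a ∈ A, Commute a s' := by
  classical
  let E : Subgroup G := (T : Subgroup G) ⊓ centralizer (T : Set G)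
  letI : CommGroup E :=
    { (inferInstance : Group E) with mul_comm := fun a b => Subtype.ext (b.2.2 a a.2.1) }
  have hE : ∀ a ∈ A, ∀ e ∈ E, a * e * a⁻¹ ∈ E := by
    intro a ha e he
    refine ⟨?_, fun t ht => ?_⟩
    · have := conj_mem_smul he.1 a
      rwa [hA a ha] at this
    · have h1 : a⁻¹ * t * a ∈ T := by rw [← mem_smul_sylow, hA a ha]; exact ht
      have h2 := he.2 _ h1
      calc t * (a * e * a⁻¹) = a * (a⁻¹ * t * a * e) * a⁻¹ := by group
        _ = a * e * a⁻¹ * t := by rw [h2]; group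
  have hsE : s ∈ E := ⟨hsT, fun t ht => (hsc t ht).symm⟩
  let H : Subgroup A := (centralizer {s}).subgroupOf A
  have hH : ¬ 2 ∣ H.index := by
    haveI : Fact (Nat.Prime 2) := ⟨Nat.prime_two⟩
    rw [H83.not_dvd_index_iff]
    obtain ⟨P⟩ : Nonempty (Sylow 2 A) := inferInstance
    refine ⟨P, fun x hx => ?_⟩
    obtain ⟨k, hk⟩ := two_of_mem P.isPGroup' hx
    have : (x : G) ∈ T := Two.mem_of_smul ⟨k, congrArg Subtype.val hk⟩ (hA x x.2)
    exact H83.mem_cent.2 (hsc x this).symm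
  haveI := Fintype.ofFinite (A ⧸ H)
  let f : A ⧸ H → E := fun q => ⟨(q.out : G) * s * (q.out : G)⁻¹, hE _ q.out.2 s hsE⟩
  let φ : A → E →* E := fun a =>
    { toFun := fun e => ⟨a * e * (a : G)⁻¹, hE a a.2 e e.2⟩
      map_one' := Subtype.ext (by simp)
      map_mul' := fun x y => Subtype.ext (by simp [mul_assoc]) }
  have hφ : ∀ (a : A) (q : A ⧸ H), φ a (f q) = f (a • q) := by
    intro a q
    obtain ⟨h, hh⟩ := QuotientGroup.mk_out_eq_mul H (a * q.out)
    have h1 : a • q = ((a * q.out : A) : A ⧸ H) := (MulAction.Quotient.mk_smul_out H a q).symm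
    have h2 : ((h : A) : G) * s = s * ((h : A) : G) := H83.mem_cent.1 h.2
    apply Subtype.ext
    show (a : G) * ((q.out : G) * s * (q.out : G)⁻¹) * (a : G)⁻¹ =
      ((a • q).out : G) * s * ((a • q).out : G)⁻¹
    rw [h1, hh]
    simp only [coe_mul]
    calc (a : G) * ((q.out : G) * s * (q.out : G)⁻¹) * (a : G)⁻¹ =
        a * q.out * (s * ((h : A) : G)) * (a * q.out * ((h : A) : G))⁻¹ := by group
      _ = _ := by rw [← h2]; group
  let s0 : E := ⟨s, hsE⟩
  have hs0 : s0 * s0 = 1 := Subtype.ext hs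
  have hy1 : s * y * s⁻¹ = y⁻¹ := by simpa using hy 1 (one_mem A)
  refine ⟨((∏ q, f q : E) : G), (∏ q, f q).2.1, fun t ht => ((∏ q, f q).2.2 t ht).symm, ?_, ?_, ?_⟩
  · have : (∏ q, f q) * (∏ q, f q) = 1 := by
      rw [← Finset.prod_mul_distrib]
      refine Finset.prod_eq_one fun q _ => Subtype.ext ?_
      show (q.out : G) * s * (q.out : G)⁻¹ * ((q.out : G) * s * (q.out : G)⁻¹) = 1
      calc _ = (q.out : G) * (s * s) * (q.out : G)⁻¹ := by group
        _ = 1 := by rw [hs]; group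
    exact congrArg Subtype.val this
  · have h1 : ∏ q, (s0 * f q) ∈ (centralizer {y}).subgroupOf E :=
      Subgroup.prod_mem _ fun q _ => H83.mem_cent.2 (comm_of_inv hy1 (hy _ q.out.2))
    obtain ⟨k, hk⟩ : Odd (Fintype.card (A ⧸ H)) := by
      rw [← Nat.card_eq_fintype_card, ← Nat.not_even_iff_odd, even_iff_two_dvd]
      exact hH
    rw [Finset.prod_mul_distrib, Finset.prod_const, Finset.card_univ, hk, pow_succ, pow_mul,
      pow_two, hs0, one_pow, one_mul] at h1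
    have h2 : s * ((∏ q, f q : E) : G) * y = y * (s * ((∏ q, f q : E) : G)) := H83.mem_cent.1 h1
    have h3 : s⁻¹ = s := (eq_inv_of_mul_eq_one_left hs).symm
    generalize ((∏ q, f q : E) : G) = z at h2
    calc z * y * z⁻¹ = s⁻¹ * (s * z * y) * z⁻¹ := by group
      _ = s⁻¹ * y * s := by rw [h2]; group
      _ = y⁻¹ := by rw [← hy1, h3]
  · intro a ha
    have h1 : φ ⟨a, ha⟩ (∏ q, f q) = ∏ q, f q := by
      rw [map_prod]
      simp only [hφ]
      exact Fintype.prod_equiv (MulAction.toPerm (⟨a, ha⟩ : A)) _ _ fun q => rfl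
    exact mul_inv_eq_iff_eq_mul.1 (congrArg Subtype.val h1)

end Cfsg.Agent.H59.RC
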