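import Cfsg.Agent.H59.RealB

/-! Groups acting on an elementary abelian `2`-group with real odd elements fixed point free:
the centraliser of an element inverted by a `2`-central involution has odd order. -/

set_option autoImplicit false

namespace Cfsg.Agent.H59.RC

open Subgroup

universe u v

/-- The hypothesis. -/
structure Hy (X : Type u) (W : Type v) [Group X] [Group W] [MulDistribMulAction X W] : Prop where
  nt : Nontrivial W
  sq : ∀ w : W, w * w = 1
  o2 : ∀ N : Subgroup X, N.Normal → IsPGroup 2 N → N = ⊥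
  odd : ∀ w : W, ¬ 2 ∣ (MulAction.stabilizer X w).index
  fac : ∀ y : X, RO y → ∀ (w : W) (g : X), ∃ c h : X, Commute c y ∧ h • w = w ∧ g = c * h
  fpf : ∀ y : X, RO y → ∀ w : W, y • w = w → w = 1

/-- An involution that is central in a Sylow `2`-subgroup. -/
def CT {X : Type u} [Group X] (s : X) : Prop :=
  s ≠ 1 ∧ s * s = 1 ∧ ∃ T : Sylow 2 X, s ∈ T ∧ ∀ t ∈ T, Commute s t

variable {X : Type u} {W : Type v} [Group X] [Group W] [MulDistribMulAction X W]

/-- The fixed points of an element. -/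
def Fx (W : Type v) [Group W] [MulDistribMulAction X W] (s : X) : Subgroup W where
  carrier := {w | s • w = w}
  one_mem' := smul_one s
  mul_mem' := fun {a b} ha hb => by
    show s • (a * b) = a * b
    rw [smul_mul', ha, hb]
  inv_mem' := fun {a} ha => by
    show s • a⁻¹ = a⁻¹
    rw [smul_inv', ha]

theorem Hy.comm (h : Hy X W) (a b : W) : a * b = b * a := by
  have h1 : ∀ w : W, w⁻¹ = w := fun w => (eq_inv_of_mul_eq_one_left (h.sq w)).symm
  rw [← h1 (a * b), mul_inv_rev, h1, h1]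

variable [Finite X] [Finite W]

omit [Finite W] in
theorem Hy.syl (h : Hy X W) {w : W} (hw : w ≠ 1) :
    ∃ T : Sylow 2 X, (∀ t ∈ T, t • w = w) ∧ ∀ g : X, g • w = w → g • T = T := by
  obtain ⟨T, hT⟩ := H83.not_dvd_index_iff.1 (h.odd w)
  refine ⟨T, fun t ht => hT ht, fun g hg => ?_⟩
  have hn := (S3861.result (T.subtype hT)).1 (by
    intro x hx1 hxo hxc
    obtain ⟨c, hc⟩ := isConj_iff.1 hxc
    have hxo' : Odd (orderOf (x : X)) := by rwa [Subgroup.orderOf_coe]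
    exact hw (h.fpf x (ro_of_inv (s := (c : X)) (fun e => hx1 (Subtype.ext e))
      hxo' (congrArg Subtype.val hc)) w x.2))
  ext x
  have key : ∀ g : X, g • w = w → ∀ x ∈ T, g * x * g⁻¹ ∈ T := fun g hg x hx =>
    hn.conj_mem ⟨x, hT hx⟩ hx ⟨g, hg⟩
  show x ∈ g • T ↔ x ∈ T
  rw [mem_smul_sylow]
  refine ⟨fun hx => ?_, fun hx => ?_⟩
  · simpa [mul_assoc] using key g hg _ hx
  · simpa using key g⁻¹ (inv_smul_eq_iff.2 hg.symm) _ hx

omit [Finite W] in
theorem Hy.facN (h : Hy X W) {y : X} (hy : RO y) (T : Sylow 2 X) (g : X) :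
    ∃ c b : X, Commute c y ∧ b • T = T ∧ g = c * b := by
  haveI := h.nt
  obtain ⟨w, hw⟩ := exists_ne (1 : W)
  obtain ⟨S, -, hS⟩ := h.syl hw
  obtain ⟨x, rfl⟩ := MulAction.exists_smul_eq X S T
  obtain ⟨c, b, hc, hb, rfl⟩ := h.fac y hy (x • w) g
  refine ⟨c, b, hc, ?_, rfl⟩
  have := hS (x⁻¹ * b * x) (by rw [mul_smul, mul_smul, hb, inv_smul_smul])
  rw [mul_smul, mul_smul, inv_smul_eq_iff] at this
  exact this

omit [Finite W] in
theorem Hy.trans (h : Hy X W) {y : X} (hy : RO y) (S T : Sylow 2 X) :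
    ∃ c : X, Commute c y ∧ c • S = T := by
  obtain ⟨x, rfl⟩ := MulAction.exists_smul_eq X S T
  obtain ⟨c, b, hc, hb, rfl⟩ := h.facN hy S x
  exact ⟨c, hc, by rw [mul_smul, hb]⟩

omit [Finite X] in
theorem Hy.card_Fx (h : Hy X W) {s y : X} (hs : s * s = 1) (h1 : y ≠ 1) (ho : Odd (orderOf y))
    (hy : s * y * s⁻¹ = y⁻¹) : Nat.card (Fx W s) * Nat.card (Fx W s) = Nat.card W := by
  apply le_antisymm
  · rw [← Nat.card_prod]
    refine Nat.card_le_card_of_injective (fun p => (p.1 : W) * y • (p.2 : W)) ?_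
    rintro ⟨a, b⟩ ⟨c, d⟩ e
    simp only at e
    have e1 : (c : W)⁻¹ * a = y • ((d : W) * (b : W)⁻¹) := by
      rw [smul_mul', smul_inv', eq_mul_inv_iff_mul_eq, mul_assoc, e, inv_mul_cancel_left]
    have e2 : s • ((c : W)⁻¹ * a) = (c : W)⁻¹ * a := (mul_mem (inv_mem c.2) a.2 :)
    have e3 : s • ((d : W) * (b : W)⁻¹) = (d : W) * (b : W)⁻¹ := (mul_mem d.2 (inv_mem b.2) :)
    have e4 : (y * y) • ((d : W) * (b : W)⁻¹) = (d : W) * (b : W)⁻¹ := by
      rw [e1, ← mul_smul, show s * y = y⁻¹ * s by rw [← hy]; group, mul_smul, e3,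
        inv_smul_eq_iff, ← mul_smul] at e2
      exact e2.symm
    have hyy : RO (y * y) := ro_of_inv (fun e => h1 (eq_one_of_sq e ho))
      (odd_mul (Commute.refl y) ho ho) (inv_zpowers hy (mul_mem (mem_zpowers y) (mem_zpowers y)))
    have e5 := h.fpf _ hyy _ e4
    rw [e5, smul_one] at e1
    exact Prod.ext (Subtype.ext (inv_mul_eq_one.1 e1).symm) (Subtype.ext (mul_inv_eq_one.1 e5).symm)
  · let f : W →* W := MonoidHom.mk' (fun w => w * s • w) (by
      intro a b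
      rw [smul_mul', mul_assoc, mul_assoc, ← mul_assoc b, h.comm b, mul_assoc])
    have h2 : f.ker ≤ Fx W s := fun w hw => by
      have : w * s • w = w * w := by rw [h.sq]; exact hw
      exact mul_left_cancel this
    have h3 : f.range ≤ Fx W s := by
      rintro _ ⟨w, rfl⟩
      show s • (w * s • w) = w * s • w
      rw [smul_mul', ← mul_smul, hs, one_smul, h.comm]
    rw [← f.ker.card_mul_index, index_ker]
    exact Nat.mul_le_mul (card_le_of_le h2) (card_le_of_le h3)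

theorem Hy.cyc (h : Hy X W) (A : Subgroup X) (hA : ∀ a ∈ A, a ≠ 1 → RO a)
    (hc : ∀ a ∈ A, ∀ b ∈ A, Commute a b) : IsCyclic A := by
  haveI := h.nt
  haveI : IsMulCommutative A := ⟨⟨fun a b => Subtype.ext (hc a a.2 b b.2)⟩⟩
  exact (H24.fpf_of_mulAut ((MulDistribMulAction.toMulAut X W).comp A.subtype)
    fun g hg k hk => h.fpf g (hA g g.2 fun e => hg (Subtype.ext e)) k hk).isCyclic_of_comm

theorem Hy.cyc2 (h : Hy X W) {s y z : X} (hc : Commute y z) (hyo : Odd (orderOf y))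
    (hy : s * y * s⁻¹ = y⁻¹) (hzo : Odd (orderOf z)) (hz : s * z * s⁻¹ = z⁻¹) :
    ∃ u : X, Odd (orderOf u) ∧ s * u * s⁻¹ = u⁻¹ ∧ y ∈ zpowers u ∧ z ∈ zpowers u := by
  let C : Subgroup X := centralizer {y, z}
  let B : Subgroup X := C ⊓ centralizer (C : Set X)
  have hB : ∀ a ∈ B, ∀ b ∈ B, Commute a b := fun a ha b hb => hb.2 a ha.1
  let A := invSub B s fun a ha b hb _ _ _ _ => hB a ha b hb
  have := h.cyc A (fun a ha h1 => ro_of_inv h1 ha.2.1 ha.2.2) fun a ha b hb => hB a ha.1 b hb.1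
  obtain ⟨u, hu⟩ := IsCyclic.exists_generator (α := A)
  have key : ∀ x ∈ A, x ∈ zpowers (u : X) := fun x hx => by
    obtain ⟨k, hk⟩ := mem_zpowers_iff.1 (hu ⟨x, hx⟩)
    exact mem_zpowers_iff.2 ⟨k, congrArg Subtype.val hk⟩
  refine ⟨u, u.2.2.1, u.2.2.2, key y ⟨⟨?_, ?_⟩, hyo, hy⟩, key z ⟨⟨?_, ?_⟩, hzo, hz⟩⟩
  · rintro x (rfl | rfl)
    · rfl
    · exact hc.symm
  · exact fun x hx => (hx y (by simp)).symm
  · rintro x (rfl | rfl)
    · exact hc
    · rfl
  · exact fun x hx => (hx z (by simp)).symm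

/-- The extended centraliser. -/
def Ext (y : X) : Subgroup X where
  carrier := {g | Commute g y ∨ g * y * g⁻¹ = y⁻¹}
  one_mem' := Or.inl (Commute.one_left y)
  mul_mem' := by
    rintro a b (ha | ha) (hb | hb)
    · exact Or.inl (ha.mul_left hb)
    · refine Or.inr ?_
      calc a * b * y * (a * b)⁻¹ = a * (b * y * b⁻¹) * a⁻¹ := by group
        _ = y⁻¹ := by rw [hb, ha.inv_right.eq, mul_inv_cancel_right]
    · refine Or.inr ?_
      rw [mul_assoc a, hb.eq, ← ha]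
      group
    · exact Or.inl (comm_of_inv ha hb)
  inv_mem' := by
    rintro a (ha | ha)
    · exact Or.inl ha.inv_left
    · refine Or.inr ?_
      calc a⁻¹ * y * a⁻¹⁻¹ = (a⁻¹ * y⁻¹ * a)⁻¹ := by group
        _ = (a⁻¹ * (a * y * a⁻¹) * a)⁻¹ := by rw [ha]
        _ = y⁻¹ := by group

omit [Finite X] in
theorem Ext.conj_inv {s y g : X} (hy : s * y * s⁻¹ = y⁻¹) (hg : g ∈ Ext y) :
    g * s * g⁻¹ * y * (g * s * g⁻¹)⁻¹ = y⁻¹ := by
  rcases hg with hg | hg
  · exact inv_conj hy hg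
  · have := inv_conj' hy g
    rw [hg, inv_inv] at this
    calc _ = (g * s * g⁻¹ * y⁻¹ * (g * s * g⁻¹)⁻¹)⁻¹ := by group
      _ = y⁻¹ := by rw [this]

omit [Finite X] in
theorem Ext.comm_of_odd {y g : X} (hg : g ∈ Ext y) (ho : Odd (orderOf g)) : Commute g y := by
  obtain ⟨n, hn⟩ := exists_sqrt ho
  rw [← hn]
  rcases pow_mem hg n with h | h
  · exact h.mul_left h
  · exact comm_of_inv h h

theorem Hy.step1_iso (h : Hy X W) {T : Sylow 2 X} {s y : X} (hsT : s ∈ T) (hs : s * s = 1)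
    (hy : RO y) (hsy : s * y * s⁻¹ = y⁻¹) (hA : ∀ a ∈ Ext y, a • T = T → Commute a s)
    {g : X} (hg : g ∈ Ext y) : Odd (orderOf (s * (g * s * g⁻¹))) := by
  have hsE : s ∈ Ext y := Or.inr hsy
  have h1 : AllInv (⟨s, hsE⟩ : Ext y) := by
    intro z hzo hz g
    have hzo' : Odd (orderOf (z : X)) := by rwa [Subgroup.orderOf_coe]
    have hz' : s * z * s⁻¹ = (z : X)⁻¹ := congrArg Subtype.val hz
    obtain ⟨u, huo, hu, hyu, hzu⟩ := h.cyc2 (Ext.comm_of_odd z.2 hzo').symm hy.2.1 hsy hzo' hz'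
    have hu1 : u ≠ 1 := by
      rintro rfl
      exact hy.1 (by simpa using hyu)
    obtain ⟨c, b, hc, hb, e⟩ := h.facN (ro_of_inv hu1 huo hu) T g
    have hcE : c ∈ Ext y := Or.inl (comm_zpowers hc hyu)
    have hbE : b ∈ Ext y := by
      have := mul_mem (inv_mem hcE) g.2
      rwa [e, inv_mul_cancel_left] at this
    have h2 : (g : X) * s * (g : X)⁻¹ = c * s * c⁻¹ := by
      rw [e, mul_assoc c, (hA b hbE hb).eq]
      group
    apply Subtype.ext
    show (g : X) * s * (g : X)⁻¹ * z * ((g : X) * s * (g : X)⁻¹)⁻¹ = (z : X)⁻¹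
    rw [h2]
    exact inv_conj hz' (comm_zpowers hc hzu)
  have h2 := h1.iso (Subtype.ext hs) (by
    intro N hN hNp
    obtain ⟨S, hS⟩ := (hNp.map (Ext y).subtype).exists_le_sylow
    rw [eq_bot_iff]
    intro x hx
    rw [mem_bot]
    apply Subtype.ext
    refine eq_one_of_mem_all h.o2 fun S' => ?_
    obtain ⟨c, hc, rfl⟩ := h.trans hy S S'
    rw [mem_smul_sylow]
    have := hN.conj_mem x hx (⟨c, Or.inl hc⟩ : Ext y)⁻¹
    exact hS ⟨_, this, by simp⟩) ⟨g, hg⟩
  rw [← Subgroup.orderOf_coe] at h2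
  exact h2

theorem card_ne_one (H : Subgroup W) :
    Nat.card {w : W // w ∈ H ∧ w ≠ 1} + 1 = Nat.card H := by
  have h1 : ({w : W | w ∈ H ∧ w ≠ 1} : Set W) = (H : Set W) \ {1} := rfl
  have h2 := Set.ncard_sdiff_singleton_add_one (show (1 : W) ∈ (H : Set W) from H.one_mem)
  rw [← h1, ← Nat.card_coe_set_eq, ← Nat.card_coe_set_eq] at h2
  exact h2

theorem Hy.step1 (h : Hy X W) {s y : X} (hs : CT s) (hp : (orderOf y).Prime)
    (ho : Odd (orderOf y)) (hsy : s * y * s⁻¹ = y⁻¹) {j : X} (hj : j * j = 1)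
    (hjy : Commute j y) : j = 1 := by
  classical
  by_contra hj1
  have hy1 := ne_one_of_prime hp
  have hy := ro_of_inv hy1 ho hsy
  obtain ⟨-, hs2, T, hsT, hsc⟩ := hs
  obtain ⟨s, hsT, -, hs2, hsy, hA⟩ := exists_fixed T (Ext y ⊓ MulAction.stabilizer X T)
    (fun a ha => ha.2) hsT hsc hs2 (fun a ha => Ext.conj_inv hsy ha.1)
  have hiso := fun g hg => h.step1_iso hsT hs2 hy hsy (fun a ha hb => hA a ⟨ha, hb⟩) (g := g) hg
  let S : Set X := {x | ∃ g ∈ Ext y, x = g * s * g⁻¹}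
  have hS2 : ∀ x ∈ S, x * x = 1 := by
    rintro _ ⟨g, -, rfl⟩
    calc _ = g * (s * s) * g⁻¹ := by group
      _ = 1 := by rw [hs2]; group
  have hSy : ∀ x ∈ S, x * y * x⁻¹ = y⁻¹ := by
    rintro _ ⟨g, hg, rfl⟩
    exact Ext.conj_inv hsy hg
  have hSo : ∀ x ∈ S, ∀ x' ∈ S, Odd (orderOf (x * x')) := by
    rintro _ ⟨g, hg, rfl⟩ _ ⟨g', hg', rfl⟩
    have := hiso _ (mul_mem (inv_mem hg) hg')
    rw [← H8.orderOf_conj' g] at this
    convert this using 2
    group
  set q := Nat.card (Fx W s) with hq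
  have hqq : q * q = Nat.card W := h.card_Fx hs2 hy1 ho hsy
  have hcard : ∀ x : X, x * x = 1 → x ≠ 1 → Nat.card {w : W // w ∈ Fx W x ∧ w ≠ 1} + 1 = q := by
    intro x hx hx1
    obtain ⟨z, hz, hzo, hxz⟩ := exists_inv_ro h.o2 hx1 hx
    have := h.card_Fx hx (ne_one_of_prime hz) hzo hxz
    rw [card_ne_one]
    exact Nat.mul_self_inj.1 (this.trans hqq.symm)
  have hS1 : ∀ x ∈ S, x ≠ 1 := by
    rintro x hx rfl
    have := hSy 1 hx
    simp only [one_mul, inv_one, mul_one] at this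
    exact hy1 (eq_one_of_sq (mul_eq_one_iff_eq_inv.2 this) ho)
  -- the counting
  have hbij : Nat.card (Σ x : S, {w : W // w ∈ Fx W (x : X) ∧ w ≠ 1}) =
      Nat.card {w : W // w ∈ (⊤ : Subgroup W) ∧ w ≠ 1} := by
    refine Nat.card_congr (Equiv.ofBijective (fun z => ⟨z.2.1, mem_top _, z.2.2.2⟩) ⟨?_, ?_⟩)
    · rintro ⟨⟨x, hx⟩, w, hw, hw1⟩ ⟨⟨x', hx'⟩, w', hw', hw1'⟩ e
      obtain rfl : w = w' := congrArg Subtype.val e
      obtain rfl : x = x' := by
        by_contra hne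
        refine hw1 (h.fpf (x * x') (ro_of_inv (fun e => hne ?_) (hSo x hx x' hx')
          (H8.conj_mul_inv (hS2 x hx) (hS2 x' hx'))) w ?_)
        · exact mul_left_cancel ((hS2 x hx).trans e.symm)
        · rw [mul_smul, show x' • w = w from hw', show x • w = w from hw]
      rfl
    · rintro ⟨w, -, hw⟩
      obtain ⟨T', hT', -⟩ := h.syl hw
      obtain ⟨c, hc, rfl⟩ := h.trans hy T T'
      exact ⟨⟨⟨_, c, Or.inl hc, rfl⟩, w, hT' _ (conj_mem_smul hsT c), hw⟩, rfl⟩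
  haveI := Fintype.ofFinite S
  have h1 := card_ne_one (⊤ : Subgroup W)
  obtain ⟨m, hm⟩ : ∃ m, q = m + 1 := ⟨_, (hcard j hj hj1).symm⟩
  have h2 : ∀ x : S, Nat.card {w : W // w ∈ Fx W (x : X) ∧ w ≠ 1} = m := fun x => by
    have := hcard x (hS2 x x.2) (hS1 x x.2)
    omega
  rw [← hbij, Nat.card_sigma, card_top, ← hqq, hm] at h1
  simp only [h2, Finset.sum_const, Finset.card_univ, smul_eq_mul] at h1
  rw [← Nat.card_eq_fintype_card] at h1
  have hm0 : m ≠ 0 := by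
    rintro rfl
    haveI := h.nt
    have := Finite.one_lt_card (α := W)
    rw [← hqq, hm] at this
    omega
  have h3 : Nat.card S = m + 2 := by
    apply Nat.eq_of_mul_eq_mul_right (Nat.pos_of_ne_zero hm0)
    nlinarith
  have h4 : orderOf y ∣ Nat.card S := by
    refine dvd_ncard hp (fun x => y * x * y⁻¹) S ?_ ?_ ?_
    · rintro _ ⟨g, hg, rfl⟩
      exact ⟨y * g, mul_mem (Or.inl (Commute.refl y)) hg, by group⟩
    · intro x _
      have : ∀ n : ℕ, (fun x => y * x * y⁻¹)^[n] x = y ^ n * x * (y ^ n)⁻¹ := by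
        intro n
        induction n with
        | zero => simp
        | succ n ih => rw [Function.iterate_succ_apply', ih, pow_succ']; group
      rw [this, pow_orderOf_eq_one]
      simp
    · intro x hx e
      have e1 := hSy x hx
      rw [← mul_inv_eq_iff_eq_mul.1 e, mul_inv_cancel_right] at e1
      exact hy1 (eq_one_of_sq (mul_eq_one_iff_eq_inv.2 e1) ho)
  have h5 : orderOf y ∣ Nat.card {w : W // w ∈ Fx W j ∧ w ≠ 1} := by
    refine dvd_ncard hp (fun w : W => y • w) {w : W | w ∈ Fx W j ∧ w ≠ 1} ?_ ?_ ?_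
    · rintro w ⟨hw, hw1⟩
      refine ⟨?_, fun e => hw1 ((smul_eq_iff_eq_inv_smul y).1 e |>.trans (smul_one _))⟩
      show j • y • w = y • w
      rw [← mul_smul, hjy.eq, mul_smul, show j • w = w from hw]
    · intro w _
      rw [smul_iterate, pow_orderOf_eq_one]
      exact one_smul _ _
    · exact fun w hw e => hw.2 (h.fpf y hy w e)
  have h6 := hcard j hj hj1
  rw [show Nat.card {w : W // w ∈ Fx W j ∧ w ≠ 1} = m by omega] at h5
  rw [h3] at h4
  have h7 := (Nat.prime_dvd_prime_iff_eq hp Nat.prime_two).1 ((Nat.dvd_add_right h5).1 h4)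
  rw [h7] at ho
  exact absurd ho (by decide)

theorem Hy.step1' (h : Hy X W) {s y : X} (hs : CT s) (h1 : y ≠ 1)
    (ho : Odd (orderOf y)) (hsy : s * y * s⁻¹ = y⁻¹) {t : X} (ht : Two t)
    (hty : Commute t y) : t = 1 := by
  by_contra hne
  obtain ⟨j, hj, hj1, hj2⟩ := ht.exists_inv hne
  obtain ⟨u, hu, hp⟩ := exists_prime_pow h1
  exact hj1 (h.step1 hs hp (odd_of_mem_zpowers ho hu) (inv_zpowers hsy hu) hj2
    (comm_zpowers (comm_zpowers hty.symm hj).symm hu))

end Cfsg.Agent.H59.RC
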