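import Cfsg.Agent.H59.RealC

/-! Groups acting on an elementary abelian `2`-group with real odd elements fixed point free
are solvable. -/

set_option autoImplicit false

namespace Cfsg.Agent.H59.RC

open Subgroup

universe u v

variable {X : Type u} {W : Type v} [Group X] [Group W] [MulDistribMulAction X W]

theorem CT.conj {s : X} (hs : CT s) (g : X) : CT (g * s * g⁻¹) := by
  obtain ⟨h1, h2, T, hT, hc⟩ := hs
  refine ⟨fun e => h1 (by simpa using e), ?_, g • T, conj_mem_smul hT g, fun t ht => ?_⟩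
  · calc _ = g * (s * s) * g⁻¹ := by group
      _ = 1 := by rw [h2]; group
  · have := (hc _ (mem_smul_sylow.1 ht)).eq
    show g * s * g⁻¹ * t = t * (g * s * g⁻¹)
    calc g * s * g⁻¹ * t = g * (s * (g⁻¹ * t * g)) * g⁻¹ := by group
      _ = t * (g * s * g⁻¹) := by rw [this]; group

variable [Finite X] [Finite W]

theorem Hy.step2 (h : Hy X W) {s : X} (hs : CT s) {S : Sylow 2 X} (hS : s ∈ S) {t : X}
    (ht : t ∈ S) : Commute s t := by
  obtain ⟨y, hp, ho, hy⟩ := exists_inv_ro h.o2 hs.1 hs.2.1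
  have hy1 := ne_one_of_prime hp
  have hs' := hs
  obtain ⟨-, h2, T, hT, hc⟩ := hs'
  obtain ⟨c, hcy, rfl⟩ := h.trans (ro_of_inv hy1 ho hy) T S
  rw [mem_smul_sylow] at hS ht
  have h3 := inv_conj hy hcy.inv_left
  rw [inv_inv] at h3
  have h4 := h.step1' hs hy1 ho hy (two_of_mem T.isPGroup' (mul_mem hT hS)) (comm_of_inv hy h3)
  have h5 : c⁻¹ * s * c = s := mul_left_cancel (h4.trans h2.symm)
  have h6 := (hc _ ht).eq
  show s * t = t * s
  calc s * t = c * (c⁻¹ * s * c * (c⁻¹ * t * c)) * c⁻¹ := by group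
    _ = c * (c⁻¹ * t * c * (c⁻¹ * s * c)) * c⁻¹ := by rw [h5, h6]
    _ = t * s := by group

theorem Hy.comm_or_odd (h : Hy X W) {a b : X} (ha : CT a) (hb : b * b = 1) :
    Commute a b ∨ Odd (orderOf (a * b)) := by
  obtain ⟨u, v, e, huv, hu, hv, hu2, hv2⟩ := H31.exists_p_parts Nat.prime_two (a * b)
  have hvo : Odd (orderOf v) := Nat.coprime_two_right.1 hv2
  by_cases hv1 : v = 1
  · rw [hv1, mul_one] at e
    obtain ⟨T, haT, hbT⟩ := exists_sylow_pair ha.2.1 hb (e ▸ hu2)
    exact Or.inl (h.step2 ha haT hbT)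
  · have := h.step1' ha hv1 hvo (inv_zpowers (H8.conj_mul_inv ha.2.1 hb) hv) hu2 huv
    rw [this, one_mul] at e
    exact Or.inr (e ▸ hvo)

theorem Hy.comm_trans (h : Hy X W) {a b c : X} (ha : CT a) (hb1 : b ≠ 1) (hb : b * b = 1)
    (hc : c * c = 1) (hab : Commute a b) (hbc : Commute b c) : Commute a c := by
  refine (h.comm_or_odd ha hc).elim id fun ho => ?_
  by_cases e : a * c = 1
  · rw [show c = a from mul_left_cancel (e.trans ha.2.1.symm)]
  · exact absurd (h.step1' ha e ho (H8.conj_mul_inv ha.2.1 hc) (two_of_sq hb)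
      (hab.symm.mul_right hbc)) hb1

theorem Hy.exists_swap (h : Hy X W) {s j : X} (hs : CT s) (hj : j * j = 1) (hn : ¬ Commute s j) :
    ∃ n : X, CT n ∧ n * s * n⁻¹ = j := by
  have ho := (h.comm_or_odd hs hj).resolve_left hn
  obtain ⟨k, hk⟩ := exists_sqrt ho
  have hu := pow_mem (mem_zpowers (s * j)) k
  generalize (s * j) ^ k = u at hk hu
  have hsu := inv_zpowers (H8.conj_mul_inv hs.2.1 hj) hu
  obtain ⟨l, hl⟩ := exists_sqrt (odd_of_mem_zpowers ho hu)
  have hv := pow_mem (mem_zpowers u) l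
  generalize u ^ l = v at hl hv
  have hsv := inv_zpowers hsu hv
  have hs1 : s⁻¹ = s := (eq_inv_of_mul_eq_one_left hs.2.1).symm
  refine ⟨s * u, ?_, ?_⟩
  · have := hs.conj v⁻¹
    rw [inv_inv] at this
    convert this using 1
    rw [← hsv, ← hl]
    group
  · calc s * u * s * (s * u)⁻¹ = s * u * (s * u * s⁻¹)⁻¹ := by group
      _ = s * (u * u) := by rw [hsu]; group
      _ = j := by rw [hk, ← mul_assoc, hs.2.1, one_mul]

theorem Hy.step3 (h : Hy X W) {a b : X} (ha : CT a) (hb : CT b) (hab : Commute a b) : a = b := by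
  by_contra hne
  obtain ⟨y, hp, ho, hy⟩ := exists_inv_ro h.o2 ha.1 ha.2.1
  have hy1 := ne_one_of_prime hp
  have ha1 : a⁻¹ = a := (eq_inv_of_mul_eq_one_left ha.2.1).symm
  have hj : a * y * (a * y) = 1 := by
    calc a * y * (a * y) = a * y * a⁻¹ * y := by rw [ha1]; group
      _ = 1 := by rw [hy, inv_mul_cancel]
  have haj : ¬ Commute a (a * y) := fun e => by
    have : Commute a y := mul_left_cancel (e.eq.trans (mul_assoc a y a))
    rw [this.eq, mul_inv_cancel_right] at hy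
    exact hy1 (eq_one_of_sq (mul_eq_one_iff_eq_inv.2 hy) ho)
  have hbj : ¬ Commute b (a * y) := fun e => haj (h.comm_trans ha hb.1 hb.2.1 hj hab e)
  obtain ⟨n, hn, hna⟩ := h.exists_swap ha hj haj
  obtain ⟨m, hm, hmb⟩ := h.exists_swap hb hj hbj
  have hn1 : n⁻¹ = n := (eq_inv_of_mul_eq_one_left hn.2.1).symm
  have hd : n * m * b * (n * m)⁻¹ = a := by
    calc n * m * b * (n * m)⁻¹ = n * (m * b * m⁻¹) * n⁻¹ := by group
      _ = n * n * a * (n * n)⁻¹ := by rw [hmb, ← hna]; group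
      _ = a := by rw [hn.2.1]; group
  have hdb : ¬ Commute b (n * m) := fun e => hne (by rw [← hd, ← e.eq, mul_inv_cancel_right])
  rcases h.comm_or_odd hn hm.2.1 with hc | hc
  · have hdd : n * m * (n * m) = 1 := by
      rw [mul_assoc, ← mul_assoc m, ← hc.eq, mul_assoc, hm.2.1, mul_one, hn.2.1]
    generalize n * m = d at hd hdb hdd
    have h1 := (h.comm_or_odd hb hdd).resolve_left hdb
    have hd1 : d⁻¹ = d := (eq_inv_of_mul_eq_one_left hdd).symm
    have h2 : b * d * (b * d) = b * a := by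
      rw [← hd, hd1]; group
    have h3 : b * d = 1 := Two.eq_one ⟨2, by
      rw [show 2 ^ 2 = 2 * 2 from rfl, pow_mul, pow_two, pow_two, h2, mul_assoc, ← mul_assoc a,
        hab.eq, mul_assoc, ha.2.1, mul_one, hb.2.1]⟩ h1
    exact hdb (by rw [show d = b from mul_left_cancel (h3.trans hb.2.1.symm)])
  · have hnd := H8.conj_mul_inv hn.2.1 hm.2.1
    generalize n * m = d at hd hdb hc hnd
    have hd1 : d ≠ 1 := by
      rintro rfl
      exact hdb (Commute.one_right b)
    obtain ⟨T, haT, hbT⟩ := exists_sylow_pair ha.2.1 hb.2.1 (two_of_sq (by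
      rw [mul_assoc, ← mul_assoc b, ← hab.eq, mul_assoc, hb.2.1, mul_one, ha.2.1]))
    have hn' := hn
    obtain ⟨-, -, S, hS, -⟩ := hn'
    obtain ⟨c, hcd, rfl⟩ := h.trans (ro_of_inv hd1 hc hnd) S T
    have hs := hn.conj c
    have hsT := conj_mem_smul hS c
    have hsd := inv_conj hnd hcd
    generalize c * n * c⁻¹ = s at hs hsT hsd
    have h1 : Commute a (d * s * d⁻¹) := by
      rw [← hd]
      exact (h.step2 hb hbT hsT).conj d
    have h2 := (h.comm_trans hs ha.1 ha.2.1 (hs.conj d).2.1 (h.step2 hs hsT haT) h1).eq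
    have hs1 : s⁻¹ = s := (eq_inv_of_mul_eq_one_left hs.2.1).symm
    rw [hs1] at hsd
    refine hd1 (Two.eq_one ⟨2, ?_⟩ hc)
    have h3 : s * (d * s * d⁻¹) = d⁻¹ * d⁻¹ := by rw [← hsd]; group
    have h4 : d * s * d⁻¹ * s = d * d := by
      have : s * d⁻¹ * s = d := by
        rw [← hsd, ← mul_assoc, ← mul_assoc, hs.2.1, one_mul, mul_assoc, hs.2.1, mul_one]
      calc d * s * d⁻¹ * s = d * (s * d⁻¹ * s) := by group
        _ = d * d := by rw [this]
    rw [h3, h4] at h2
    calc d ^ 2 ^ 2 = d * d * (d * d) := by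
          rw [show 2 ^ 2 = 2 * 2 from rfl, pow_mul, pow_two, pow_two]
      _ = 1 := by
        nth_rw 1 [← h2]
        group

theorem Hy.solv (h : Hy X W) : Group.IsSolvable X := by
  obtain ⟨T⟩ : Nonempty (Sylow 2 X) := inferInstance
  by_cases hT : (T : Subgroup X) = ⊥
  · apply S0205.result
    have := T.not_dvd_index
    rw [hT, index_bot] at this
    rwa [← Nat.not_even_iff_odd, even_iff_two_dvd]
  obtain ⟨s, hs⟩ : ∃ s : X, CT s := by
    haveI := (T : Subgroup X).nontrivial_iff_ne_bot.2 hT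
    haveI := T.isPGroup'.center_nontrivial
    obtain ⟨⟨z, hz⟩, hz1⟩ := exists_ne (1 : center (T : Subgroup X))
    obtain ⟨j, hj, hj1, hj2⟩ := (two_of_mem T.isPGroup' z.2).exists_inv
      fun e => hz1 (Subtype.ext (Subtype.ext e))
    refine ⟨j, hj1, hj2, T, (zpowers_le.2 z.2) hj, fun t ht => (comm_zpowers ?_ hj).symm⟩
    exact congrArg Subtype.val (mem_center_iff.1 hz ⟨t, ht⟩)
  have hA : AllInv s := by
    intro y ho hy g
    by_cases hy1 : y = 1
    · simp [hy1]
    have hs' := hs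
    obtain ⟨-, -, S, hS, -⟩ := hs'
    obtain ⟨c, hc, e⟩ := h.trans (ro_of_inv hy1 ho hy) S (g • S)
    have h1 := conj_mem_smul hS c
    rw [e] at h1
    rw [h.step3 (hs.conj g) (hs.conj c) (h.step2 (hs.conj g) (conj_mem_smul hS g) h1)]
    exact inv_conj hy hc
  set N := hA.N hs.2.1 with hN
  haveI : N.Normal := hA.normal hs.2.1
  haveI : IsCyclic N := h.cyc N (fun a ha h1 => ro_of_inv h1 ha.2.1 ha.2.2)
    fun a ha b hb => hA.comm_N hs.2.1 ha hb
  obtain ⟨y, hp, ho, hy⟩ := exists_inv_ro h.o2 hs.1 hs.2.1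
  have hyN : y ∈ N := (hA.mem_N _).2 ⟨ho, hy⟩
  let f : X →* MulAut N := MulAut.conjNormal
  haveI : Group.IsSolvable f.ker := S0205.result (odd_card_of_no_inv _ fun j hj hj2 => by
    refine h.step1 hs hp ho hy hj2 ?_
    have : f j ⟨y, hyN⟩ = ⟨y, hyN⟩ := by rw [show f j = 1 from hj]; rfl
    exact mul_inv_eq_iff_eq_mul.1 (congrArg Subtype.val this))
  haveI : Group.IsSolvable (MulAut N) :=
    Group.isSolvable_of_isSolvable_injective (f := (IsCyclic.mulAutMulEquiv N).toMonoidHom)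
      (IsCyclic.mulAutMulEquiv N).injective
  exact Group.isSolvable_of_ker_le_range f.ker.subtype f (by rw [range_subtype])

end Cfsg.Agent.H59.RC
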