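import Cfsg.Agent.H59.RealD
import Cfsg.Agent.H62.FreeCount

/-! Groups whose real class sizes have a disconnected prime graph. -/

set_option autoImplicit false

namespace Cfsg.Agent.H59.RC

open Subgroup Cfsg.Agent.H83 Cfsg.Agent.H49

universe u

variable {G : Type u} [Group G] [Finite G]

theorem solv_of_quot (N : Subgroup G) [N.Normal] (h1 : Group.IsSolvable N)
    (h2 : Group.IsSolvable (G ⧸ N)) : Group.IsSolvable G :=
  Group.isSolvable_of_ker_le_range N.subtype (QuotientGroup.mk' N) (by simp)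

theorem solv_of_no_ro (h : ∀ x : G, ¬ RO x) : Group.IsSolvable G := by
  obtain ⟨T⟩ : Nonempty (Sylow 2 G) := inferInstance
  haveI := (S3861.result T).1 fun x h1 h2 h3 => h x ⟨h1, h2, h3⟩
  haveI := T.isPGroup'.isNilpotent
  refine solv_of_quot T inferInstance (S0205.result ?_)
  rw [← Nat.not_even_iff_odd, even_iff_two_dvd]
  exact T.not_dvd_index

theorem solv_of_W (W : Subgroup G) [W.Normal] (h1 : W ≠ ⊥) (h2 : ∀ w ∈ W, w * w = 1)
    (h3 : ∀ w ∈ W, ¬ 2 ∣ cs(w)) (h4 : ∀ y : G, RO y → ∀ w ∈ W, (cs(y)).Coprime cs(w))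
    (h5 : ∀ y : G, RO y → ∀ w ∈ W, Commute y w → w = 1) : Group.IsSolvable G := by
  let O := pCore 2 G
  haveI : O.Characteristic := H44.pCore_characteristic
  have hO : IsPGroup 2 O := H44.pCore_isPGroup
  let φ : G ⧸ O →* MulAut W := QuotientGroup.lift O MulAut.conjNormal (by
    intro x hx
    ext w
    obtain ⟨P, hP⟩ := not_dvd_index_iff.1 (h3 w w.2)
    obtain ⟨S, hS⟩ := hO.exists_le_sylow
    obtain ⟨g, rfl⟩ := MulAction.exists_smul_eq G S P
    have : x ∈ g • S := mem_smul_sylow.2 (hS (Normal.conj_mem' inferInstance x hx g))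
    exact mem_cent'.1 (hP this))
  letI : MulDistribMulAction (G ⧸ O) W := MulDistribMulAction.compHom W φ
  have hsm : ∀ (g : G) (w : W), (g : G ⧸ O) • w = w ↔ g * w = w * g := fun g w => by
    rw [← mul_inv_eq_iff_eq_mul, Subtype.ext_iff]
    exact Iff.rfl
  have hy : Hy (G ⧸ O) W :=
    { nt := W.nontrivial_iff_ne_bot.2 h1
      sq := fun w => Subtype.ext (h2 w w.2)
      o2 := fun N hN hp => by
        have := H44.le_pCore hN hp
        rwa [H44.pCore_quotient_pCore, le_bot_iff] at this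
      odd := fun w => by
        rw [← index_comap_of_surjective _ (QuotientGroup.mk'_surjective O)]
        convert h3 w w.2 using 3
        ext g
        rw [mem_cent, ← hsm]
        exact Iff.rfl
      fac := fun y hy w g => by
        obtain ⟨y, rfl, hy'⟩ := lift_ro_two O hO hy
        obtain ⟨g, rfl⟩ := QuotientGroup.mk_surjective g
        obtain ⟨c, hc, d, hd, rfl⟩ := (S0007.result _ _ (h4 y hy' w w.2)).2 g
        exact ⟨c, d, (show Commute c y from mem_cent.1 hc).map (QuotientGroup.mk' O),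
          (hsm d w).2 (mem_cent.1 hd), rfl⟩
      fpf := fun y hy w hw => by
        obtain ⟨y, rfl, hy'⟩ := lift_ro_two O hO hy
        exact Subtype.ext (h5 y hy' w w.2 ((hsm y w).1 hw)) }
  haveI := hO.isNilpotent
  exact solv_of_quot O inferInstance hy.solv

/-- The stabiliser of the class of `x` under right multiplication. -/
def St (x : G) : Subgroup G where
  carrier := {w | ∀ y, IsConj x y → IsConj x (y * w)}
  one_mem' := fun y hy => by rwa [mul_one]
  mul_mem' := fun {a b} ha hb y hy => by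
    rw [← mul_assoc]
    exact hb _ (ha y hy)
  inv_mem' := fun {a} ha => by
    have key : ∀ n : ℕ, ∀ y, IsConj x y → IsConj x (y * a ^ n) := by
      intro n
      induction n with
      | zero => intro y hy; rwa [pow_zero, mul_one]
      | succ n ih => intro y hy; rw [pow_succ, ← mul_assoc]; exact ha _ (ih y hy)
    have : a⁻¹ = a ^ (orderOf a - 1) := by
      rw [eq_comm, ← mul_eq_one_iff_eq_inv, ← pow_succ, Nat.sub_add_cancel (orderOf_pos a),
        pow_orderOf_eq_one]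
    rw [this]
    exact key _

theorem normal_St (x : G) : (St x).Normal := ⟨fun w hw g y hy => by
  have h1 := hw (g⁻¹ * y * g) (hy.trans (isConj_iff.2 ⟨g⁻¹, by simp⟩))
  exact h1.trans (isConj_iff.2 ⟨g, by group⟩)⟩

theorem card_St_dvd (x : G) : Nat.card (St x) ∣ cs(x) := by
  let σ : St x →* Equiv.Perm G := MonoidHom.mk' (fun k => Equiv.mulRight (k : G)⁻¹) (by
    intro a b
    ext y
    simp [mul_assoc])
  rw [← card_isConj]
  exact H62.card_dvd_ncard_of_free σ (fun k y e => by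
    have : y * (k : G)⁻¹ = y := e
    exact Subtype.ext (by simpa using this)) (W := {y | IsConj x y})
    fun k y hy => (inv_mem k.2 : (k : G)⁻¹ ∈ St x) y hy

theorem conj_mul {x i x' i' : G} (h : (cs(x)).Coprime cs(i)) (hx : IsConj x x')
    (hi : IsConj i i') : IsConj (x * i) (x' * i') := by
  obtain ⟨a, rfl⟩ := isConj_iff.1 hx
  obtain ⟨b, rfl⟩ := isConj_iff.1 hi
  obtain ⟨c, hc, d, hd, e⟩ := (S0007.result _ _ h).2 (a⁻¹ * b)
  have hb : b = a * c * d := by rw [mul_assoc, ← e]; group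
  refine isConj_iff.2 ⟨a * c, ?_⟩
  conv_rhs => rw [hb, ← mem_cent'.1 hc]
  conv_lhs => rw [← mem_cent'.1 hd]
  group

theorem real_mul {x i : G} (h : (cs(x)).Coprime cs(i)) (hx : IsConj x x⁻¹)
    (hi : IsConj i i⁻¹) : IsConj (x * i) (x * i)⁻¹ :=
  (conj_mul h hx hi).trans (isConj_iff.2 ⟨x, by group⟩)

theorem cs_mul_dvd {x i : G} (h : (cs(x)).Coprime cs(i)) : cs(x * i) ∣ cs(x) * cs(i) := by
  rw [← (S0007.result _ _ h).1]
  refine index_dvd_of_le fun g hg => mem_cent.2 ?_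
  rw [← mul_assoc, mem_cent.1 hg.1, mul_assoc, mem_cent.1 hg.2, mul_assoc]

theorem mem_St {x i : G} (h : (cs(x)).Coprime cs(i)) (hd : cs(x * i) ∣ cs(x)) {a b : G}
    (ha : IsConj i a) (hb : IsConj i b) : a * b⁻¹ ∈ St x := by
  intro y hy
  let f : {y : G // IsConj x y} → {z : G // IsConj (x * i) z} :=
    fun y => ⟨y * b, conj_mul h y.2 hb⟩
  have hf : Function.Injective f := fun y z e =>
    Subtype.ext (mul_right_cancel (congrArg Subtype.val e))
  obtain ⟨z, hz⟩ := (hf.bijective_of_nat_card_le (by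
    rw [card_isConj, card_isConj]
    exact Nat.le_of_dvd (cs_pos x) hd)).2 ⟨y * a, conj_mul h hy ha⟩
  have : (z : G) * b = y * a := congrArg Subtype.val hz
  rw [← mul_assoc, ← this, mul_inv_cancel_right]
  exact z.2

/-- The prime graph of real class sizes is disconnected. -/
structure Dis (G : Type u) [Group G] (π ρ : Set ℕ) : Prop where
  ty : ∀ x : G, IsConj x x⁻¹ → IsPiNat π cs(x) ∨ IsPiNat ρ cs(x)
  disj : Disjoint π ρ
  ex1 : ∃ x : G, IsConj x x⁻¹ ∧ cs(x) ≠ 1 ∧ IsPiNat π cs(x)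
  ex2 : ∃ x : G, IsConj x x⁻¹ ∧ cs(x) ≠ 1 ∧ IsPiNat ρ cs(x)

variable {π ρ : Set ℕ}

omit [Finite G] in
theorem Dis.symm (h : Dis G π ρ) : Dis G ρ π :=
  ⟨fun x hx => (h.ty x hx).symm, h.disj.symm, h.ex2, h.ex1⟩

theorem Dis.dich (h : Dis G π ρ) {x i : G} (hx : IsConj x x⁻¹) (hi : IsConj i i⁻¹)
    (hxp : IsPiNat π cs(x)) (hip : IsPiNat ρ cs(i)) :
    (∀ a b, IsConj i a → IsConj i b → a * b⁻¹ ∈ St x) ∨
      (∀ a b, IsConj x a → IsConj x b → a * b⁻¹ ∈ St i) := by
  have hc := hxp.coprime_of_disjoint hip h.disj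
  rcases h.ty _ (real_mul hc hx hi) with h1 | h1
  · exact Or.inl fun a b => mem_St hc
      ((h1.coprime_of_disjoint hip h.disj).dvd_of_dvd_mul_right (cs_mul_dvd hc))
  · refine Or.inr fun a b => mem_St hc.symm ?_
    have h2 : cs(i * x) = cs(x * i) := cs_of_isConj (isConj_iff.2 ⟨x, by group⟩)
    rw [h2]
    exact (h1.coprime_of_disjoint hxp h.disj.symm).dvd_of_dvd_mul_left (cs_mul_dvd hc)

theorem Dis.even (h : Dis G π ρ) : ∃ x : G, IsConj x x⁻¹ ∧ 2 ∣ cs(x) := by
  by_contra hc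
  push Not at hc
  have h2 : ∀ x : G, IsConj x x⁻¹ → x * x = 1 := fun x hx => by
    rw [← pow_two]
    exact sq_eq_one_of_isConj_inv (hc x hx) hx
  obtain ⟨T⟩ : Nonempty (Sylow 2 G) := inferInstance
  haveI := (S3861.result T).1 fun x h1 ho h3 => h1 (eq_one_of_sq (h2 x h3) ho)
  have key : ∀ x i : G, IsConj x x⁻¹ → IsConj i i⁻¹ → cs(i) ≠ 1 →
      ¬ ∀ a b, IsConj i a → IsConj i b → a * b⁻¹ ∈ St x := by
    intro x i hx hi h1 hh
    apply h1
    rw [cs_eq_one_iff, mem_center_iff]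
    intro g
    have hiT : i ∈ T := (two_of_sq (h2 i hi)).mem_of_smul Sylow.smul_eq_of_normal
    have h3 : g * i * g⁻¹ * i⁻¹ ∈ (T : Subgroup G) :=
      mul_mem (this.conj_mem i hiT g) (inv_mem hiT)
    have h4 := (orderOf_dvd_natCard _ (hh _ _ (isConj_iff.2 ⟨g, rfl⟩) (IsConj.refl i))).trans
      (card_St_dvd x)
    have h5 := (two_of_mem T.isPGroup' h3).eq_one (Odd.of_dvd_nat (by
      rw [← Nat.not_even_iff_odd, even_iff_two_dvd]; exact hc x hx) h4)
    exact mul_inv_eq_iff_eq_mul.1 (mul_inv_eq_one.1 h5)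
  obtain ⟨x, hx, hx1, hxp⟩ := h.ex1
  obtain ⟨i, hi, hi1, hip⟩ := h.ex2
  exact (h.dich hx hi hxp hip).elim (key x i hx hi hi1) (key i x hi hx hx1)

theorem RO.even {x : G} (hx : RO x) : 2 ∣ cs(x) := by
  by_contra hc
  have := sq_eq_one_of_isConj_inv hc hx.2.2
  rw [pow_two] at this
  exact hx.1 (eq_one_of_sq this hx.2.1)

theorem Dis.ro_ty (h : Dis G π ρ) (h2 : 2 ∈ π) {x : G} (hx : RO x) : IsPiNat π cs(x) :=
  (h.ty x hx.2.2).resolve_right fun h1 =>
    Set.disjoint_left.1 h.disj h2 (h1 2 Nat.prime_two hx.even)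

omit [Finite G] in
theorem Dis.odd (h : Dis G π ρ) (h2 : 2 ∈ π) {x : G} (hx : IsPiNat ρ cs(x)) : ¬ 2 ∣ cs(x) :=
  fun h1 => Set.disjoint_left.1 h.disj h2 (hx 2 Nat.prime_two h1)

theorem Dis.exists_inv (h : Dis G π ρ) (h2 : 2 ∈ π) :
    ∃ i : G, i * i = 1 ∧ cs(i) ≠ 1 ∧ IsPiNat ρ cs(i) := by
  obtain ⟨i, hi, hi1, hip⟩ := h.ex2
  refine ⟨i, ?_, hi1, hip⟩
  rw [← pow_two]
  exact sq_eq_one_of_isConj_inv (h.odd h2 hip) hi

omit [Finite G] in
theorem real_of_sq {i : G} (hi : i * i = 1) : IsConj i i⁻¹ := by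
  rw [← eq_inv_of_mul_eq_one_left hi]

theorem Dis.not_comm (h : Dis G π ρ) (h2 : 2 ∈ π) {x i : G} (hx : RO x) (hi : i * i = 1)
    (hi1 : cs(i) ≠ 1) (hip : IsPiNat ρ cs(i)) : ¬ Commute x i := by
  intro hc
  have hcop : (orderOf x).Coprime (orderOf i) :=
    (Nat.coprime_two_right.2 hx.2.1).coprime_dvd_right
      (orderOf_dvd_of_pow_eq_one (by rw [pow_two, hi]))
  have hcs := (h.ro_ty h2 hx).coprime_of_disjoint hip h.disj
  rcases h.ty _ (real_mul hcs hx.2.2 (real_of_sq hi)) with h1 | h1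
  · exact hi1 (Nat.Coprime.eq_one_of_dvd (hip.coprime_of_disjoint h1 h.disj.symm)
      (cs_dvd_cs_mul_right hc hcop))
  · exact h.odd h2 h1 (hx.even.trans (cs_dvd_cs_mul_left hc hcop))

theorem exists_comm_of_not_dvd {x w : G} (hp : (orderOf x).Prime) (h : ¬ orderOf x ∣ cs(w)) :
    ∃ g : G, Commute (g * x * g⁻¹) w := by
  haveI := Fact.mk hp
  obtain ⟨P, hP⟩ := not_dvd_index_iff.1 h
  obtain ⟨S, hS⟩ := (IsPGroup.of_card (p := orderOf x) (G := zpowers x) (n := 1)
    (by rw [Nat.card_zpowers, pow_one])).exists_le_sylow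
  obtain ⟨g, rfl⟩ := MulAction.exists_smul_eq G S P
  exact ⟨g, mem_cent.1 (hP (conj_mem_smul (hS (mem_zpowers x)) g))⟩

theorem Dis.ro_prime (h : Dis G π ρ) (h2 : 2 ∈ π) {x : G} (hx : RO x) (hp : (orderOf x).Prime) :
    orderOf x ∈ ρ := by
  obtain ⟨i, hi, hi1, hip⟩ := h.exists_inv h2
  refine hip _ hp (by_contra fun hn => ?_)
  obtain ⟨g, hg⟩ := exists_comm_of_not_dvd hp hn
  exact h.not_comm h2 (hx.conj g) hi hi1 hip hg

theorem RO.exists_prime {x : G} (hx : RO x) : ∃ u ∈ zpowers x, RO u ∧ (orderOf u).Prime := by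
  obtain ⟨u, hu, hp⟩ := exists_prime_pow hx.1
  obtain ⟨s, hs⟩ := isConj_iff.1 hx.2.2
  exact ⟨u, hu, ro_of_inv (ne_one_of_prime hp) (odd_of_mem_zpowers hx.2.1 hu) (inv_zpowers hs hu),
    hp⟩

theorem Dis.solv_two (h : Dis G π ρ) (h2 : 2 ∈ π) : Group.IsSolvable G := by
  obtain ⟨i, hi, hi1, hip⟩ := h.exists_inv h2
  have hii : ∀ a, IsConj i a → a * a = 1 := fun a ha => by
    obtain ⟨g, rfl⟩ := isConj_iff.1 ha
    calc _ = g * (i * i) * g⁻¹ := by group
      _ = 1 := by rw [hi]; group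
  have hinv : ∀ a, IsConj i a → a⁻¹ = a := fun a ha =>
    (eq_inv_of_mul_eq_one_left (hii a ha)).symm
  have hA : ∀ x, RO x → (∀ a b, IsConj x a → IsConj x b → a * b⁻¹ ∈ St i) →
      ∀ a, IsConj i a → a * x * a⁻¹ = x⁻¹ := by
    intro x hx hh a ha
    have h1 := hh x x⁻¹ (IsConj.refl x) hx.2.2
    rw [inv_inv] at h1
    obtain ⟨n, hn⟩ := exists_sqrt hx.2.1
    have h3 : x ∈ St i := by
      have := pow_mem h1 n
      rwa [(Commute.refl x).mul_pow, hn] at this
    have h4 := hii _ (h3 a ha)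
    rw [hinv a ha, ← mul_eq_one_iff_eq_inv, ← h4]
    group
  by_cases hc : ∃ y, RO y ∧ i * y * i⁻¹ = y⁻¹
  · obtain ⟨y, hy, hiy⟩ := hc
    obtain ⟨u, hu, hur, hp⟩ := hy.exists_prime
    have hiu := inv_zpowers hiy hu
    have hall : ∀ x, RO x → ∀ a, IsConj i a → a * x * a⁻¹ = x⁻¹ := by
      intro x hx
      refine hA x hx ((h.dich hx.2.2 (real_of_sq hi) (h.ro_ty h2 hx) hip).resolve_left fun hh => ?_)
      have h1 := hh (u * i * u⁻¹) i (isConj_iff.2 ⟨u, rfl⟩) (IsConj.refl i)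
      have h3 : u * i * u⁻¹ * i⁻¹ = u * u := by
        calc _ = u * (i * u * i⁻¹)⁻¹ := by group
          _ = u * u := by rw [hiu, inv_inv]
      obtain ⟨n, hn⟩ := exists_sqrt hur.2.1
      have h4 := pow_mem h1 n
      rw [h3, (Commute.refl u).mul_pow, hn] at h4
      exact Set.disjoint_left.1 h.disj
        (h.ro_ty h2 hx _ hp ((orderOf_dvd_natCard _ h4).trans (card_St_dvd x)))
        (h.ro_prime h2 hur hp)
    have hI : AllInv i := fun x ho hx g => by
      by_cases e : x = 1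
      · simp [e]
      · exact hall x (ro_of_inv e ho hx) _ (isConj_iff.2 ⟨g, rfl⟩)
    haveI := hI.normal hi
    refine solv_of_quot (hI.N hi) (S0205.result (hI.odd_N hi)) (solv_of_no_ro fun z hz => ?_)
    obtain ⟨x, hxN, hx⟩ := lift_ro_odd _ (hI.odd_N hi) hz
    exact hxN ((hI.mem_N hi).2 ⟨hx.2.1, hall x hx i (IsConj.refl i)⟩)
  by_cases hro : ∀ x : G, ¬ RO x
  · exact solv_of_no_ro hro
  push Not at hro hc
  obtain ⟨x, hx⟩ := hro
  have hB : ∀ x, RO x → ∀ a b, IsConj i a → IsConj i b → a * b⁻¹ ∈ St x := fun x hx =>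
    (h.dich hx.2.2 (real_of_sq hi) (h.ro_ty h2 hx) hip).resolve_right fun hh =>
      hc x hx (hA x hx hh i (IsConj.refl i))
  have hcomm : ∀ a b, IsConj i a → IsConj i b → Commute a b := by
    intro a b ha hb
    haveI := normal_St x
    have h1 : (centralizer {a}).relIndex (St x) = 1 := by
      have h3 : (Nat.card (St x)).Coprime cs(a) := by
        rw [← cs_of_isConj ha]
        exact ((h.ro_ty h2 hx).coprime_of_disjoint hip h.disj).coprime_dvd_left (card_St_dvd x)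
      refine Nat.eq_one_of_dvd_coprimes h3 (relIndex_dvd_card _ _)
        (H19.relIndex_dvd_index_of_normal_right _ _)
    have h3 := mem_cent.1 (relIndex_eq_one.1 h1 (hB x hx a b ha hb))
    rw [hinv b hb, mul_assoc] at h3
    exact (mul_left_cancel h3).symm
  let E : Subgroup G := closure {a | IsConj i a}
  have hE : ∀ w ∈ E, w * w = 1 ∧ ∀ a, IsConj i a → Commute a w := by
    intro w hw
    induction hw using closure_induction with
    | mem a ha => exact ⟨hii a ha, fun b hb => hcomm b a hb ha⟩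
    | one => simp
    | mul a b ha hb iha ihb =>
      refine ⟨?_, fun c hc => (iha.2 c hc).mul_right (ihb.2 c hc)⟩
      have : Commute a b :=
        (closure_le (K := centralizer {b})).2 (fun c hc => mem_cent.2 (ihb.2 c hc)) ha |>
          mem_cent.1
      rw [mul_assoc, ← mul_assoc b, ← this.eq, mul_assoc, ihb.1, mul_one, iha.1]
    | inv a ha iha => exact ⟨by rw [← mul_inv_rev, iha.1, inv_one], fun c hc => (iha.2 c hc).inv_right⟩
  haveI : E.Normal := by
    have : E = normalClosure {i} := by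
      have : {a | IsConj i a} = Group.conjugatesOfSet {i} := by
        ext a
        simp [Group.mem_conjugatesOfSet_iff]
      exact congrArg Subgroup.closure this
    rw [this]
    infer_instance
  let W : Subgroup G := E ⊓ ⨅ y : {y : G // RO y}, St y.1
  haveI : W.Normal := by
    haveI := normal_iInf_normal fun y : {y : G // RO y} => normal_St y.1
    infer_instance
  have h5 : ∀ y : G, RO y → ∀ w ∈ W, Commute y w → w = 1 := by
    intro y hy w hw hyw
    have h1 := H8.orderOf_eq_of_isConj (mem_iInf.1 hw.2 ⟨y, hy⟩ y (IsConj.refl y))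
    have h3 : (y * w) ^ orderOf y = 1 := by rw [h1, pow_orderOf_eq_one]
    rw [hyw.mul_pow, pow_orderOf_eq_one, one_mul] at h3
    exact eq_one_of_sq (hE w hw.1).1 (hy.2.1.of_dvd_nat (orderOf_dvd_of_pow_eq_one h3))
  have h6 : ∀ w ∈ W, IsPiNat ρ cs(w) := by
    intro w hw
    by_cases e : w = 1
    · rw [e, cs_one]
      exact IsPiNat.one ρ
    refine (h.ty w (real_of_sq (hE w hw.1).1)).resolve_left fun h1 => ?_
    obtain ⟨u, -, hur, hp⟩ := hx.exists_prime
    obtain ⟨g, hg⟩ := exists_comm_of_not_dvd hp fun hd =>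
      Set.disjoint_left.1 h.disj (h1 _ hp hd) (h.ro_prime h2 hur hp)
    exact e (h5 _ (hur.conj g) w hw hg)
  refine solv_of_W W (fun e => hi1 ?_) (fun w hw => (hE w hw.1).1)
    (fun w hw => h.odd h2 (h6 w hw))
    (fun y hy w hw => (h.ro_ty h2 hy).coprime_of_disjoint (h6 w hw) h.disj) h5
  rw [cs_eq_one_iff, mem_center_iff]
  intro g
  have h7 : g * i * g⁻¹ * i⁻¹ ∈ W :=
    ⟨E.mul_mem (subset_closure (isConj_iff.2 ⟨g, rfl⟩))
      (E.inv_mem (subset_closure (IsConj.refl i))),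
      mem_iInf.2 fun y => hB y.1 y.2 _ _ (isConj_iff.2 ⟨g, rfl⟩) (IsConj.refl i)⟩
  rw [e, mem_bot] at h7
  exact mul_inv_eq_iff_eq_mul.1 (mul_inv_eq_one.1 h7)

end Cfsg.Agent.H59.RC
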