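import Cfsg.Agent.H59.RealE

/-! Groups whose real class sizes have a disconnected prime graph: the main results. -/

set_option autoImplicit false

namespace Cfsg.Agent.H59.RC

open Subgroup Cfsg.Agent.H83 Cfsg.Agent.H49

universe u

variable {G : Type u} [Group G] [Finite G] {π ρ : Set ℕ}

theorem Dis.solv (h : Dis G π ρ) : Group.IsSolvable G := by
  obtain ⟨x, hx, h2⟩ := h.even
  rcases h.ty x hx with h1 | h1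
  · exact h.solv_two (h1 2 Nat.prime_two h2)
  · exact h.symm.solv_two (h1 2 Nat.prime_two h2)

omit [Finite G] in
theorem dis_of (h₁ : π.Nonempty) (h₂ : ρ.Nonempty)
    (hcover : ∀ q : ℕ, q.Prime → (∃ n ∈ {n : ℕ | ∃ x : G, IsConj x x⁻¹ ∧ cs(x) = n}, q ∣ n) →
      q ∈ π ∨ q ∈ ρ)
    (hsub : ∀ q ∈ π ∪ ρ, q.Prime ∧ ∃ n ∈ {n : ℕ | ∃ x : G, IsConj x x⁻¹ ∧ cs(x) = n}, q ∣ n)
    (hdisj : Disjoint π ρ)
    (hno : ∀ a ∈ π, ∀ b ∈ ρ, ∀ n ∈ {n : ℕ | ∃ x : G, IsConj x x⁻¹ ∧ cs(x) = n},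
      ¬ (a ∣ n ∧ b ∣ n)) : Dis G π ρ := by
  have e1 : ∀ x : G, IsConj x x⁻¹ → ∀ a ∈ π, a ∣ cs(x) → IsPiNat π cs(x) :=
    fun x hx a ha hd q hq hqd => (hcover q hq ⟨_, ⟨x, hx, rfl⟩, hqd⟩).resolve_right fun hb =>
      hno a ha q hb _ ⟨x, hx, rfl⟩ ⟨hd, hqd⟩
  have e2 : ∀ x : G, IsConj x x⁻¹ → ∀ a ∈ ρ, a ∣ cs(x) → IsPiNat ρ cs(x) :=
    fun x hx a ha hd q hq hqd => (hcover q hq ⟨_, ⟨x, hx, rfl⟩, hqd⟩).resolve_left fun hb =>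
      hno q hb a ha _ ⟨x, hx, rfl⟩ ⟨hqd, hd⟩
  refine ⟨fun x hx => ?_, hdisj, ?_, ?_⟩
  · by_cases hh : ∃ a ∈ π, a ∣ cs(x)
    · obtain ⟨a, ha, hd⟩ := hh
      exact Or.inl (e1 x hx a ha hd)
    · exact Or.inr fun q hq hqd => (hcover q hq ⟨_, ⟨x, hx, rfl⟩, hqd⟩).resolve_left
        fun hb => hh ⟨q, hb, hqd⟩
  · obtain ⟨a, ha⟩ := h₁
    obtain ⟨hp, _, ⟨x, hx, rfl⟩, hd⟩ := hsub a (Or.inl ha)
    exact ⟨x, hx, fun e => hp.ne_one (Nat.dvd_one.1 (e ▸ hd)), e1 x hx a ha hd⟩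
  · obtain ⟨a, ha⟩ := h₂
    obtain ⟨hp, _, ⟨x, hx, rfl⟩, hd⟩ := hsub a (Or.inr ha)
    exact ⟨x, hx, fun e => hp.ne_one (Nat.dvd_one.1 (e ▸ hd)), e2 x hx a ha hd⟩

/-- The subgroup generated by the `2`-elements. -/
abbrev K2 (G : Type u) [Group G] : Subgroup G :=
  Subgroup.closure {g : G | ∃ k : ℕ, orderOf g = 2 ^ k}

omit [Finite G] in
theorem normal_K2 : (K2 G).Normal := by
  refine ⟨fun x hx g => ?_⟩
  have : K2 G ≤ (K2 G).comap (MulAut.conj g).toMonoidHom := by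
    rw [closure_le]
    rintro y ⟨k, hk⟩
    exact subset_closure ⟨k, (H8.orderOf_conj' g y).trans hk⟩
  exact this hx

omit [Finite G] in
theorem Two.mem_K2 {t : G} (h : Two t) : t ∈ K2 G := by
  obtain ⟨k, hk⟩ := h
  obtain ⟨j, -, hj⟩ := (Nat.dvd_prime_pow Nat.prime_two).1 (orderOf_dvd_of_pow_eq_one hk)
  exact subset_closure ⟨j, hj⟩

theorem odd_index_K2 : Odd (K2 G).index := by
  rw [← Nat.not_even_iff_odd, even_iff_two_dvd, not_dvd_index_iff]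
  obtain ⟨T⟩ : Nonempty (Sylow 2 G) := inferInstance
  exact ⟨T, fun t ht => (two_of_mem T.isPGroup' ht).mem_K2⟩

theorem Dis.odd_or_pow (h : Dis G π ρ) (h2 : 2 ∈ π) (x : K2 G) (hx : IsConj x x⁻¹) :
    Odd cs(x) ∨ ∃ j : ℕ, cs(x) = 2 ^ j := by
  haveI : (K2 G).Normal := normal_K2
  have hxG : IsConj (x : G) (x : G)⁻¹ := (K2 G).subtype.map_isConj hx
  have hd := cs_normal_dvd (K2 G) x
  rcases h.ty _ hxG with h1 | h1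
  · refine Or.inr ((isPiNat_singleton Nat.prime_two (cs_ne_zero x)).1 fun r hr hrd => ?_)
    by_contra hr2
    have hrπ := h1 r hr (hrd.trans hd)
    have hle : K2 G ≤ piCoreOf {r}ᶜ ⊤ := by
      rw [closure_le]
      rintro t ⟨k, hk⟩
      refine two_mem_core h.solv hr hr2 (fun y hy hyr => ?_) ⟨k, by rw [← hk, pow_orderOf_eq_one]⟩
      have hp : (orderOf y).Prime := hy ▸ hr
      have := h.ro_prime h2 ⟨ne_one_of_prime hp, hp.odd_of_ne_two (hy ▸ hr2), hyr⟩ hp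
      exact Set.disjoint_left.1 h.disj hrπ (hy ▸ this)
    exact (piCoreOf_pi {r}ᶜ ⊤).of_le hle r hr (hrd.trans (cs_dvd_card x)) rfl
  · left
    rw [← Nat.not_even_iff_odd, even_iff_two_dvd]
    exact fun h3 => h.odd h2 h1 (h3.trans hd)

theorem Dis.exists_K2 (h : Dis G π ρ) (h2 : 2 ∈ π) {x : G} (hx : RO x) :
    (∃ y : K2 G, IsConj y y⁻¹ ∧ 2 ∣ cs(y)) ∧
      ∃ y : K2 G, IsConj y y⁻¹ ∧ ¬ 2 ∣ cs(y) ∧ cs(y) ≠ 1 := by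
  haveI : (K2 G).Normal := normal_K2
  obtain ⟨hxK, hxr⟩ := (S3863.result x hx.2.2).2.2 (K2 G) odd_index_K2
  obtain ⟨i, hi, hi1, hip⟩ := h.exists_inv h2
  have hiK := (two_of_sq hi).mem_K2
  refine ⟨⟨_, hxr, RO.even ⟨fun e => hx.1 (congrArg Subtype.val e), ?_, hxr⟩⟩,
    ⟨i, hiK⟩, real_of_sq (Subtype.ext hi),
    fun h3 => h.odd h2 hip (h3.trans (cs_normal_dvd (K2 G) _)), fun e => ?_⟩
  · rw [← Subgroup.orderOf_coe]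
    exact hx.2.1
  · exact h.not_comm h2 hx hi hi1 hip
      (congrArg Subtype.val (mem_center_iff.1 (cs_eq_one_iff.1 e) ⟨x, hxK⟩))

theorem Dis.final_two (h : Dis G π ρ) (h2 : 2 ∈ π) :
    (∀ P : Sylow 2 G, (P : Subgroup G).Normal) ∨
      ((∃ π₁ π₂ : Set ℕ, π₁.Nonempty ∧ π₂.Nonempty ∧ Disjoint π₁ π₂ ∧
        (∀ q ∈ π₁ ∪ π₂, q.Prime ∧
          ∃ n ∈ {n : ℕ | ∃ x : K2 G, IsConj x x⁻¹ ∧ cs(x) = n}, q ∣ n) ∧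
        (∀ q : ℕ, q.Prime → (∃ n ∈ {n : ℕ | ∃ x : K2 G, IsConj x x⁻¹ ∧ cs(x) = n}, q ∣ n) →
          q ∈ π₁ ∨ q ∈ π₂) ∧
        ∀ a ∈ π₁, ∀ b ∈ π₂, ∀ n ∈ {n : ℕ | ∃ x : K2 G, IsConj x x⁻¹ ∧ cs(x) = n},
          ¬ (a ∣ n ∧ b ∣ n)) ∧
      ∀ n ∈ {n : ℕ | ∃ x : K2 G, IsConj x x⁻¹ ∧ cs(x) = n}, Odd n ∨ ∃ j : ℕ, n = 2 ^ j) := by
  by_cases hro : ∀ x : G, ¬ RO x
  · exact Or.inl fun P => (S3861.result P).1 fun x h1 ho hc => hro x ⟨h1, ho, hc⟩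
  push Not at hro
  obtain ⟨x, hx⟩ := hro
  obtain ⟨⟨y, hy, hy2⟩, z, hz, hz2, hz1⟩ := h.exists_K2 h2 hx
  refine Or.inr ⟨⟨{2}, {q | q.Prime ∧ q ≠ 2 ∧
    ∃ n ∈ {n : ℕ | ∃ x : K2 G, IsConj x x⁻¹ ∧ cs(x) = n}, q ∣ n}, ⟨2, rfl⟩, ?_, ?_, ?_, ?_, ?_⟩, ?_⟩
  · obtain ⟨q, hq, hd⟩ := Nat.exists_prime_and_dvd hz1
    exact ⟨q, hq, fun e => hz2 (e ▸ hd), _, ⟨z, hz, rfl⟩, hd⟩
  · exact Set.disjoint_left.2 fun a ha hb => hb.2.1 ha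
  · rintro q (rfl | hq)
    · exact ⟨Nat.prime_two, _, ⟨y, hy, rfl⟩, hy2⟩
    · exact ⟨hq.1, hq.2.2⟩
  · intro q hq hn
    by_cases e : q = 2
    · exact Or.inl e
    · exact Or.inr ⟨hq, e, hn⟩
  · rintro a rfl b hb _ ⟨w, hw, rfl⟩ ⟨h3, h4⟩
    rcases h.odd_or_pow h2 w hw with h5 | ⟨j, h5⟩
    · exact (Nat.not_even_iff_odd.2 h5) (even_iff_two_dvd.2 h3)
    · rw [h5] at h4
      exact hb.2.1 ((Nat.prime_dvd_prime_iff_eq hb.1 Nat.prime_two).1 (hb.1.dvd_of_dvd_pow h4))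
  · rintro _ ⟨w, hw, rfl⟩
    exact h.odd_or_pow h2 w hw

end Cfsg.Agent.H59.RC
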