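import Cfsg.Agent.S0042
import Cfsg.Agent.H81.FrobKit

/-! A solvable subgroup that is central in all its solvable overgroups is central. -/

set_option autoImplicit false

namespace Cfsg.Agent.H59.SC

open Subgroup

universe u

/-- The hypothesis: `A` is central in all solvable overgroups. -/
def Hy {G : Type u} [Group G] (A : Subgroup G) : Prop :=
  ∀ S : Subgroup G, A ≤ S → Group.IsSolvable S → ∀ a ∈ A, ∀ s ∈ S, a * s = s * a

theorem solv_map {G H : Type u} [Group G] [Group H] (f : G →* H) (S : Subgroup G)
    (hS : Group.IsSolvable S) : Group.IsSolvable (S.map f) :=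
  Group.isSolvable_of_surjective (f.subgroupMap_surjective S)

theorem solv_comap {G : Type u} [Group G] (N : Subgroup G) [N.Normal] (hN : Group.IsSolvable N)
    (S : Subgroup (G ⧸ N)) (hS : Group.IsSolvable S) :
    Group.IsSolvable (S.comap (QuotientGroup.mk' N)) := by
  have hle : N ≤ S.comap (QuotientGroup.mk' N) := by
    intro x hx
    have : QuotientGroup.mk' N x = 1 := (QuotientGroup.eq_one_iff x).2 hx
    rw [mem_comap, this]
    exact S.one_mem
  refine Group.isSolvable_of_ker_le_range (Subgroup.inclusion hle)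
    ((QuotientGroup.mk' N).subgroupComap S) ?_
  intro x hx
  have h1 : QuotientGroup.mk' N (x : G) = 1 := congrArg Subtype.val hx
  exact ⟨⟨x, (QuotientGroup.eq_one_iff _).1 h1⟩, rfl⟩

theorem main (n : ℕ) : ∀ (G : Type u) [Group G] [Finite G], Nat.card G = n →
    ∀ A : Subgroup G, Group.IsSolvable A → Hy A → A ≤ center G := by
  induction n using Nat.strong_induction_on with
  | _ n ih =>
  intro G _ _ hn A hA hc
  by_contra hne
  set C : Subgroup G := centralizer (A : Set G) with hC
  have hCmem : ∀ x, x ∈ C ↔ ∀ a ∈ A, a * x = x * a := fun x => mem_centralizer_iff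
  have hCtop : C ≠ ⊤ := by
    intro h
    apply hne
    intro a ha
    rw [mem_center_iff]
    intro g
    have : g ∈ C := h ▸ mem_top g
    exact ((hCmem g).1 this a ha).symm
  have hAC : A ≤ C := fun a ha => (hCmem a).2 fun b hb => hc A le_rfl hA b hb a ha
  have hA1 : ∃ a ∈ A, a ≠ 1 := by
    by_contra h
    push Not at h
    apply hne
    intro a ha
    rw [h a ha]
    exact one_mem _
  -- proper overgroups
  have h1 : ∀ H : Subgroup G, A ≤ H → H ≠ ⊤ → H ≤ C := by
    intro H hAH hH
    have hlt : Nat.card H < n := by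
      rw [← hn]
      exact lt_of_le_of_ne (Nat.card_le_card_of_injective _ H.subtype_injective)
        fun h => hH (eq_top_of_card_eq H h)
    have hs : Group.IsSolvable (A.subgroupOf H) :=
      Group.isSolvable_of_surjective (f := (subgroupOfEquivOfLe hAH).symm.toMonoidHom)
        (subgroupOfEquivOfLe hAH).symm.surjective
    have := ih _ hlt H rfl (A.subgroupOf H) hs (by
      intro S hS hSs a ha s hs
      have hle : A ≤ S.map H.subtype := by
        intro b hb
        exact ⟨⟨b, hAH hb⟩, hS (by simpa [mem_subgroupOf] using hb), rfl⟩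
      exact Subtype.ext (hc _ hle (solv_map _ _ hSs) a ha s ⟨s, hs, rfl⟩))
    intro x hx
    refine (hCmem x).2 fun a ha => ?_
    have h2 := this (x := ⟨a, hAH ha⟩) (by simpa [mem_subgroupOf] using ha)
    have h3 := mem_center_iff.1 h2 ⟨x, hx⟩
    exact (congrArg Subtype.val h3).symm
  -- no solvable normal subgroup
  have h2 : ∀ N : Subgroup G, N.Normal → Group.IsSolvable N → N = ⊥ := by
    intro N hN hNs
    by_contra hN1
    have hlt : Nat.card (G ⧸ N) < n := by
      rw [← hn, card_eq_card_quotient_mul_card_subgroup N]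
      have : 1 < Nat.card N := (one_lt_card_iff_ne_bot N).2 hN1
      have h0 : 0 < Nat.card (G ⧸ N) := Nat.card_pos
      nlinarith
    have := ih _ hlt (G ⧸ N) rfl (A.map (QuotientGroup.mk' N)) (solv_map _ _ hA) (by
      intro S hS hSs a ha s hs
      obtain ⟨a, ha, rfl⟩ := ha
      obtain ⟨s, rfl⟩ := QuotientGroup.mk'_surjective N s
      have hle : A ≤ S.comap (QuotientGroup.mk' N) := map_le_iff_le_comap.1 hS
      have := hc _ hle (solv_comap N hNs S hSs) a ha s hs
      rw [← map_mul, this, map_mul])
    apply hCtop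
    rw [eq_top_iff]
    intro g _
    set S : Subgroup (G ⧸ N) :=
      center (G ⧸ N) ⊔ zpowers (QuotientGroup.mk' N g) with hS
    have hSc : S ≤ centralizer (S : Set (G ⧸ N)) := by
      refine sup_le ?_ ?_
      · intro z hz
        exact mem_centralizer_iff.2 fun w _ => mem_center_iff.1 hz w
      · rw [zpowers_le, mem_centralizer_iff]
        have : S ≤ centralizer {QuotientGroup.mk' N g} := by
          refine sup_le ?_ ?_
          · intro z hz
            exact mem_centralizer_singleton_iff.2 (mem_center_iff.1 hz _).symm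
          · rw [zpowers_le]
            exact mem_centralizer_singleton_iff.2 rfl
        intro w hw
        exact mem_centralizer_singleton_iff.1 (this hw)
    have hSs : Group.IsSolvable S := Group.isSolvable_of_comm fun a b =>
      Subtype.ext (mem_centralizer_iff.1 (hSc b.2) a a.2)
    have hle : A ≤ S.comap (QuotientGroup.mk' N) :=
      map_le_iff_le_comap.1 (this.trans le_sup_left)
    refine (hCmem g).2 fun a ha => hc _ hle (solv_comap N hNs S hSs) a ha g ?_
    exact (le_sup_right : _ ≤ S) (mem_zpowers _)
  -- centralizers of elements of `C`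
  have h3 : ∀ y ∈ C, y ≠ 1 → centralizer {y} ≤ C := by
    intro y hy hy1
    refine h1 _ ?_ ?_
    · intro a ha
      exact mem_centralizer_singleton_iff.2 ((hCmem y).1 hy a ha)
    · intro h
      have hz : y ∈ center G := mem_center_iff.2 fun g =>
        mem_centralizer_singleton_iff.1 (h ▸ mem_top g)
      have := h2 (center G) inferInstance (Group.isSolvable_of_comm fun a b =>
        Subtype.ext (mem_center_iff.1 b.2 a))
      rw [this] at hz
      exact hy1 (mem_bot.1 hz)
  obtain ⟨a, ha, ha1⟩ := hA1
  have hfr : IsFrobeniusComplement C := by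
    refine ⟨fun h => ha1 (mem_bot.1 (h ▸ hAC ha)), hCtop, fun g hg => ?_⟩
    rw [eq_bot_iff]
    rintro y ⟨hy, c, hc', rfl⟩
    by_contra hy1
    have hy1' : g * c * g⁻¹ ≠ 1 := fun h => hy1 (mem_bot.2 h)
    have hy' : g * c * g⁻¹ ∈ C := hy
    have e1 : g * a * g⁻¹ ∈ C := by
      refine h3 _ hy' hy1' (mem_centralizer_singleton_iff.2 ?_)
      have := (hCmem c).1 hc' a ha
      calc g * a * g⁻¹ * (g * c * g⁻¹) = g * (a * c) * g⁻¹ := by group
        _ = g * (c * a) * g⁻¹ := by rw [this]
        _ = g * c * g⁻¹ * (g * a * g⁻¹) := by group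
    have e2 : g * a * g⁻¹ ≠ 1 := by
      intro h
      apply ha1
      calc a = g⁻¹ * (g * a * g⁻¹) * g := by group
        _ = 1 := by rw [h]; group
    have e3 : g ∈ normalizer (C : Set G) := by
      refine mem_normalizer_fintype fun x hx => ?_
      refine h3 _ e1 e2 (mem_centralizer_singleton_iff.2 ?_)
      have := (hCmem x).1 hx a ha
      calc g * x * g⁻¹ * (g * a * g⁻¹) = g * (x * a) * g⁻¹ := by group
        _ = g * (a * x) * g⁻¹ := by rw [this]
        _ = g * a * g⁻¹ * (g * x * g⁻¹) := by group
    by_cases hN : normalizer (C : Set G) = ⊤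
    · have hCn : C.Normal := normalizer_eq_top_iff.1 hN
      have hZ := h2 (C ⊓ centralizer (C : Set G)) inferInstance
        (Group.isSolvable_of_comm fun x y =>
          Subtype.ext (mem_centralizer_iff.1 y.2.2 x x.2.1))
      have : a ∈ C ⊓ centralizer (C : Set G) :=
        ⟨hAC ha, mem_centralizer_iff.2 fun x hx => ((hCmem x).1 hx a ha).symm⟩
      rw [hZ] at this
      exact ha1 (mem_bot.1 this)
    · exact hg (h1 _ (hAC.trans le_normalizer) hN e3)
  obtain ⟨N, hN, hNn, hNil⟩ := Cfsg.Agent.S0042.result C hfr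
  exact (H81.frob_kit hfr hN.symm).2.2.1 (h2 N hNn inferInstance)

end Cfsg.Agent.H59.SC
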