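/-
The class of `z` with dihedral weak closure: the semidihedral subgroup.
-/
import Cfsg.Agent.H59.StdA
import Cfsg.Agent.H44.Subnormal
import Cfsg.Agent.S0205
import Cfsg.Agent.S0215

set_option autoImplicit false

namespace Cfsg.Agent.H59.Std

open Cfsg Subgroup H42

variable {G : Type*} [Group G] [Finite G]

/-- the subgroup of `X` given by a Sylow subgroup in ambient form -/
def sylOf {P X : Subgroup G} (h : SylIn 2 P X) : Sylow 2 X :=
  IsPGroup.toSylow (P := P.subgroupOf X)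
    (h.isP.of_equiv (subgroupOfEquivOfLe h.le).symm) h.ndvd

/-- the `Z*`-theorem for an automorphism of a quasisimple group -/
theorem ziso {A X P : Subgroup G} (hA : H44.QS A) (AX : A ≤ X) (XN : X ≤ normalizer (A : Set G))
    (hP : SylIn 2 P X) {x : G} (xP : x ∈ P) (x2 : x * x ∈ centralizer (A : Set G))
    (hiso : ∀ g ∈ X, g * x * g⁻¹ ∈ P → g * x * g⁻¹ * x⁻¹ ∈ centralizer (A : Set G)) :
    x ∈ centralizer (A : Set G) := by
  by_contra hx
  have XK := XN.trans (normalizer_le_normalizer_centralizer A)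
  haveI hZ : ((centralizer (A : Set G)).subgroupOf X).Normal :=
    ⟨fun n hn g => mem_subgroupOf.2 (conj_mem_of_mem_normalizer (XK g.2) hn)⟩
  set π := QuotientGroup.mk' ((centralizer (A : Set G)).subgroupOf X) with hπ
  have ker : ∀ y : X, π y = 1 ↔ (y : G) ∈ centralizer (A : Set G) := fun y =>
    QuotientGroup.eq_one_iff y
  set x' : X := ⟨x, hP.le xP⟩
  obtain ⟨N, hN, ho, hc⟩ := S0215.result
    ((sylOf hP).mapSurjective (QuotientGroup.mk'_surjective _)) (π x')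
    (orderOf_eq_prime (by rw [pow_two, ← map_mul]; exact (ker _).2 x2) (mt (ker _).1 hx))
    ⟨x', xP, rfl⟩ (by
      intro g hg
      obtain ⟨g, rfl⟩ := QuotientGroup.mk'_surjective _ g
      obtain ⟨p, hp, e⟩ := hg
      have e1 : π (p⁻¹ * (g * x' * g⁻¹)) = 1 := by
        simp only [map_mul, map_inv, inv_mul_eq_one]; exact e
      have hn : P ≤ normalizer ((centralizer (A : Set G) ⊓ X : Subgroup G) : Set G) :=
        fun s hs => mem_normalizer_of_conj_mem fun y hy =>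
          ⟨conj_mem_of_mem_normalizer (XK (hP.le hs)) hy.1,
            X.mul_mem (X.mul_mem (hP.le hs) hy.2) (X.inv_mem (hP.le hs))⟩
      obtain ⟨k, hk, hk'⟩ := (hP.of_le (K := P ⊔ centralizer (A : Set G) ⊓ X) le_sup_left
        (sup_le hP.le inf_le_right)).exists_conj (R := zpowers (g * x * (g : G)⁻¹))
        (P2.isP (let ⟨n, hn⟩ := P2.of_mem hP.isP xP; ⟨n, by rw [conj_pow, hn]; simp⟩))
        (zpowers_le.2 (by
          rw [← mul_inv_cancel_left (p : G) (g * x * (g : G)⁻¹)]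
          exact mul_mem (mem_sup_left hp)
            (mem_sup_right ⟨(ker _).1 e1, (p⁻¹ * (g * x' * g⁻¹)).2⟩)))
      obtain ⟨s, hs, k', hk1, rfl⟩ := exists_mul_of_mem_sup hn hk
      have h2 := (ker ((⟨k', hk1.2⟩ * g) * x' * (⟨k', hk1.2⟩ * g)⁻¹ * x'⁻¹)).2
        (hiso (k' * g) (mul_mem hk1.2 g.2) (by
          simpa [mul_assoc] using mul_mem (mul_mem (inv_mem hs) (hk' _ (mem_zpowers _))) hs))
      have h3 := (ker ⟨k', hk1.2⟩).2 hk1.1
      simp only [map_mul, map_inv, h3, one_mul, mul_inv_eq_one] at h2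
      exact h2)
  rcases hA.normal (A ⊓ (N.comap π).map X.subtype) inf_le_left (fun a ha =>
    mem_normalizer_of_conj_mem fun y hy => by
      obtain ⟨h1, y, h2, rfl⟩ := hy
      exact ⟨A.mul_mem (A.mul_mem ha h1) (A.inv_mem ha), _,
        (hN.comap π).conj_mem y h2 ⟨a, AX ha⟩, rfl⟩) with e | e
  · have h1 : (A.subgroupOf X).map π ≤ N := by
      rintro _ ⟨y, hy, rfl⟩
      obtain ⟨-, y', h2, h3⟩ := e.ge hy
      exact Subtype.ext h3 ▸ h2
    haveI := S0205.result ho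
    have h2 := H44.eq_bot_of_perfect_of_solvable (K := (A.subgroupOf X).map π)
      (by rw [← map_commutator, ((H44.qs_subgroupOf_iff AX).2 hA).perfect])
      (Group.isSolvable_of_isSolvable_injective (inclusion_injective h1))
    exact hA.not_le_centralizer fun a ha =>
      (ker ⟨a, AX ha⟩).1 (mem_bot.1 (h2 ▸ mem_map_of_mem π (mem_subgroupOf.2 ha)))
  · have h1 : ∀ a (ha : a ∈ A), Commute (π x') (π ⟨a, AX ha⟩) := fun a ha => by
      rw [← commutatorElement_eq_one_iff_commute, ← map_commutatorElement, ker]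
      exact e ⟨A.mul_mem (conj_mem_of_mem_normalizer (XN x'.2) ha) (A.inv_mem ha),
        x' * ⟨a, AX ha⟩ * x'⁻¹ * ⟨a, AX ha⟩⁻¹, mem_comap.2 (by
          simpa only [map_mul, map_inv] using hc _), rfl⟩
    have h2 := H44.commutator_eq_bot_of_perfect (U := zpowers x) hA.perfect (by
      rw [commutator_eq_bot_iff_le_centralizer, commutator_le]
      rintro _ ⟨i, rfl⟩ a ha
      have := (h1 a ha).zpow_left i
      rw [← map_zpow, ← commutatorElement_eq_one_iff_commute, ← map_commutatorElement, ker] at this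
      exact this)
    exact hx (commutator_eq_bot_iff_le_centralizer.1 h2 (mem_zpowers x))

structure F1 (z : G) (E : G → Subgroup G) (S : Subgroup G) (t c : G) : Prop extends Hs z E S where
  tD : D z S t
  hc : ∀ t', D z S t' ↔ t * t' ∈ zpowers c

namespace F1

variable {z : G} {E : G → Subgroup G} {S : Subgroup G} {t c : G} (h : F1 z E S t c)
include h

omit [Finite G] in
theorem t2 : t * t = 1 := h.sq h.tD.2.1
omit [Finite G] in
theorem ti : t⁻¹ = t := h.inv h.tD.2.1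
omit [Finite G] in
theorem tt (x : G) : t * (t * x) = x := by rw [← mul_assoc, h.t2, one_mul]
omit [Finite G] in
theorem Dt {x : G} (hx : x ∈ zpowers c) : D z S (t * x) := (h.hc _).2 (by rwa [h.tt])
omit [Finite G] in
theorem cS {x : G} (hx : x ∈ zpowers c) : x ∈ S := h.tt x ▸ mul_mem h.tD.1 (h.Dt hx).1
omit [Finite G] in
theorem cE {x : G} (hx : x ∈ zpowers c) : x ∈ E z := h.tt x ▸ h.DD h.tD (h.Dt hx)
omit [Finite G] in
theorem tx {x : G} (hx : x ∈ zpowers c) : t * x * t⁻¹ = x⁻¹ := by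
  simpa only [h.tt] using h.tinv h.tD (h.Dt hx)
omit [Finite G] in
theorem zC : z ∈ zpowers c := h.tt z ▸ (h.hc _).1 (h.Dz h.tD)
omit [Finite G] in
theorem c2 : P2 c := h.p2 (h.cS (mem_zpowers c))
omit [Finite G] in
theorem DC {s s' : G} (hs : D z S s) (hs' : D z S s') : s * s' ∈ zpowers c := by
  have := mul_mem (inv_mem ((h.hc _).1 hs)) ((h.hc _).1 hs')
  rwa [mul_inv_rev, h.inv hs.2.1, mul_assoc, inv_mul_cancel_left] at this
omit [Finite G] in
theorem Dm {s x : G} (hs : D z S s) (hx : x ∈ zpowers c) : D z S (s * x) :=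
  (h.hc _).2 (mul_assoc t s x ▸ mul_mem ((h.hc _).1 hs) hx)
omit [Finite G] in
theorem Ds {s k : G} (hs : D z S s) (hk : k ∈ S) : D z S (k * s * k⁻¹) :=
  h.Dcj hs (h.cz k hk) (mul_mem (mul_mem hk hs.1) (inv_mem hk))
omit [Finite G] in
theorem nC {s x : G} (hs : s ∈ S) (hx : x ∈ zpowers c) : s * x * s⁻¹ ∈ zpowers c := by
  rw [← h.tt x, ← conj_mul]
  exact h.DC (h.Ds h.tD hs) (h.Ds (h.Dt hx) hs)
omit [Finite G] in
theorem uq {x : G} (hx : x ∈ zpowers c) (x2 : x * x = 1) : x = 1 ∨ x = z :=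
  h.c2.uniq hx h.zC x2 h.z2 h.z1
omit [Finite G] in
theorem sqrt {x y : G} (hx : x ∈ zpowers c) (hy : y ∈ zpowers c) (e : x * x = y * y) :
    x = y ∨ x = y * z := by
  rcases h.uq (mul_mem (inv_mem hy) hx) (by
    rw [mul_assoc, ← mul_assoc x, zp_comm hx (inv_mem hy), mul_assoc, e]; group) with e1 | e1
  exacts [Or.inl (inv_mul_eq_one.1 e1).symm, Or.inr (inv_mul_eq_iff_eq_mul.1 e1)]
omit [Finite G] in
theorem sq1 {q : G} (qt : q * t = t * q) (hq : q * q ∈ zpowers c) : q * q = 1 := by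
  have h1 := h.tx hq
  have qt' : Commute t q := qt.symm
  rw [cj_eq.2 (qt'.mul_right qt').eq, eq_inv_iff_mul_eq_one] at h1
  exact (h.uq hq h1).resolve_right (h.nosq h.tD.2.1 h.tD.2.2 qt)
omit [Finite G] in
theorem tb {b : G} (hb : b ∈ zpowers c) : b⁻¹ * t = t * b := by
  rw [← h.tx hb, inv_mul_cancel_right]

theorem L {e x k s : G} (he : e ∈ S) (hx : x ∈ zpowers c) (kz : k * z = z * k)
    (ex : e = k * x * k⁻¹) (hs : D z S s) (se : s * e * s⁻¹ ∈ zpowers e) : e ∈ zpowers c := by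
  subst ex
  obtain ⟨m, mz, h1, h2⟩ := h.syl_conj (x := x)
    (fun s hs => conj_zp (h.nC hs (mem_zpowers c)) hx) kz
  have h3 := h.Dm (h.Dcj hs mz (h2 s hs.1 se)) (zp_trans hx h1)
  rw [conj_mul] at h3
  have h4 := h.Dcj h3 (k := m⁻¹) (show Commute m z from mz).inv_left
    (by simpa [mul_assoc] using mul_mem hs.1 he)
  have h5 := h.DC hs h4
  rwa [show m⁻¹ * (m * (s * (k * x * k⁻¹)) * m⁻¹) * m⁻¹⁻¹ = s * (k * x * k⁻¹) by group,
    ← mul_assoc, h.sq hs.2.1, one_mul] at h5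

omit [Finite G] in
theorem act0 {c0 x : G} (h0 : c0 ∈ zpowers c) (e0 : c0 * c0 = z) (hx : x ∈ S) :
    x * c0 * x⁻¹ = c0 ∨ x * c0 * x⁻¹ = c0 * z :=
  h.sqrt (h.nC hx h0) h0 (by rw [conj_mul, e0, cj_eq.2 (h.cz x hx)])

omit [Finite G] in
theorem mu {c0 x : G} (h0 : c0 ∈ zpowers c) (e0 : c0 * c0 = z) (hx : x ∈ S) (xt : x * t = t * x)
    (xE : x ∈ E z) : x * c0 = c0 * x := by
  refine cj_eq.1 ((h.act0 h0 e0 hx).resolve_right fun e => ?_)
  obtain ⟨r, hr, h1⟩ := h.root (IsConj.refl z) h.syl.isP h.cz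
  refine h.nocomm h.tD.2.1 h.tD.2.2 xt (y := r * c0) (cj_eq.1 ?_).symm ?_
  · rw [← conj_mul, (h1 t h.tD.1).2 (h.notE h.tD), h.tx h0,
      show r⁻¹ * c0⁻¹ = r * (r * r)⁻¹ * (c0 * c0)⁻¹ * c0 by group, hr, e0, h.zi, mul_assoc r, h.z2,
      mul_one]
  · rw [← conj_mul, e, cj_eq.2 ((h1 x hx).1 xE), mul_assoc]

theorem odd {e x k c0 : G} (he : e ∈ S) (eE : e ∈ E z) (hx : x ∈ zpowers c) (kz : k * z = z * k)
    (ex : e = k * x * k⁻¹) (e2 : e * e ∈ zpowers c) (ne : e ∉ zpowers c) (h0 : c0 ∈ zpowers c)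
    (e0 : c0 * c0 = z) (ze : z ∈ zpowers e) : t * (e * t * e⁻¹) ∉ zpowers (c * c) := fun hw => by
  obtain ⟨b, hb, e1⟩ := exists_sqrt hw
  have qt : b * e * t = t * (b * e) := by
    rw [← cj_eq, show b * e * t * (b * e)⁻¹ = b * (e * t * e⁻¹) * b⁻¹ by group,
      ← h.tt (e * t * e⁻¹), e1, ← mul_assoc t, ← h.tb hb]
    group
  have qS := mul_mem (h.cS hb) he
  have q2 := h.sq1 qt (by
    rw [show b * e * (b * e) = b * (e * b * e⁻¹) * (e * e) by group]
    exact mul_mem (mul_mem hb (h.nC he hb)) e2)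
  have h1 := h.c2.act (h.nC qS (mem_zpowers c)) (by rw [q2, one_mul, mul_one]) h0 e0 h.z2 h.z1
    (h.mu h0 e0 qS qt (mul_mem (h.cE hb) eE)) hb
  refine ne (h.L he hx kz ex h.tD ?_)
  have h2 : t * e * t⁻¹ = b * (b * e) := by
    rw [show t * e * t⁻¹ = t * b⁻¹ * t⁻¹ * (t * (b * e) * t⁻¹) by group, h.tx (inv_mem hb), ← qt]
    group
  have h3 : e⁻¹ = b * e * b * (b * e)⁻¹ * (b * e) := by
    rw [inv_mul_cancel_right, ← inv_eq_of_mul_eq_one_right q2]; group
  rw [h2]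
  rcases h1 with h1 | h1 <;> rw [h1] at h3
  · exact h3 ▸ inv_mem (mem_zpowers e)
  · rw [mul_assoc, ← h.cz _ qS, ← mul_assoc, ← mul_inv_eq_iff_eq_mul] at h3
    exact h3 ▸ mul_mem (inv_mem (mem_zpowers e)) (inv_mem ze)

end F1

structure HA (z : G) (E : G → Subgroup G) (A : Subgroup G) : Prop where
  qs : H44.QS A
  Az : A ≤ E z
  nA : ∀ k : G, k * z = z * k → k ∈ normalizer (A : Set G)
  invK : ∀ x ∈ centralizer (A : Set G), x * x = 1 → x * z = z * x → x = 1 ∨ x = z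

omit [Finite G] in
theorem P2.exists_min {K : Subgroup G} {y : G} (h : P2 y) (hy : y ∉ K) :
    ∃ w ∈ zpowers y, w ∉ K ∧ w * w ∈ K := by
  obtain ⟨n, hn⟩ := h
  induction n generalizing y with
  | zero => exact absurd ((by simpa using hn : y = 1) ▸ one_mem K) hy
  | succ n ih =>
    by_cases e : y * y ∈ K
    · exact ⟨y, mem_zpowers y, hy, e⟩
    · obtain ⟨w, hw, h1⟩ := ih e (by rw [← pow_two, ← pow_mul, ← pow_succ', hn])
      exact ⟨w, zp_trans sq_mem hw, h1⟩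

namespace F1

variable {z : G} {E : G → Subgroup G} {S A : Subgroup G} {t c : G} (h : F1 z E S t c)
  (hA : HA z E A)
include h hA

omit [Finite G] in
theorem zK : z ∈ centralizer (A : Set G) := fun _ ha => h.cm (hA.Az ha)

theorem sylA : SylIn 2 (S ⊓ A) A :=
  (h.syl.of_le (K := centralizer {z}) (fun s hs => mem_centralizer_singleton_iff.2 (h.cz s hs))
    le_top).inf_normal (fun _ ha => mem_centralizer_singleton_iff.2 (h.cm (hA.Az ha)))
    fun k hk => hA.nA k (mem_centralizer_singleton_iff.1 hk)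

theorem exists_x : ∃ x ∈ zpowers c, x ∈ A ∧ x ∉ centralizer (A : Set G) := by
  by_contra! hc
  have tN : zpowers t ≤ normalizer (A : Set G) := zpowers_le.2 (hA.nA t (h.cz t h.tD.1))
  obtain ⟨P, hP, RP⟩ := exists_sylIn (p := 2) (R := zpowers t ⊔ S ⊓ A) (H := zpowers t ⊔ A)
    (h.syl.isP.to_le (sup_le (zpowers_le.2 h.tD.1) inf_le_left)) (sup_le_sup_left inf_le_right _)
  have e := (h.sylA hA).eq_of_le (R := P ⊓ A) (hP.isP.to_le inf_le_left) inf_le_right
    (le_inf (le_sup_right.trans RP) inf_le_right)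
  have PS : P ≤ S := fun p hp => by
    obtain ⟨s, hs, a, ha, rfl⟩ := exists_mul_of_mem_sup tN (hP.le hp)
    exact mul_mem (zpowers_le.2 h.tD.1 hs)
      (e.le ⟨(P.mul_mem_cancel_left (RP (mem_sup_left hs))).1 hp, ha⟩).1
  have := ziso hA.qs le_sup_right (sup_le tN le_normalizer) hP (RP (mem_sup_left (mem_zpowers t)))
    (h.t2 ▸ one_mem _) fun g hg e => by
      obtain ⟨s, hs, a, ha, rfl⟩ := exists_mul_of_mem_sup tN hg
      have st : Commute s t := zp_comm hs (mem_zpowers t)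
      refine hc _ ?_ ?_
      · rw [h.ti]
        exact h.DC (h.Dcj h.tD (Commute.mul_left (h.cz s (zpowers_le.2 h.tD.1 hs))
          (h.cm (hA.Az ha))) (PS e)) h.tD
      · rw [show s * a * t * (s * a)⁻¹ * t⁻¹ = s * (a * (t * a⁻¹ * t⁻¹)) * (t * s⁻¹ * t⁻¹) by group,
          cj_eq.2 st.inv_left.symm]
        exact conj_mem_of_mem_normalizer (tN hs) (mul_mem ha
          (conj_mem_of_mem_normalizer (tN (mem_zpowers t)) (inv_mem ha)))
  rcases hA.invK t this h.t2 (h.cz t h.tD.1) with e | e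
  exacts [h.ne1 h.tD.2.1 e, h.tD.2.2 e]

theorem exists_d : ∃ c0 ∈ zpowers c, c0 ∈ A ∧ c0 ∉ centralizer (A : Set G) ∧ c0 * c0 = z ∧
    ∃ a : G, a * z = z * a ∧ a * c0 * a⁻¹ ∈ S ∧ a * c0 * a⁻¹ ∉ zpowers c := by
  obtain ⟨x, x1, x2, x3⟩ := h.exists_x hA
  obtain ⟨y, hy, y1, y2⟩ := (h.c2.zp x1).exists_min x3
  have yC := zp_trans x1 hy
  have yA := zpowers_le.2 x2 hy
  have := mt (ziso hA.qs le_rfl le_normalizer (h.sylA hA) ⟨h.cS yC, yA⟩ y2) y1
  push Not at this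
  obtain ⟨a, ha, ⟨dS, dA⟩, dK⟩ := this
  have az := h.cm (hA.Az ha)
  have d2 : a * y * a⁻¹ * (a * y * a⁻¹) = y * y := by rw [conj_mul, cj_eq.2 (y2 a ha)]
  have dC : a * y * a⁻¹ ∉ zpowers c := fun e => dK (by
    rcases h.sqrt e yC d2 with e1 | e1 <;> rw [e1]
    · exact mul_inv_cancel y ▸ one_mem _
    · rw [cj_eq.2 (h.cz y (h.cS yC))]; exact h.zK hA)
  refine ⟨y, yC, yA, y1, ?_, a, az, dS, dC⟩
  have yy : y * y ≠ 1 := fun e => y1 (by
    rcases h.uq yC e with e1 | e1 <;> rw [e1]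
    exacts [one_mem _, h.zK hA])
  refine (h.uq (mul_mem yC yC) (by_contra fun y4 => ?_)).resolve_left yy
  obtain ⟨c0, h0, v2, v4⟩ := (h.c2.zp yC).exists_four yy
  replace h0 := zp_trans yC h0
  have e0 := (h.uq (mul_mem h0 h0) v4).resolve_left v2
  have c0y := h.c2.four_mem (mul_mem yC yC) h0 y4 v4
  have hw := h.odd dS (hA.Az dA) yC az rfl (d2 ▸ mul_mem yC yC) dC h0 e0
    (zp_trans sq_mem (d2 ▸ e0 ▸ mul_mem c0y c0y))
  have wC := h.DC h.tD (h.Ds h.tD dS)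
  generalize a * y * a⁻¹ = d at *
  have h1 := h.c2.act (h.nC dS (mem_zpowers c)) (d2 ▸ zp_comm (mul_mem yC yC) (mem_zpowers c))
    h0 e0 h.z2 h.z1 (zpowers_le.2 y2 c0y d dA) wC
  have h2 : t * (d * t * d⁻¹) * (d * (t * (d * t * d⁻¹)) * d⁻¹) = (y * y * (y * y))⁻¹ := by
    rw [← conj_mul, mul_assoc t, ← mul_assoc (d * t * d⁻¹), h.sq (isC_cj h.tD.2.1 d), one_mul,
      show d * (d * t * d⁻¹) * d⁻¹ = d * d * t * (d * d)⁻¹ by group, d2,
      show t * (y * y * t * (y * y)⁻¹) = t * (y * y) * t⁻¹ * (t * t) * (y * y)⁻¹ by group,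
      h.tx (mul_mem yC yC), h.t2]
    group
  have gen := (h.c2.sq_or_gen wC).resolve_left hw
  generalize t * (d * t * d⁻¹) = w at *
  have yw := zp_trans gen yC
  have h3 : y * y * (y * y) ∈ zpowers (w * w * (w * w)) := sq_mem_sq (sq_mem_sq yw)
  have h4 : w * w = 1 := by
    refine ((h.c2.zp wC).zp sq_mem).eq_one ?_
    rcases h1 with h1 | h1 <;> rw [h1] at h2
    · rwa [← inv_mem_iff, ← h2] at h3
    · rw [← mul_assoc, ← eq_mul_inv_iff_mul_eq] at h2
      have := mul_mem (inv_mem h3) (inv_mem (zp_trans h3 (e0 ▸ sq_mem_sq c0y)))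
      rwa [← h2] at this
  have := sq_mem_sq yw
  rw [h4, zpowers_one_eq_bot, mem_bot] at this
  exact yy this

end F1

/-- the conjugates of `c0` under `C(z)` -/
def Cl (z c0 e : G) : Prop := ∃ k : G, k * z = z * k ∧ e = k * c0 * k⁻¹

omit [Finite G] in
theorem Cl.cj {z c0 e k : G} (h : Cl z c0 e) (kz : k * z = z * k) : Cl z c0 (k * e * k⁻¹) := by
  obtain ⟨m, mz, rfl⟩ := h
  exact ⟨k * m, (Commute.mul_left kz mz).eq, by group⟩

omit [Finite G] in
theorem Cl.sq {z c0 e : G} (h : Cl z c0 e) (e0 : c0 * c0 = z) : e * e = z := by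
  obtain ⟨m, mz, rfl⟩ := h
  rw [conj_mul, e0, cj_eq.2 mz]

namespace F1

variable {z : G} {E : G → Subgroup G} {S A : Subgroup G} {t c c0 : G} (h : F1 z E S t c)
  (hA : HA z E A) (h0 : c0 ∈ zpowers c) (hA0 : c0 ∈ A) (e0 : c0 * c0 = z)
include h hA h0 hA0 e0

theorem del {e : G} (he : Cl z c0 e) (eS : e ∈ S) (ne : e ∉ zpowers c) :
    t * (e * t * e⁻¹) ∉ zpowers (c * c) ∧ ∀ x ∈ zpowers c, e * x * e⁻¹ = x⁻¹ := by
  have e2 := he.sq e0
  obtain ⟨k, kz, ex⟩ := he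
  have hw := h.odd eS (hA.Az (ex ▸ conj_mem_of_mem_normalizer (hA.nA k kz) hA0)) h0 kz ex
    (e2 ▸ h.zC) ne h0 e0 (e2 ▸ sq_mem)
  refine ⟨hw, fun x hx => inv_zp ?_
    (zp_trans ((h.c2.sq_or_gen (h.DC h.tD (h.Ds h.tD eS))).resolve_left hw) hx)⟩
  rw [← conj_mul, show e * (e * t * e⁻¹) * e⁻¹ = e * e * t * (e * e)⁻¹ by group, e2,
    cj_eq.2 (h.cz t h.tD.1).symm, mul_inv_rev, h.ti, h.inv (isC_cj h.tD.2.1 e)]

theorem del_mul {d x : G} (hd : Cl z c0 d) (dS : d ∈ S) (nd : d ∉ zpowers c) {q : G}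
    (qt : q * t = t * q) (qc : q * c = c * q) (hx : x ∈ zpowers c) (hq : Cl z c0 (d * q)) :
    Cl z c0 (x * (d * q)) := by
  obtain ⟨h1, h2⟩ := h.del hA h0 hA0 e0 hd dS nd
  have key : ∀ y ∈ zpowers c, ∀ b ∈ zpowers c, Cl z c0 (y * (d * q)) →
      Cl z c0 (b * b * y * (d * q)) := fun y hy b hb e => by
    have := e.cj (h.cz b (h.cS hb))
    rwa [show b * (y * (d * q)) * b⁻¹ = b * y * (d * (q * b⁻¹ * q⁻¹) * d⁻¹) * (d * q) by group,
      cj_eq.2 (comm_zp qc (inv_mem hb)), h2 _ (inv_mem hb), inv_inv, mul_assoc b y,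
      zp_comm hy hb, ← mul_assoc b] at this
  by_cases hs : x ∈ zpowers (c * c)
  · obtain ⟨b, hb, rfl⟩ := exists_sqrt hs
    simpa only [mul_one] using key 1 (one_mem _) b hb (by rwa [one_mul])
  · have wC := h.DC h.tD (h.Ds h.tD dS)
    obtain ⟨b, hb, e⟩ := exists_sqrt (nsq_mul hx (inv_mem wC) hs (by rwa [inv_mem_iff]))
    rw [mul_inv_eq_iff_eq_mul] at e
    rw [e]
    refine key _ wC b hb ?_
    have := hq.cj (h.cz t h.tD.1)
    rwa [show t * (d * q) * t⁻¹ = t * (d * (q * t⁻¹ * q⁻¹) * d⁻¹) * (d * q) by group, h.ti,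
      cj_eq.2 qt] at this

theorem del_coset {d e : G} (hd : Cl z c0 d) (dS : d ∈ S) (nd : d ∉ zpowers c)
    (he : Cl z c0 e) (eS : e ∈ S) (ne : e ∉ zpowers c) : e * d⁻¹ ∈ zpowers c := by
  obtain ⟨h1, h2⟩ := h.del hA h0 hA0 e0 hd dS nd
  obtain ⟨h3, h4⟩ := h.del hA h0 hA0 e0 he eS ne
  obtain ⟨b, hb, e1⟩ := exists_sqrt (nsq_mul (h.DC h.tD (h.Ds h.tD eS))
    (inv_mem (h.DC h.tD (h.Ds h.tD dS))) h3 (by rwa [inv_mem_iff]))
  rw [mul_inv_eq_iff_eq_mul, ← zp_comm (h.DC h.tD (h.Ds h.tD dS)) (mul_mem hb hb),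
    mul_assoc t (d * t * d⁻¹), mul_right_inj] at e1
  obtain ⟨q, hq⟩ : ∃ q, q = d⁻¹ * (b * e) := ⟨_, rfl⟩
  have qS : q ∈ S := hq ▸ mul_mem (inv_mem dS) (mul_mem (h.cS hb) eS)
  have qt : q * t = t * q := by
    have := (h.tinv h.tD (h.Ds h.tD dS))
    have e2 : b⁻¹ * (d * t * d⁻¹) = d * t * d⁻¹ * b := by
      rw [← h.tt (d * t * d⁻¹), ← mul_assoc, h.tb hb, mul_assoc t b,
        ← zp_comm (h.DC h.tD (h.Ds h.tD dS)) hb]
      group
    rw [← cj_eq, hq, show d⁻¹ * (b * e) * t * (d⁻¹ * (b * e))⁻¹ =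
      d⁻¹ * (b * (e * t * e⁻¹) * b⁻¹) * d by group, e1, ← mul_assoc (d * t * d⁻¹), ← e2]
    group
  have qc : q * c = c * q := by
    rw [← cj_eq, hq, show d⁻¹ * (b * e) * c * (d⁻¹ * (b * e))⁻¹ =
      d⁻¹ * (b * (e * c * e⁻¹) * b⁻¹) * d by group, h4 c (mem_zpowers c),
      cj_eq.2 (zp_comm hb (inv_mem (mem_zpowers c))), ← h2 c (mem_zpowers c)]
    group
  have e2 : e = b⁻¹ * (d * q) := by rw [hq]; group
  have c1 : Cl z c0 (d * q) := by
    have := h.del_mul hA h0 hA0 e0 he eS ne (q := 1) (by simp) (by simp) hb (by rwa [mul_one])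
    rwa [mul_one, e2, mul_inv_cancel_left] at this
  have dq : d * q * d⁻¹ = q⁻¹ := by
    have e3 := c1.sq e0
    rw [← hd.sq e0, mul_assoc, mul_right_inj] at e3
    rw [← mul_right_inj q, mul_inv_cancel, ← mul_assoc, e3, mul_inv_cancel]
  have key : q = 1 ∨ q = z := by
    by_contra! hc
    obtain ⟨w, hw, w1, w2⟩ := (h.p2 qS).exists_inv hc.1
    have wz : w ≠ z := fun e => by
      rcases (h.p2 qS).sq_or_gen hw with h5 | h5
      · obtain ⟨v, hv, e5⟩ := exists_sqrt h5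
        exact h.nosq h.tD.2.1 h.tD.2.2 (comm_zp qt.symm hv).symm (e5.symm.trans e)
      · rcases mem_zp_two w2 h5 with e5 | e5
        exacts [hc.1 e5, hc.2 (e5.trans e)]
    have cj : ∀ v ∈ zpowers q, ∀ y ∈ zpowers q, Cl z c0 (d * y) → Cl z c0 (d * (v * v * y)) :=
      fun v hv y hy e => by
        have := e.cj (h.cz _ (inv_mem (zpowers_le.2 qS hv)))
        rwa [← inv_zp dq hv, show d * v * d⁻¹ * (d * y) * (d * v * d⁻¹)⁻¹ =
          d * (v * y * (d * v * d⁻¹)⁻¹) by group, inv_zp dq hv, inv_inv, mul_assoc v,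
          zp_comm hy hv, ← mul_assoc v] at this
    have c2 : Cl z c0 (d * w) := by
      by_cases hs : w ∈ zpowers (q * q)
      · obtain ⟨v, hv, rfl⟩ := exists_sqrt hs
        simpa only [mul_one] using cj v hv 1 (one_mem _) (by rwa [mul_one])
      · obtain ⟨v, hv, e5⟩ := exists_sqrt (nsq_mul hw (inv_mem (mem_zpowers q)) hs
          fun e => hc.1 ((h.p2 qS).eq_one (inv_mem_iff.1 e)))
        rw [mul_inv_eq_iff_eq_mul] at e5
        exact e5 ▸ cj v hv q (mem_zpowers q) c1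
    have dw : d * w = w * d := by
      rw [← cj_eq, inv_zp dq hw, inv_eq_of_mul_eq_one_right w2]
    have d2 := hd.sq e0
    obtain ⟨k, kz, rfl⟩ := hd
    obtain ⟨m, mz, m1, m2⟩ := h.syl_conj (x := c0)
      (fun s hs => conj_zp (h.nC hs (mem_zpowers c)) h0) kz
    generalize k * c0 * k⁻¹ = d at *
    have m3 := m2 _ (mul_mem dS (zpowers_le.2 qS hw)) (by
      rw [cj_eq.2 (show d * w * d = d * (d * w) by rw [mul_assoc, ← dw])]; exact mem_zpowers d)
    have m4 : m * d * m⁻¹ * (m * d * m⁻¹) = z := by rw [conj_mul, d2, cj_eq.2 mz]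
    by_cases hs : m * (d * w) * m⁻¹ ∈ zpowers c
    · rcases h.sqrt hs (zp_trans h0 m1) (((c2.cj mz).sq e0).trans m4.symm) with e5 | e5
      · exact w1 (by simpa using e5)
      · rw [← cj_eq.2 mz, conj_mul] at e5
        exact wz (by simpa using e5)
    · have := (h.del hA h0 hA0 e0 (c2.cj mz) m3 hs).2 _ (zp_trans h0 m1)
      rw [cj_eq.2 (by rw [conj_mul, conj_mul, mul_assoc d, ← dw]), eq_inv_iff_mul_eq_one,
        m4] at this
      exact h.z1 this
  rw [e2]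
  rcases key with rfl | rfl
  · simpa using hb
  · rw [h.cz d dS, mul_assoc, mul_inv_cancel_right]
    exact mul_mem (inv_mem hb) h.zC

end F1

structure F2 (z : G) (E : G → Subgroup G) (S A : Subgroup G) (t g c0 : G) : Prop
    extends F1 z E S t (g * g), HA z E A where
  h0 : c0 ∈ zpowers (g * g)
  e0 : c0 * c0 = z
  A0 : c0 ∈ A
  K0 : c0 ∉ centralizer (A : Set G)
  gS : g ∈ S
  gE : g ∉ E z
  tg : t * g * t⁻¹ = g⁻¹ * z
  cl : ∀ e ∈ S, Cl z c0 e → e ∈ zpowers g ∨ t * e ∈ zpowers g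
  lc : ∀ x ∈ zpowers g, x ∉ zpowers (g * g) → Cl z c0 (t * x)
  nX : ∀ s ∈ S, s * g * s⁻¹ ∈ zpowers g

theorem F1.exists_F2 {z : G} {E : G → Subgroup G} {S A : Subgroup G} {t c : G} (h : F1 z E S t c)
    (hA : HA z E A) : ∃ g c0, F2 z E S A t g c0 := by
  obtain ⟨c0, h0, hA0, K0, e0, a, az, dS, nd⟩ := h.exists_d hA
  have hd : Cl z c0 (a * c0 * a⁻¹) := ⟨a, az, rfl⟩
  have dA := conj_mem_of_mem_normalizer (hA.nA a az) hA0
  generalize a * c0 * a⁻¹ = d at *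
  obtain ⟨h1, h2⟩ := h.del hA h0 hA0 e0 hd dS nd
  have wC := h.DC h.tD (h.Ds h.tD dS)
  have gen := (h.c2.sq_or_gen wC).resolve_left h1
  have d2 := hd.sq e0
  have g2 : t * d * (t * d) = t * (d * t * d⁻¹) * z := by rw [← d2]; group
  have eC : zpowers (t * d * (t * d)) = zpowers c := by
    refine le_antisymm (zpowers_le.2 (g2 ▸ mul_mem wC h.zC)) (zpowers_le.2 (zp_trans ?_ gen))
    generalize t * (d * t * d⁻¹) = w at *
    have e1 : w * z * (w * z) = w * w := by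
      rw [mul_assoc, ← mul_assoc z, ← h.cz w (h.cS wC), mul_assoc, h.z2, mul_one]
    have h3 := h.c2.four_mem (mul_mem wC h.zC) h0 (fun e => h.z1 (by
      have := sq_mem_sq (zp_trans gen h0)
      rwa [← e1, e, zpowers_one_eq_bot, mem_bot, e0] at this)) (by rw [e0, h.z2])
    rw [g2]
    have h4 := mul_mem h3 h3
    rw [e0] at h4
    exact (mul_mem_cancel_right h4).1 (mem_zpowers _)
  have CX : ∀ x ∈ zpowers c, x ∈ zpowers (t * d) := fun x hx => zp_trans sq_mem (eC ▸ hx)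
  have dl : ∀ s e : G, D z S s → Cl z c0 e → e ∈ S → e ∉ zpowers c → s * e ∈ zpowers (t * d) :=
    fun s e hs he eS ne => by
      rw [show s * e = s * (e * d⁻¹) * t⁻¹ * (t * d) by group, h.ti]
      exact mul_mem (CX _ (h.DC (h.Dm hs (h.del_coset hA h0 hA0 e0 hd dS nd he eS ne)) h.tD))
        (mem_zpowers _)
  refine ⟨t * d, c0, ⟨h.toHs, h.tD, by rw [eC]; exact h.hc⟩, hA, eC ▸ h0, e0, hA0, K0,
    mul_mem h.tD.1 dS, fun e => h.notE h.tD ((mul_mem_cancel_right (hA.Az dA)).1 e), ?_,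
    fun e eS he => ?_, fun x hx nx => ?_, fun s hs => ?_⟩
  · rw [h.tt, mul_inv_rev, mul_assoc, ← h.cz _ (inv_mem h.tD.1) |>.symm, ← d2]
    group
  · by_cases ne : e ∈ zpowers c
    exacts [Or.inl (CX e ne), Or.inr (dl t e h.tD he eS ne)]
  · have h3 := nsq_mul hx (inv_mem (mem_zpowers (t * d))) nx fun e => nd (by
      have := ((h.p2 (mul_mem h.tD.1 dS)).eq_one (inv_mem_iff.1 e))
      rw [this, mul_one, zpowers_one_eq_bot, eq_comm, zpowers_eq_bot] at eC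
      exact absurd (by simpa [eC] using h.zC) h.z1)
    rw [eC] at h3
    have := h.del_mul hA h0 hA0 e0 hd dS nd (q := 1) (by simp) (by simp) (inv_mem h3)
      (by rwa [mul_one])
    rwa [← h.tx h3, h.ti, mul_one, show t * (x * (t * d)⁻¹) * t * d = t * x by group] at this
  · rw [← conj_mul]
    exact dl _ _ (h.Ds h.tD hs) (hd.cj (h.cz s hs)) (mul_mem (mul_mem hs dS) (inv_mem hs))
      fun e => nd (by simpa [mul_assoc] using h.nC (inv_mem hs) e)

end Cfsg.Agent.H59.Std
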