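/-
The semidihedral subgroup and its centraliser in the complement are strongly closed.
-/
import Cfsg.Agent.H59.StdB

set_option autoImplicit false

namespace Cfsg.Agent.H59.Std

open Cfsg Subgroup H42

variable {G : Type*} [Group G]

namespace F2

variable {z : G} {E : G → Subgroup G} {S A : Subgroup G} {t g c0 : G} (h : F2 z E S A t g c0)
include h

theorem g2 : P2 g := h.p2 h.gS
theorem XS {x : G} (hx : x ∈ zpowers g) : x ∈ S := zpowers_le.2 h.gS hx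
theorem c0X : c0 ∈ zpowers g := zp_trans sq_mem h.h0
theorem zX : z ∈ zpowers g := zp_trans sq_mem h.zC
theorem c04 : c0 * c0 * (c0 * c0) = 1 := by rw [h.e0, h.z2]
theorem c0i : c0⁻¹ = c0 * z := by rw [inv_eq_iff_mul_eq_one, ← mul_assoc, h.e0, h.z2]
theorem c0ne : c0⁻¹ ≠ c0 := fun e => h.z1 (by rw [← h.e0, ← mul_inv_cancel c0, e])
theorem XE {x : G} (hx : x ∈ zpowers g) (e : x ∈ E z) : x ∈ zpowers (g * g) :=
  (h.g2.sq_or_gen hx).resolve_right fun c => h.gE (zpowers_le.2 e c)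
theorem gC : g⁻¹ ∉ zpowers (g * g) := fun e => h.gE (inv_mem_iff.1 (h.cE e))
theorem zE : z ∉ E t := fun e => h.tD.2.2 (h.iso h.tD.2.1 (IsConj.refl z) e).symm
theorem uqX {x : G} (hx : x ∈ zpowers g) (x2 : x * x = 1) : x = 1 ∨ x = z :=
  h.g2.uniq hx h.zX x2 h.z2 h.z1

theorem root0 {x : G} (hx : x ∈ zpowers g) (x2 : x * x = z) : x = c0 ∨ x = c0 * z := by
  rcases h.uqX (mul_mem (inv_mem h.c0X) hx) (by
    rw [mul_assoc, ← mul_assoc x, zp_comm hx (inv_mem h.c0X), mul_assoc, x2, ← h.e0]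
    group) with e1 | e1
  exacts [Or.inl (inv_mul_eq_one.1 e1).symm, Or.inr (inv_mul_eq_iff_eq_mul.1 e1)]

theorem comm0 {x y : G} (hx : x ∈ zpowers g) (x2 : x * x = z) (c : y * x = x * y) :
    y * c0 = c0 * y :=
  comm_zp c (h.g2.four_mem hx h.c0X (x2 ▸ h.z1) h.c04)

theorem tX' {x : G} (hx : x ∈ zpowers g) (nx : x ∉ zpowers (g * g)) : t * x * t⁻¹ = x⁻¹ * z := by
  have hb := nsq_mul hx (inv_mem (mem_zpowers g)) nx h.gC
  rw [show t * x * t⁻¹ = t * (x * g⁻¹) * t⁻¹ * (t * g * t⁻¹) by group, h.tx hb, h.tg,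
    ← zp_comm (inv_mem (mem_zpowers g)) hx]
  rw [mul_inv_rev, inv_inv, mul_assoc, mul_inv_cancel_left]

theorem tX {x : G} (hx : x ∈ zpowers g) : t * x * t⁻¹ = x⁻¹ ∨ t * x * t⁻¹ = x⁻¹ * z := by
  by_cases c : x ∈ zpowers (g * g)
  exacts [Or.inl (h.tx c), Or.inr (h.tX' hx c)]

theorem nsqX {x : G} (hx : x ∈ zpowers g) (nx : x ∉ zpowers (g * g)) :
    x * x * (x * x) ≠ 1 := fun e => by
  rcases mem_zp_two e (zp_trans (sq_mem_sq ((h.g2.sq_or_gen hx).resolve_left nx)) h.h0)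
    with e1 | e1
  · exact h.z1 (by rw [← h.e0, e1, one_mul])
  · exact h.z1 (by rw [← h.e0, e1, e])

variable [Finite G]

theorem mem_Sg {x : G} : x ∈ zpowers t ⊔ zpowers g ↔ x ∈ zpowers g ∨ t * x ∈ zpowers g := by
  constructor
  · intro hx
    obtain ⟨s, hs, y, hy, rfl⟩ := exists_mul_of_mem_sup (zpowers_le.2
      (mem_normalizer_of_conj_mem fun y hy => zp_trans hy (conj_zp (h.nX t h.tD.1) hy))) hx
    rcases mem_zp_two h.t2 hs with rfl | rfl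
    exacts [Or.inl (by rwa [one_mul]), Or.inr (by rwa [h.tt])]
  · rintro (hx | hx)
    exacts [mem_sup_right hx, h.tt x ▸ mul_mem (mem_sup_left (mem_zpowers t)) (mem_sup_right hx)]

omit [Finite G] in
theorem SgS : zpowers t ⊔ zpowers g ≤ S := sup_le (zpowers_le.2 h.tD.1) (zpowers_le.2 h.gS)

theorem clS {e : G} (eS : e ∈ S) (he : Cl z c0 e) : e ∈ zpowers t ⊔ zpowers g :=
  h.mem_Sg.2 (h.cl e eS he)

theorem zS' {u : G} (uS : u ∈ S) (hu : IsConj z u) : u ∈ zpowers t ⊔ zpowers g := by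
  by_cases e : u = z
  · exact e ▸ mem_sup_right h.zX
  · exact h.mem_Sg.2 (Or.inr (zp_trans sq_mem ((h.hc u).1 ⟨uS, hu, e⟩)))

theorem nSg {s x : G} (hs : s ∈ S) (hx : x ∈ zpowers t ⊔ zpowers g) :
    s * x * s⁻¹ ∈ zpowers t ⊔ zpowers g := by
  rcases h.mem_Sg.1 hx with e | e
  · exact mem_sup_right (zp_trans e (conj_zp (h.nX s hs) e))
  · rw [← h.tt x, ← conj_mul]
    exact mul_mem (h.zS' (h.Ds h.tD hs).1 (h.Ds h.tD hs).2.1)
      (mem_sup_right (zp_trans e (conj_zp (h.nX s hs) e)))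

theorem X_of {x : G} (hx : x ∈ zpowers t ⊔ zpowers g) (c : x * c0 = c0 * x) : x ∈ zpowers g := by
  refine (h.mem_Sg.1 hx).resolve_right fun e => h.c0ne ?_
  rw [← h.tx h.h0, cj_eq, ← mul_left_inj x, mul_assoc, ← c, ← mul_assoc, zp_comm e h.c0X, mul_assoc]

omit [Finite G] in
theorem gt : g * t * g⁻¹ = t * ((g * g)⁻¹ * z) := by
  rw [← h.tt (g * t * g⁻¹), show t * (g * t * g⁻¹) = t * g * t⁻¹ * (t * t) * g⁻¹ by group, h.tg,
    h.t2, mul_one, mul_assoc, ← h.cz _ (inv_mem h.gS)]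
  group

omit [Finite G] in
theorem wn : (g * g)⁻¹ * z ∉ zpowers (g * g * (g * g)) := fun e => h.z1 (by
  have := h.c2.eq_one (inv_mem_iff.1 ((mul_mem_cancel_right (h.e0 ▸ sq_mem_sq h.h0)).1 e))
  simpa [this] using h.zC)

omit [Finite G] in
theorem mv' {x : G} (hx : x ∈ zpowers (g * g)) (nx : x ∉ zpowers (g * g * (g * g))) :
    ∃ b ∈ zpowers (g * g), b * g * t * (b * g)⁻¹ = t * x := by
  have wC := mul_mem (inv_mem (mem_zpowers (g * g))) h.zC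
  obtain ⟨b, hb, e⟩ := exists_sqrt (nsq_mul hx (inv_mem wC) nx (by rw [inv_mem_iff]; exact h.wn))
  refine ⟨b⁻¹, inv_mem hb, ?_⟩
  rw [mul_inv_eq_iff_eq_mul] at e
  rw [show b⁻¹ * g * t * (b⁻¹ * g)⁻¹ = b⁻¹ * (g * t * g⁻¹) * b by group, h.gt, ← mul_assoc b⁻¹,
    h.tb hb, mul_assoc, zp_comm wC hb, e]
  group

omit [Finite G] in
theorem mv {x : G} (hx : x ∈ zpowers (g * g)) : ∃ y ∈ zpowers g, y * t * y⁻¹ = t * x := by
  by_cases c : x ∈ zpowers (g * g * (g * g))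
  · obtain ⟨b, hb, rfl⟩ := exists_sqrt c
    exact ⟨b⁻¹, inv_mem (zp_trans sq_mem hb), by rw [h.tb hb]; group⟩
  · obtain ⟨b, hb, e⟩ := h.mv' hx c
    exact ⟨_, mul_mem (zp_trans sq_mem hb) (mem_zpowers g), e⟩

omit [Finite G] in
theorem dec {s : G} (hs : s ∈ S) :
    ∃ σ ∈ zpowers t ⊔ zpowers g, ∃ e ∈ S ⊓ E z ⊓ E t, s = σ * e := by
  obtain ⟨y, hy, e⟩ := h.mv (h.DC h.tD (h.Ds h.tD hs))
  rw [h.tt] at e
  have k2 : ∀ q ∈ S, q * t = t * q → q ∈ E z →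
      ∃ σ ∈ zpowers t ⊔ zpowers g, ∃ e ∈ S ⊓ E z ⊓ E t, q = σ * e := fun q qS qt qE => by
    by_cases c : q ∈ E t
    · exact ⟨1, one_mem _, q, ⟨⟨qS, qE⟩, c⟩, (one_mul q).symm⟩
    · exact ⟨z, mem_sup_right h.zX, z * q, ⟨⟨mul_mem h.zS qS, mul_mem (h.self (IsConj.refl z)) qE⟩,
        h.mul h.tD.2.1 (h.cz t h.tD.1).symm qt h.zE c⟩, by rw [← mul_assoc, h.z2, one_mul]⟩
  have qS := mul_mem (inv_mem (h.XS hy)) hs
  have qt : y⁻¹ * s * t = t * (y⁻¹ * s) := by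
    rw [← cj_eq, show y⁻¹ * s * t * (y⁻¹ * s)⁻¹ = y⁻¹ * (s * t * s⁻¹) * y by group, ← e]; group
  by_cases c : y⁻¹ * s ∈ E z
  · obtain ⟨σ, h1, e, h2, h3⟩ := k2 _ qS qt c
    exact ⟨y * σ, mul_mem (mem_sup_right hy) h1, e, h2, by rw [mul_assoc, ← h3]; group⟩
  · obtain ⟨σ, h1, e, h2, h3⟩ := k2 _ (mul_mem h.tD.1 qS) (by rw [mul_assoc, qt])
      (h.mul (IsConj.refl z) (h.cz t h.tD.1) (h.cz _ qS) (h.notE h.tD) c)
    exact ⟨y * (t * σ), mul_mem (mem_sup_right hy) (mul_mem (mem_sup_left (mem_zpowers t)) h1),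
      e, h2, by rw [mul_assoc, mul_assoc, ← h3, h.tt]; group⟩

theorem disj {e : G} (he : e ∈ S ⊓ E z ⊓ E t) (hs : e ∈ zpowers t ⊔ zpowers g) : e = 1 := by
  have et := h.cm he.2
  rcases h.mem_Sg.1 hs with c | c
  · have h1 := h.tx (h.XE c he.1.2)
    rw [← et, mul_inv_cancel_right, eq_inv_iff_mul_eq_one] at h1
    exact (h.uqX c h1).resolve_right fun e1 => h.zE (e1 ▸ he.2)
  · have h1 := h.tX' c fun e1 => h.notE h.tD (((E z).mul_mem_cancel_right he.1.2).1 (h.cE e1))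
    have h2 : t * e * t = t * (t * e) := by rw [mul_assoc, et]
    rw [← h2, mul_inv_cancel_right, eq_inv_mul_iff_mul_eq] at h1
    exact absurd h1 (h.nosq h.tD.2.1 h.tD.2.2 h2)

omit [Finite G] in
theorem Ec0 {e : G} (he : e ∈ S ⊓ E z ⊓ E t) : e * c0 = c0 * e :=
  h.mu h.h0 h.e0 he.1.1 (h.cm he.2) he.1.2

omit [Finite G] in
theorem Eact {e x : G} (he : e ∈ S ⊓ E z ⊓ E t) (e2 : e * e * g = g * (e * e))
    (hx : x ∈ zpowers g) : e * x * e⁻¹ = x ∨ e * x * e⁻¹ = x * z :=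
  h.g2.act (h.nX e he.1.1) e2 h.c0X h.e0 h.z2 h.z1 (h.Ec0 he) hx

omit [Finite G] in
theorem EC {e x : G} (he : e ∈ S ⊓ E z ⊓ E t) (e2 : e * e * g = g * (e * e))
    (hx : x ∈ zpowers (g * g)) : e * x * e⁻¹ = x := by
  obtain ⟨b, hb, rfl⟩ := exists_sqrt hx
  rw [← conj_mul]
  rcases h.Eact he e2 hb with e1 | e1 <;> rw [e1]
  rw [mul_assoc, ← mul_assoc z, ← h.cz b (h.XS hb), mul_assoc, h.z2, mul_one]

theorem closedX {x k : G} (hx : x ∈ zpowers g) (hk : k * x * k⁻¹ ∈ S) :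
    k * x * k⁻¹ ∈ zpowers t ⊔ zpowers g := by
  obtain ⟨n, hn⟩ := h.g2.zp hx
  induction n generalizing x with
  | zero => rw [(by simpa using hn : x = 1)]; simp
  | succ n ih =>
    have h1 := ih (mul_mem hx hx) (by rw [← conj_mul]; exact mul_mem hk hk)
      (by rw [← pow_two, ← pow_mul, ← pow_succ', hn])
    by_cases x2 : x * x = 1
    · rcases h.uqX hx x2 with rfl | rfl
      exacts [by simp, h.zS' hk (isC_cj (IsConj.refl _) k)]
    have h2 := conj_zp' (k := k) (h.g2.four_mem hx h.c0X x2 h.c04)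
    have kz : k * z = z * k := h.fix_z h.e0 (h.cz _ (zpowers_le.2 hk h2))
    by_cases x4 : x * x * (x * x) = 1
    · rcases h.root0 hx ((h.uqX (mul_mem hx hx) x4).resolve_left x2) with rfl | rfl
      · exact h.clS hk ⟨k, kz, rfl⟩
      · refine h.clS hk (Cl.cj ⟨t, h.cz t h.tD.1, ?_⟩ kz)
        rw [h.tx h.h0, h.c0i]
    have h3 := conj_zp' (k := k) (h.g2.four_mem (mul_mem hx hx) h.c0X x4 h.c04)
    have e3 : k * c0 * k⁻¹ * (k * c0 * k⁻¹) = z := by rw [conj_mul, h.e0, cj_eq.2 kz]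
    have zx : z ∈ zpowers (k * x * k⁻¹) := e3 ▸ mul_mem h2 h2
    obtain ⟨m, mz, m1, m2⟩ := h.syl_conj (x := x) (fun s hs => conj_zp (h.nX s hs) hx) kz
    have c3 := h.clS (zpowers_le.2 hk h2) ⟨k, kz, rfl⟩
    rw [← conj_mul] at h1 h3
    generalize k * x * k⁻¹ = y at *
    have h4 : c0 * (y * y) = y * y * c0 := by
      rw [eq_comm, ← cj_eq, show y * y * c0 * (y * y)⁻¹ = y * (y * c0 * y⁻¹) * y⁻¹ by group]
      rcases h.act0 h.h0 h.e0 hk with e | e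
      · rw [e, e]
      · rw [e, ← conj_mul, e, cj_eq.2 (h.cz y hk), mul_assoc, h.z2, mul_one]
    have h5 := h.comm0 (h.X_of c3 (comm_zp h4 h3).symm) e3 (comm_zp rfl h2)
    obtain ⟨σ, hσ, e, he, rfl⟩ := h.dec hk
    have σX := h.X_of hσ (by
      rw [mul_assoc, h.Ec0 he, ← mul_assoc, ← mul_assoc, mul_left_inj] at h5; exact h5)
    have e2 : e * e = 1 := h.disj (mul_mem he he) (by
      rw [show σ * e * (σ * e) = σ * (e * σ * e⁻¹) * (e * e) by group] at h1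
      exact (mul_mem_cancel_left (mul_mem hσ (h.nSg he.1.1 hσ))).1 h1)
    have h6 : t * (σ * e) * t⁻¹ ∈ zpowers (σ * e) := by
      have a1 : (σ * e)⁻¹ = e * σ⁻¹ * e⁻¹ * e := by
        rw [inv_mul_cancel_right, mul_inv_rev, inv_eq_of_mul_eq_one_right e2]
      have a2 : σ⁻¹ * e ∈ zpowers (σ * e) := by
        rcases h.Eact he (by rw [e2, one_mul, mul_one]) (inv_mem σX) with a3 | a3 <;>
          rw [a3] at a1
        · exact a1 ▸ inv_mem (mem_zpowers _)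
        · rw [mul_assoc, ← h.cz e he.1.1, ← mul_assoc] at a1
          exact (mul_mem_cancel_right zx).1 (a1 ▸ inv_mem (mem_zpowers _))
      rw [← conj_mul, cj_eq.2 (h.cm he.2).symm]
      rcases h.tX σX with a3 | a3 <;> rw [a3]
      · exact a2
      · rw [mul_assoc, ← h.cz e he.1.1, ← mul_assoc]
        exact mul_mem a2 zx
    have tD := h.Dcj h.tD mz (m2 t h.tD.1 h6)
    have h7 := mul_mem (zp_trans sq_mem (h.DC h.tD tD)) (zp_trans hx m1)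
    have tS := mul_mem h.tD.1 hk
    have e8 : m⁻¹ * (t * (t * (m * t * m⁻¹) * (m * (σ * e) * m⁻¹))) * m⁻¹⁻¹ = t * (σ * e) := by
      rw [mul_assoc t (m * t * m⁻¹), h.tt]; group
    refine (mul_mem_cancel_left (mem_sup_left (mem_zpowers t))).1 ?_
    by_cases c : t * (m * t * m⁻¹) * (m * (σ * e) * m⁻¹) ∈ zpowers (g * g)
    · exact h.zS' tS (e8 ▸ isC_cj (h.Dt c).2.1 m⁻¹)
    · exact h.clS tS (e8 ▸ (h.lc _ h7 c).cj (show Commute m z from mz).inv_left)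

theorem closed {x k : G} (hx : x ∈ zpowers t ⊔ zpowers g) (hk : k * x * k⁻¹ ∈ S) :
    k * x * k⁻¹ ∈ zpowers t ⊔ zpowers g := by
  rcases h.mem_Sg.1 hx with e | e
  · exact h.closedX e hk
  by_cases c : t * x ∈ zpowers (g * g)
  · exact h.zS' hk (isC_cj (h.tt x ▸ (h.Dt c).2.1) k)
  · have := h.lc _ e c
    rw [h.tt] at this
    exact h.clS hk (this.cj (h.fix_z (this.sq h.e0) (h.cz _ hk)))

theorem Zcomm {y σ : G} (hy : y ∈ S ⊓ E z ⊓ E t ⊓ centralizer {g})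
    (hσ : σ ∈ zpowers t ⊔ zpowers g) : y * σ = σ * y := by
  have yg := mem_centralizer_singleton_iff.1 hy.2
  rcases h.mem_Sg.1 hσ with e | e
  · exact comm_zp yg e
  · rw [← h.tt σ]
    exact Commute.mul_right (h.cm hy.1.2) (comm_zp yg e)

theorem caseA {y k : G} (hy : y ∈ S ⊓ E z ⊓ E t ⊓ centralizer {g}) {x : G} (ex : x = k * y * k⁻¹)
    (xS : x ∈ S) (xE : x ∈ E z) (xt : x * t = t * x)
    (xC : ∀ b ∈ zpowers (g * g), x * b = b * x) (xg : x * g * x⁻¹ = g ∨ x * g * x⁻¹ = g * z) :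
    x ∈ S ⊓ E z ⊓ E t ⊓ centralizer {g} := by
  obtain ⟨P, hP, RP⟩ := exists_sylIn (p := 2) (R := cj k (zpowers t ⊔ zpowers g))
    (H := centralizer {x}) (isPGroup_cj k (h.syl.isP.to_le h.SgS)) (cj_le_iff.2 fun σ hσ =>
      mem_centralizer_singleton_iff.2 (by rw [ex, conj_mul, conj_mul, h.Zcomm hy hσ]))
  obtain ⟨n, hn, n1⟩ := hP.exists_conj (R := S ⊓ centralizer {x}) (h.syl.isP.to_le inf_le_left)
    inf_le_right
  obtain ⟨m, -, m1⟩ := h.syl.exists_conj hP.isP le_top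
  have mk : m * k ∈ normalizer ((zpowers t ⊔ zpowers g : Subgroup G) : Set G) :=
    mem_normalizer_of_conj_mem fun σ hσ => h.closed hσ (by
      simpa [mul_assoc] using m1 _ (RP (conj_mem_cj hσ)))
  obtain ⟨j, hj⟩ : ∃ j, j = k⁻¹ * n := ⟨_, rfl⟩
  have jx : j * x * j⁻¹ = y := by
    rw [hj, show k⁻¹ * n * x * (k⁻¹ * n)⁻¹ = k⁻¹ * (n * x * n⁻¹) * k by group,
      cj_eq.2 (mem_centralizer_singleton_iff.1 hn), ex]
    group
  have j1 : ∀ r ∈ zpowers t ⊔ zpowers g, x * r = r * x → j * r * j⁻¹ ∈ S := fun r hr c => by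
    have := conj_mem_of_mem_normalizer (inv_mem mk) (h.closed (k := m * n) hr (by
      simpa [mul_assoc] using m1 _ (n1 r ⟨h.SgS hr, mem_centralizer_singleton_iff.2 c.symm⟩)))
    exact h.SgS (by simpa [hj, mul_assoc] using this)
  have jz : j * z = z * j := h.fix_z h.e0 (h.cz _ (j1 _ (mem_sup_right h.c0X) (xC _ h.h0)))
  have jD : ∀ b ∈ zpowers (g * g), D z S (j * (t * b) * j⁻¹) := fun b hb =>
    h.Dcj (h.Dt hb) jz (j1 _ (h.zS' (h.Dt hb).1 (h.Dt hb).2.1) (Commute.mul_right xt (xC b hb)))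
  have jt : D z S (j * t * j⁻¹) := by simpa only [mul_one] using jD 1 (one_mem _)
  have jC : j ∈ normalizer (zpowers (g * g) : Set G) := mem_normalizer_of_conj_mem fun b hb => by
    have := h.DC jt (jD b hb)
    rwa [conj_mul, h.tt] at this
  have bC := h.DC h.tD jt
  refine ⟨⟨⟨xS, xE⟩, ?_⟩, mem_centralizer_singleton_iff.2 (cj_eq.1 (xg.resolve_right fun e => ?_))⟩
  · obtain ⟨σ, hσ, e⟩ := h.mv bC
    have := h.conj j⁻¹ (h.conj σ hy.1.2)
    rwa [e, h.tt, cj_eq.2 (h.Zcomm hy (mem_sup_right hσ)).symm, ← jx,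
      show j⁻¹ * (j * x * j⁻¹) * j⁻¹⁻¹ = x by group,
      show j⁻¹ * (j * t * j⁻¹) * j⁻¹⁻¹ = t by group] at this
  have wC := mul_mem (inv_mem (mem_zpowers (g * g))) h.zC
  obtain ⟨b, hb, e1⟩ := h.mv' (conj_mem_of_mem_normalizer (inv_mem jC) wC) fun c => h.wn (by
    obtain ⟨b, hb, e1⟩ := exists_sqrt c
    have := sq_mem_sq (conj_mem_of_mem_normalizer jC hb)
    rwa [conj_mul, ← e1, show j * (j⁻¹ * ((g * g)⁻¹ * z) * j⁻¹⁻¹) * j⁻¹ = (g * g)⁻¹ * z by group]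
      at this)
  have e2 : g * (j * t * j⁻¹) * g⁻¹ = j * t * j⁻¹ * ((g * g)⁻¹ * z) := by
    rw [← h.tt (j * t * j⁻¹), ← conj_mul, h.gt,
      cj_eq.2 (zp_comm (mem_zpowers g) (zp_trans sq_mem bC)), mul_assoc t, zp_comm wC bC,
      ← mul_assoc]
  refine h.nocomm h.tD.2.1 h.tD.2.2 xt (y := (b * g)⁻¹ * (j⁻¹ * g * j)) ?_ ?_
  · rw [← cj_eq, show (b * g)⁻¹ * (j⁻¹ * g * j) * t * ((b * g)⁻¹ * (j⁻¹ * g * j))⁻¹ =
      (b * g)⁻¹ * (j⁻¹ * (g * (j * t * j⁻¹) * g⁻¹) * j) * (b * g) by group, e2,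
      show j⁻¹ * (j * t * j⁻¹ * ((g * g)⁻¹ * z)) * j = t * (j⁻¹ * ((g * g)⁻¹ * z) * j⁻¹⁻¹) by group,
      ← e1]
    group
  · have yg := mem_centralizer_singleton_iff.1 hy.2
    have c1 : Commute (j⁻¹ * g * j) z :=
      ((show Commute j z from jz).inv_left.mul_left (h.cz g h.gS)).mul_left jz
    rw [show x * ((b * g)⁻¹ * (j⁻¹ * g * j)) * x⁻¹ = (x * b * x⁻¹ * (x * g * x⁻¹))⁻¹ *
      (j⁻¹ * (j * x * j⁻¹ * g * (j * x * j⁻¹)⁻¹) * j) by group, jx, cj_eq.2 yg, e,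
      cj_eq.2 (xC b hb), mul_assoc _ _ z, c1.eq, ← mul_assoc b, mul_inv_rev, h.zi,
      ← h.cz _ (inv_mem (mul_mem (h.cS hb) h.gS)), mul_assoc]

theorem split {σ e : G} (hσ : σ ∈ zpowers t ⊔ zpowers g) (he : e ∈ S ⊓ E z ⊓ E t)
    (h2 : σ * e * (σ * e) ∈ S ⊓ E z ⊓ E t ⊓ centralizer {g}) :
    e * σ * e⁻¹ = σ⁻¹ ∧ e * e * g = g * (e * e) := by
  have e1 : σ * e * (σ * e) = σ * (e * σ * e⁻¹) * (e * e) := by group
  have e2 := h.disj ((mul_mem_cancel_right (mul_mem he he)).1 (e1 ▸ h2.1))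
    (mul_mem hσ (h.nSg he.1.1 hσ))
  rw [e1, e2, one_mul] at h2
  exact ⟨eq_inv_of_mul_eq_one_right e2, mem_centralizer_singleton_iff.1 h2.2⟩

theorem closedZ {y k : G} (hy : y ∈ S ⊓ E z ⊓ E t ⊓ centralizer {g}) (hk : k * y * k⁻¹ ∈ S) :
    k * y * k⁻¹ ∈ S ⊓ E z ⊓ E t ⊓ centralizer {g} := by
  obtain ⟨n, hn⟩ := h.p2 hy.1.1.1
  induction n generalizing y k with
  | zero => rw [(by simpa using hn : y = 1)]; simp
  | succ n ih =>
    have ih' : ∀ {k x : G}, x = k * y * k⁻¹ → x ∈ S → x * x ∈ S ⊓ E z ⊓ E t ⊓ centralizer {g} :=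
      fun {k x} ex xS => by
        subst ex
        rw [conj_mul]
        exact ih (mul_mem hy hy) (by rw [← conj_mul]; exact mul_mem xS xS)
          (by rw [← pow_two, ← pow_mul, ← pow_succ', hn])
    have B : ∀ {k x : G}, x = k * y * k⁻¹ → x ∈ S → x ∈ E z → x * c0 = c0 * x →
        x ∈ S ⊓ E z ⊓ E t ⊓ centralizer {g} := fun {k x} ex xS xE xc => by
      obtain ⟨σ, hσ, e, he, rfl⟩ := h.dec xS
      obtain ⟨e1, e2⟩ := h.split hσ he (ih' ex xS)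
      have σC := h.XE (h.X_of hσ (by
        rw [mul_assoc, h.Ec0 he, ← mul_assoc, ← mul_assoc, mul_left_inj] at xc; exact xc))
        (((E z).mul_mem_cancel_right he.1.2).1 xE)
      rw [h.EC he e2 σC, eq_inv_iff_mul_eq_one] at e1
      have σc : ∀ s ∈ S, σ * s = s * σ := fun s hs => by
        rcases h.uq σC e1 with rfl | rfl
        exacts [by simp, (h.cz s hs).symm]
      refine h.caseA hy ex xS xE (Commute.mul_left (σc t h.tD.1) (h.cm he.2))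
        (fun b hb => Commute.mul_left (σc b (h.cS hb)) (cj_eq.1 (h.EC he e2 hb))) ?_
      rw [show σ * e * g * (σ * e)⁻¹ = σ * (e * g * e⁻¹) * σ⁻¹ by group,
        cj_eq.2 (σc _ (h.XS (h.nX e he.1.1)))]
      exact h.Eact he e2 (mem_zpowers g)
    obtain ⟨x, ex⟩ : ∃ x, x = k * y * k⁻¹ := ⟨_, rfl⟩
    rw [← ex] at hk ⊢
    obtain ⟨σ, hσ, e, he, rfl⟩ := h.dec hk
    obtain ⟨e1, e2⟩ := h.split hσ he (ih' ex hk)
    rcases h.mem_Sg.1 hσ with c | c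
    · by_cases c1 : σ ∈ zpowers (g * g)
      · exact B ex hk (mul_mem (h.cE c1) he.1.2)
          (Commute.mul_left (zp_comm c h.c0X) (h.Ec0 he))
      · refine absurd ?_ (h.nsqX c c1)
        rcases h.Eact he e2 c with e3 | e3 <;> rw [e1, inv_eq_iff_mul_eq_one] at e3
        · rw [e3, one_mul]
        · rw [← mul_assoc, mul_eq_one_iff_eq_inv, h.zi] at e3
          rw [e3, h.z2]
    exfalso
    by_cases c1 : t * σ ∈ zpowers (g * g)
    · obtain ⟨v, hv, e3⟩ := h.mv c1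
      rw [h.tt] at e3
      obtain ⟨r, hr, h1⟩ := h.root h.tD.2.1 (P := S ⊓ centralizer {t})
        (h.syl.isP.to_le inf_le_left) fun x hx => mem_centralizer_singleton_iff.1 hx.2
      have r1 := (h1 e ⟨he.1.1, mem_centralizer_singleton_iff.2 (h.cm he.2)⟩).1 he.2
      have r2 := h.root_conj h.tD.2.1 (IsConj.refl z) hr
        ((h1 z ⟨h.zS, mem_centralizer_singleton_iff.2 (h.cz t h.tD.1).symm⟩).2 h.zE)
      have r3 := h.root_conj (IsConj.refl z) h.tD.2.1 h.e0 (h.tx h.h0)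
      have fin : ∀ m : G, t * z * e = m * (σ * e) * m⁻¹ → False := fun m e4 =>
        h.zE (((E t).mul_mem_cancel_right he.2).1 (B (k := r⁻¹ * m * k) (x := z * e) (by
          rw [show r⁻¹ * m * k * y * (r⁻¹ * m * k)⁻¹ = r⁻¹ * (m * (k * y * k⁻¹) * m⁻¹) * r by group,
            ← ex, ← e4, h.cz t h.tD.1, ← r2, show r⁻¹ * (r * z * r⁻¹ * e) * r =
              z * (r⁻¹ * (e * r)) by group, r1, inv_mul_cancel_left]) (mul_mem h.zS he.1.1) (mul_mem (h.self (IsConj.refl z)) he.1.2)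
          (Commute.mul_left (h.cz _ (h.XS h.c0X)).symm (h.Ec0 he))).1.2)
      have e5 : v⁻¹ * (σ * e) * v⁻¹⁻¹ = t * (v⁻¹ * (e * v * e⁻¹)) * e := by rw [← e3]; group
      rcases h.Eact he e2 hv with e4 | e4 <;> rw [e4] at e5
      · refine fin (c0 * v⁻¹) ?_
        rw [show c0 * v⁻¹ * (σ * e) * (c0 * v⁻¹)⁻¹ = c0 * (v⁻¹ * (σ * e) * v⁻¹⁻¹) * c0⁻¹ by group,
          e5, inv_mul_cancel, mul_one, ← conj_mul, r3, cj_eq.2 (h.Ec0 he).symm]
      · exact fin v⁻¹ (by rw [e5, inv_mul_cancel_left])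
    · have σ2 := (h.lc _ c c1).sq h.e0
      rw [h.tt] at σ2
      have σS := h.SgS hσ
      have s1 : σ * c0 * σ⁻¹ = c0⁻¹ := by
        rw [← h.tt σ, show t * (t * σ) * c0 * (t * (t * σ))⁻¹ =
          t * (t * σ * c0 * (t * σ)⁻¹) * t⁻¹ by group, cj_eq.2 (zp_comm c h.c0X), h.tx h.h0]
      have s2 : σ * e * c0 * (σ * e)⁻¹ = c0⁻¹ := by
        rw [← s1, mul_assoc σ e, h.Ec0 he]; group
      have s3 := h.lc _ (mul_mem c h.c0X) fun e => c1 ((mul_mem_cancel_right h.h0).1 e)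
      rw [mul_assoc, h.tt] at s3
      have d2 := s3.sq h.e0
      have s4 : σ * e * (σ * c0) = σ * c0 * (σ * e) := by
        rw [← cj_eq, ← conj_mul, s2, show σ * e * σ * (σ * e)⁻¹ = σ * (e * σ * e⁻¹) * σ⁻¹ by group,
          e1, mul_inv_cancel, one_mul, ← mul_inv_rev, inv_eq_iff_mul_eq_one, mul_assoc,
          ← mul_assoc σ, σ2, ← h.cz _ (h.XS h.c0X), ← mul_assoc, h.e0, h.z2]
      have s5 : c0 * (σ * c0) * c0⁻¹ = (σ * c0)⁻¹ := by
        rw [eq_inv_iff_mul_eq_one, show c0 * (σ * c0) * c0⁻¹ * (σ * c0) = c0 * (σ * σ) * c0 by group,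
          σ2, h.cz _ (h.XS h.c0X), mul_assoc, h.e0, h.z2]
      obtain ⟨k', kz, e3⟩ := s3
      obtain ⟨m, mz, m1, m2⟩ := h.syl_conj (x := c0)
        (fun s hs => conj_zp (h.nX s hs) h.c0X) kz
      rw [← e3] at m1 m2
      have m3 := B (k := m * k) (x := m * (σ * e) * m⁻¹) (by rw [ex]; group)
        (m2 _ hk (by rw [cj_eq.2 s4]; exact mem_zpowers _))
        (h.conj' mz (mul_mem (h.tt σ ▸ h.mul (IsConj.refl z) (h.cz t h.tD.1) (h.cz _ (h.XS c))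
          (h.notE h.tD) fun e => c1 (h.XE c e)) he.1.2))
        (h.comm0 (zp_trans h.c0X m1) (by rw [conj_mul, d2, cj_eq.2 mz])
          (by rw [conj_mul, conj_mul, s4]))
      have m4 := h.Zcomm m3 (h.closed (mem_sup_right h.c0X)
        (m2 _ (h.XS h.c0X) (s5 ▸ inv_mem (mem_zpowers _))))
      rw [conj_mul, conj_mul, mul_left_inj, mul_right_inj, ← cj_eq, s2] at m4
      exact h.c0ne m4

end F2

end Cfsg.Agent.H59.Std
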